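import Mathlib
import Cfsg.Agent.Lib.Descent.FixedField

/-!
The Hermitian form `Σ uᵢ vᵢ^q` over a field with `q²` elements: the conjugation and its traces and
norms.
-/

set_option autoImplicit false

namespace CfsgLib.SU

open Matrix CfsgLib.Descent

/-- The conjugation `x ↦ x^q` as an automorphism of order two. -/
structure UCtx (F : Type*) [Field F] (q : ℕ) where
  bar : RingAut F
  order_two : orderOf bar = 2
  bar_eq : ∀ x, bar x = x ^ q

variable {F : Type*} [Field F] {q : ℕ} (C : UCtx F q) {n : ℕ}

theorem UCtx.bar_bar (x : F) : C.bar (C.bar x) = x := by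
  have h : C.bar * C.bar = 1 := by rw [← sq, ← C.order_two, pow_orderOf_eq_one]
  exact congrArg (fun τ : RingAut F => τ x) h

theorem UCtx.q_ne_zero (C : UCtx F q) : q ≠ 0 := by
  intro h
  have := C.bar_eq 0
  rw [map_zero, h, pow_zero] at this
  exact zero_ne_one this

theorem UCtx.exists_not_fixed : ∃ y, C.bar y ≠ y := by
  by_contra hcon
  simp only [not_exists, not_not] at hcon
  have h1 : C.bar = 1 := RingEquiv.ext hcon
  have := C.order_two
  simp [h1] at this

/-- Coordinates over the fixed field. -/
theorem UCtx.exists_decomp {a : F} (ha : C.bar a ≠ a) (x : F) :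
    ∃ r s : F, C.bar r = r ∧ C.bar s = s ∧ x = r + s * a := by
  have hd : a - C.bar a ≠ 0 := sub_ne_zero.2 (Ne.symm ha)
  have hd' : C.bar a - a ≠ 0 := sub_ne_zero.2 ha
  refine ⟨x - (x - C.bar x) / (a - C.bar a) * a, (x - C.bar x) / (a - C.bar a), ?_, ?_, by ring⟩
  · simp only [map_sub, map_mul, map_div₀, C.bar_bar]
    field_simp
    ring
  · simp only [map_div₀, map_sub, C.bar_bar]
    field_simp
    ring

/-- An element with non-zero trace outside the fixed field. -/
theorem UCtx.exists_trace_ne_zero : ∃ y, C.bar y ≠ y ∧ y + C.bar y ≠ 0 := by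
  obtain ⟨y, hy⟩ := C.exists_not_fixed
  by_cases h : y + C.bar y = 0
  · refine ⟨y + 1, by simpa using hy, ?_⟩
    rw [map_add, map_one]
    intro h2
    have h3 : (1 : F) + 1 = 0 := by linear_combination h2 - h
    apply hy
    linear_combination h - y * h3
  · exact ⟨y, hy, h⟩

theorem UCtx.exists_trace {c : F} (hc : C.bar c = c) : ∃ x, x + C.bar x = c := by
  obtain ⟨y, -, hy⟩ := C.exists_trace_ne_zero
  refine ⟨c * y / (y + C.bar y), ?_⟩
  have hb : C.bar (y + C.bar y) = y + C.bar y := by rw [map_add, C.bar_bar, add_comm]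
  rw [map_div₀, map_mul, hc, hb, ← add_div, ← mul_add, mul_div_assoc, div_self hy, mul_one]

theorem UCtx.exists_trace_zero : ∃ δ, δ ≠ 0 ∧ δ + C.bar δ = 0 := by
  obtain ⟨y, hy⟩ := C.exists_not_fixed
  exact ⟨y - C.bar y, sub_ne_zero.2 (Ne.symm hy), by rw [map_sub, C.bar_bar]; ring⟩

theorem UCtx.exists_norm [Finite F] {c : F} (hc : C.bar c = c) : ∃ x, x * C.bar x = c := by
  rcases eq_or_ne c 0 with rfl | hc0
  · exact ⟨0, by simp⟩
  obtain ⟨x, -, hx⟩ := exists_norm_eq C.order_two two_pos hc0 hc
  rw [Finset.prod_range_succ, Finset.prod_range_one, pow_zero, pow_one] at hx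
  exact ⟨x, hx⟩

theorem UCtx.norm_fixed (x : F) : C.bar (x * C.bar x) = x * C.bar x := by
  rw [map_mul, C.bar_bar, mul_comm]

/-- The form. -/
def UCtx.form (u v : Fin n → F) : F := ∑ i, u i * C.bar (v i)

theorem UCtx.hermForm_eq (u v : Fin n → F) :
    ∑ i, u i * v i ^ q = C.form u v := by
  simp [UCtx.form, C.bar_eq]

theorem UCtx.form_add_left (u u' v : Fin n → F) : C.form (u + u') v = C.form u v + C.form u' v := by
  simp [UCtx.form, add_mul, Finset.sum_add_distrib]

theorem UCtx.form_smul_left (a : F) (u v : Fin n → F) : C.form (a • u) v = a * C.form u v := by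
  simp [UCtx.form, Finset.mul_sum, mul_assoc]

theorem UCtx.form_zero_left (v : Fin n → F) : C.form 0 v = 0 := by simp [UCtx.form]

theorem UCtx.form_zero_right (v : Fin n → F) : C.form v 0 = 0 := by simp [UCtx.form]

theorem UCtx.bar_form (u v : Fin n → F) : C.bar (C.form u v) = C.form v u := by
  simp [UCtx.form, map_sum, C.bar_bar, mul_comm]

theorem UCtx.form_add_right (u v v' : Fin n → F) : C.form u (v + v') = C.form u v + C.form u v' := by
  simp [UCtx.form, map_add, mul_add, Finset.sum_add_distrib]

theorem UCtx.form_smul_right (a : F) (u v : Fin n → F) :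
    C.form u (a • v) = C.bar a * C.form u v := by
  simp [UCtx.form, map_mul, Finset.mul_sum, mul_left_comm]

theorem UCtx.form_self_fixed (u : Fin n → F) : C.bar (C.form u u) = C.form u u := C.bar_form u u

theorem UCtx.form_sub_left (u u' v : Fin n → F) : C.form (u - u') v = C.form u v - C.form u' v := by
  simp [UCtx.form, sub_mul, Finset.sum_sub_distrib]

theorem UCtx.form_sub_right (u v v' : Fin n → F) : C.form u (v - v') = C.form u v - C.form u v' := by
  simp [UCtx.form, map_sub, mul_sub, Finset.sum_sub_distrib]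

theorem UCtx.form_neg_left (u v : Fin n → F) : C.form (-u) v = -C.form u v := by
  simp [UCtx.form]

theorem UCtx.form_neg_right (u v : Fin n → F) : C.form u (-v) = -C.form u v := by
  simp [UCtx.form]

theorem UCtx.form_sum_left {α : Type*} (s : Finset α) (u : α → Fin n → F) (v : Fin n → F) :
    C.form (∑ a ∈ s, u a) v = ∑ a ∈ s, C.form (u a) v := by
  simp only [UCtx.form, Finset.sum_apply, Finset.sum_mul]
  exact Finset.sum_comm

theorem UCtx.form_swap_zero {u v : Fin n → F} (h : C.form u v = 0) : C.form v u = 0 := by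
  rw [← C.bar_form, h, map_zero]

theorem UCtx.eq_zero_of_form {u : Fin n → F} (h : ∀ v, C.form u v = 0) : u = 0 := by
  classical
  funext i
  simpa [UCtx.form, Pi.single_apply, apply_ite C.bar] using h (Pi.single i 1)

theorem UCtx.eq_zero_of_form' {u : Fin n → F} (h : ∀ v, C.form v u = 0) : u = 0 :=
  C.eq_zero_of_form fun v => C.form_swap_zero (h v)

theorem UCtx.exists_form_eq_one {u : Fin n → F} (hu : u ≠ 0) : ∃ v, C.form v u = 1 := by
  by_contra hcon
  refine hu (C.eq_zero_of_form' fun v => ?_)
  by_contra hv
  exact hcon ⟨(C.form v u)⁻¹ • v, by rw [C.form_smul_left, inv_mul_cancel₀ hv]⟩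

theorem UCtx.exists_orth_two (hn : 3 ≤ n) (v w : Fin n → F) :
    ∃ x : Fin n → F, x ≠ 0 ∧ C.form x v = 0 ∧ C.form x w = 0 := by
  let L : (Fin n → F) →ₗ[F] (Fin 2 → F) :=
    { toFun := fun x => ![C.form x v, C.form x w]
      map_add' := fun x y => by ext i; fin_cases i <;> simp [C.form_add_left]
      map_smul' := fun a x => by ext i; fin_cases i <;> simp [C.form_smul_left] }
  have hlt : Module.finrank F (Fin 2 → F) < Module.finrank F (Fin n → F) := by simp; omega
  obtain ⟨x, hx, hx0⟩ :=
    Submodule.exists_mem_ne_zero_of_ne_bot (LinearMap.ker_ne_bot_of_finrank_lt (f := L) hlt)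
  have h := LinearMap.mem_ker.1 hx
  exact ⟨x, hx0, congrFun h 0, congrFun h 1⟩

/-- A hyperbolic partner inside the orthogonal of a vector. -/
theorem UCtx.exists_partner {e y : Fin n → F} (he : C.form e e = 0) (hy : C.form e y = 1) :
    ∃ κ : F, C.form (y + κ • e) (y + κ • e) = 0 ∧ C.form e (y + κ • e) = 1 := by
  obtain ⟨x, hx⟩ := C.exists_trace (c := -C.form y y) (by rw [map_neg, C.form_self_fixed])
  have hy' : C.form y e = 1 := by rw [← C.bar_form, hy, map_one]
  refine ⟨x, ?_, ?_⟩
  · simp only [C.form_add_left, C.form_add_right, C.form_smul_left, C.form_smul_right, he, hy, hy']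
    linear_combination hx
  · rw [C.form_add_right, C.form_smul_right, he, hy]; simp

/-- There is an isotropic vector. -/
theorem UCtx.exists_isotropic [Finite F] (hn : 2 ≤ n) :
    ∃ e : Fin n → F, e ≠ 0 ∧ C.form e e = 0 := by
  classical
  obtain ⟨a, ha⟩ := C.exists_norm (c := (-1 : F)) (by rw [map_neg, map_one])
  refine ⟨Pi.single ⟨0, by omega⟩ 1 + a • Pi.single ⟨1, by omega⟩ 1, fun h => ?_, ?_⟩
  · simpa [Pi.single_apply, Fin.ext_iff] using congrFun h ⟨0, by omega⟩
  · have h1 : ∀ i j : Fin n, C.form (Pi.single i 1) (Pi.single j 1) = if i = j then 1 else 0 := by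
      intro i j
      simp [UCtx.form, Pi.single_apply, apply_ite C.bar, eq_comm]
    simp only [C.form_add_left, C.form_add_right, C.form_smul_left, C.form_smul_right, h1]
    simp [ha]

/-- Separation of isotropic vectors inside the orthogonal of finitely many vectors. -/
theorem UCtx.exists_isotropic_sep {K : Submodule F (Fin n → F)} {v y : Fin n → F} (hv : v ∈ K)
    (hv0 : C.form v v = 0) (hy : y ∈ K) {w : Fin n → F} (hyv : C.form y v = 0)
    (hyw : C.form y w = 1) (hw : w ∈ K) (hw0 : C.form w w = 0) :
    ∃ z ∈ K, C.form z z = 0 ∧ C.form z v = 0 ∧ C.form z w ≠ 0 := by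
  by_cases hvw : C.form v w = 0
  · obtain ⟨κ, hκ1, -⟩ := C.exists_partner hw0 (y := y) (by rw [← C.bar_form, hyw, map_one])
    refine ⟨y + κ • w, add_mem hy (K.smul_mem κ hw), hκ1, ?_, ?_⟩
    · rw [C.form_add_left, C.form_smul_left, hyv, C.form_swap_zero hvw]; simp
    · rw [C.form_add_left, C.form_smul_left, hyw, hw0]; simp
  · exact ⟨v, hv, hv0, hv0, hvw⟩

/-- Orthogonality to a non-trivial vector. -/
theorem UCtx.eq_smul_of_orth {v w : Fin n → F} (hv : v ≠ 0)
    (h : ∀ x, C.form x v = 0 → C.form x w = 0) : ∃ a : F, w = a • v := by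
  obtain ⟨x₀, hx₀⟩ := C.exists_form_eq_one hv
  refine ⟨C.bar (C.form x₀ w), ?_⟩
  rw [← sub_eq_zero]
  refine C.eq_zero_of_form' fun x => ?_
  have h2 := h (x - C.form x v • x₀) (by rw [C.form_sub_left, C.form_smul_left, hx₀]; ring)
  rw [C.form_sub_left, C.form_smul_left] at h2
  rw [C.form_sub_right, C.form_smul_right, C.bar_bar]
  linear_combination h2

/-- Two isotropic vectors with the same isotropic orthogonal are proportional. -/
theorem UCtx.eq_smul_of_isotropic_orth {v w : Fin n → F} (hv : v ≠ 0) (hv0 : C.form v v = 0)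
    (hw0 : C.form w w = 0)
    (h : ∀ x, C.form x x = 0 → C.form x v = 0 → C.form x w = 0) : ∃ a : F, w = a • v := by
  by_contra hcon
  obtain ⟨y, hyv, hyw⟩ : ∃ y, C.form y v = 0 ∧ C.form y w = 1 := by
    by_contra hy
    refine hcon (C.eq_smul_of_orth hv fun x hx => ?_)
    by_contra hxw
    exact hy ⟨(C.form x w)⁻¹ • x, by rw [C.form_smul_left, hx, mul_zero],
      by rw [C.form_smul_left, inv_mul_cancel₀ hxw]⟩
  obtain ⟨z, -, hz0, hzv, hzw⟩ := C.exists_isotropic_sep (K := ⊤) (v := v) (y := y) (w := w)
    trivial hv0 trivial hyv hyw trivial hw0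
  exact hzw (h z hz0 hzv)

/-- A hyperbolic pair. -/
structure UPair (C : UCtx F q) (n : ℕ) where
  e : Fin n → F
  f : Fin n → F
  ee : C.form e e = 0
  ff : C.form f f = 0
  ef : C.form e f = 1

variable {C}

theorem UPair.fe (P : UPair C n) : C.form P.f P.e = 1 := by rw [← C.bar_form, P.ef, map_one]

theorem UPair.e_ne_zero (P : UPair C n) : P.e ≠ 0 := fun h => by
  have := P.ef; rw [h, C.form_zero_left] at this; exact zero_ne_one this

theorem UPair.f_ne_zero (P : UPair C n) : P.f ≠ 0 := fun h => by
  have := P.fe; rw [h, C.form_zero_left] at this; exact zero_ne_one this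

/-- The orthogonal of the pair. -/
def UPair.perp (P : UPair C n) : Submodule F (Fin n → F) where
  carrier := {w | C.form w P.e = 0 ∧ C.form w P.f = 0}
  add_mem' {a b} ha hb := ⟨by rw [C.form_add_left, ha.1, hb.1, add_zero],
    by rw [C.form_add_left, ha.2, hb.2, add_zero]⟩
  zero_mem' := ⟨C.form_zero_left _, C.form_zero_left _⟩
  smul_mem' a u hu := ⟨by rw [C.form_smul_left, hu.1, mul_zero],
    by rw [C.form_smul_left, hu.2, mul_zero]⟩

theorem UPair.mem_perp (P : UPair C n) {w : Fin n → F} :
    w ∈ P.perp ↔ C.form w P.e = 0 ∧ C.form w P.f = 0 := Iff.rfl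

/-- The component in the orthogonal of the pair. -/
def UPair.proj (P : UPair C n) (x : Fin n → F) : Fin n → F :=
  x - C.form x P.f • P.e - C.form x P.e • P.f

theorem UPair.proj_mem (P : UPair C n) (x : Fin n → F) : P.proj x ∈ P.perp := by
  simp only [UPair.mem_perp, UPair.proj, C.form_sub_left, C.form_smul_left, P.ee, P.ef, P.fe, P.ff]
  constructor <;> ring

theorem UPair.decomp (P : UPair C n) (x : Fin n → F) :
    x = C.form x P.f • P.e + C.form x P.e • P.f + P.proj x := by
  unfold UPair.proj; abel

variable (C)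

theorem UCtx.exists_pair [Finite F] (hn : 2 ≤ n) : Nonempty (UPair C n) := by
  obtain ⟨e, he0, he⟩ := C.exists_isotropic (n := n) hn
  obtain ⟨y, hy⟩ := C.exists_form_eq_one he0
  obtain ⟨κ, h1, h2⟩ := C.exists_partner he (y := y) (by rw [← C.bar_form, hy, map_one])
  exact ⟨⟨e, y + κ • e, he, h1, h2⟩⟩

variable {C}

/-- An orthonormal basis of the orthogonal of a pair. -/
theorem UPair.exists_basis [Finite F] (P : UPair C n) :
    ∃ u : Fin (n - 2) → Fin n → F, (∀ i, u i ∈ P.perp) ∧
      (∀ i j, C.form (u i) (u j) = if i = j then 1 else 0) ∧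
      ∀ w ∈ P.perp, w = ∑ i, C.form w (u i) • u i := by
  classical
  have key : ∀ k, k ≤ n - 2 → ∃ u : Fin k → Fin n → F, (∀ i, u i ∈ P.perp) ∧
      ∀ i j, C.form (u i) (u j) = if i = j then 1 else 0 := by
    intro k
    induction k with
    | zero => exact fun _ => ⟨Fin.elim0, fun i => i.elim0, fun i => i.elim0⟩
    | succ k ih =>
      intro hk
      obtain ⟨u, hu, huu⟩ := ih (by omega)
      let L : (Fin n → F) →ₗ[F] (Fin k ⊕ Bool → F) :=
        { toFun := fun x a => Sum.elim (fun i => C.form x (u i))
            (fun b => cond b (C.form x P.e) (C.form x P.f)) a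
          map_add' := fun x y => by
            ext a; rcases a with i | b <;> [skip; cases b] <;> simp [C.form_add_left]
          map_smul' := fun c x => by
            ext a; rcases a with i | b <;> [skip; cases b] <;> simp [C.form_smul_left] }
      have hlt : Module.finrank F (Fin k ⊕ Bool → F) < Module.finrank F (Fin n → F) := by
        simp; omega
      obtain ⟨x, hx, hx0⟩ :=
        Submodule.exists_mem_ne_zero_of_ne_bot (LinearMap.ker_ne_bot_of_finrank_lt (f := L) hlt)
      have hmem : ∀ y, L y = 0 → y ∈ P.perp ∧ ∀ i, C.form y (u i) = 0 := fun y hy =>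
        ⟨⟨congrFun hy (.inr true), congrFun hy (.inr false)⟩, fun i => congrFun hy (.inl i)⟩
      obtain ⟨z, hz, hzz⟩ : ∃ z, L z = 0 ∧ C.form z z ≠ 0 := by
        by_contra hcon
        push Not at hcon
        refine hx0 (C.eq_zero_of_form' fun v => ?_)
        -- polarise on the kernel
        have hpol : ∀ y, L y = 0 → C.form y x = 0 := by
          intro y hy
          by_contra hne
          obtain ⟨d, -, hd⟩ := C.exists_trace_ne_zero
          have h1 := hcon ((d / C.form y x) • y + x)
            (by rw [map_add, map_smul, hy, LinearMap.mem_ker.1 hx]; simp)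
          simp only [C.form_add_left, C.form_add_right, C.form_smul_left, C.form_smul_right,
            hcon y hy, hcon x (LinearMap.mem_ker.1 hx)] at h1
          rw [← C.bar_form y x, ← map_mul, div_mul_cancel₀ _ hne] at h1
          exact hd (by linear_combination h1)
        set y := v - C.form v P.f • P.e - C.form v P.e • P.f - ∑ i, C.form v (u i) • u i with hy
        have hxm := hmem x (LinearMap.mem_ker.1 hx)
        have hLy : L y = 0 := by
          ext a
          rcases a with i | b
          · show C.form y (u i) = 0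
            simp only [hy, C.form_sub_left, C.form_smul_left, C.form_sum_left, huu,
              C.form_swap_zero (hu i).1, C.form_swap_zero (hu i).2]
            simp
          · cases b
            · show C.form y P.f = 0
              simp only [hy, C.form_sub_left, C.form_smul_left, C.form_sum_left, P.ef, P.ff,
                fun j => (hu j).2]
              simp
            · show C.form y P.e = 0
              simp only [hy, C.form_sub_left, C.form_smul_left, C.form_sum_left, P.ee, P.fe,
                fun j => (hu j).1]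
              simp
        have h2 := hpol y hLy
        simp only [hy, C.form_sub_left, C.form_smul_left, C.form_sum_left,
          C.form_swap_zero hxm.1.1, C.form_swap_zero hxm.1.2,
          fun i => C.form_swap_zero (hxm.2 i)] at h2
        simpa using h2
      obtain ⟨a, ha⟩ := C.exists_norm (c := (C.form z z)⁻¹) (by rw [map_inv₀, C.form_self_fixed])
      obtain ⟨hzP, hzu⟩ := hmem z hz
      refine ⟨Fin.snoc u (a • z), fun i => ?_, fun i j => ?_⟩
      · refine Fin.lastCases ?_ (fun i => ?_) i <;> simp [hu, P.perp.smul_mem a hzP]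
      · refine Fin.lastCases ?_ (fun i => ?_) i <;> refine Fin.lastCases ?_ (fun j => ?_) j <;>
          simp only [Fin.snoc_last, Fin.snoc_castSucc, C.form_smul_left, C.form_smul_right]
        · rw [if_pos trivial, ← mul_assoc, ha, inv_mul_cancel₀ hzz]
        · rw [hzu, mul_zero, if_neg (Fin.castSucc_lt_last j).ne']
        · rw [C.form_swap_zero (hzu i), mul_zero, if_neg (Fin.castSucc_lt_last i).ne]
        · rw [huu]; simp
  obtain ⟨u, hu, huu⟩ := key _ le_rfl
  refine ⟨u, hu, huu, fun w hw => ?_⟩
  by_cases hn : n < 2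
  · -- degenerate dimensions carry no pair
    exfalso
    rcases n with _ | _ | n
    · exact P.e_ne_zero (Subsingleton.elim _ _)
    · have h := P.ef
      have h2 := P.ee
      simp [UCtx.form] at h h2
      simp [h2] at h
    · omega
  let L : (Fin n → F) →ₗ[F] (Fin (n - 2) ⊕ Bool → F) :=
    { toFun := fun x a => Sum.elim (fun i => C.form x (u i))
        (fun b => cond b (C.form x P.e) (C.form x P.f)) a
      map_add' := fun x y => by
        ext a; rcases a with i | b <;> [skip; cases b] <;> simp [C.form_add_left]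
      map_smul' := fun c x => by
        ext a; rcases a with i | b <;> [skip; cases b] <;> simp [C.form_smul_left] }
  have hsurj : Function.Surjective L := by
    intro g
    refine ⟨(∑ i, g (.inl i) • u i) + g (.inr true) • P.f + g (.inr false) • P.e, ?_⟩
    ext a
    rcases a with i | b
    · show C.form _ (u i) = _
      simp only [C.form_add_left, C.form_sum_left, C.form_smul_left, huu,
        C.form_swap_zero (hu i).1, C.form_swap_zero (hu i).2]
      simp
    · cases b
      · show C.form _ P.f = _
        simp only [C.form_add_left, C.form_sum_left, C.form_smul_left, P.ef, P.ff, fun j => (hu j).2]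
        simp
      · show C.form _ P.e = _
        simp only [C.form_add_left, C.form_sum_left, C.form_smul_left, P.ee, P.fe, fun j => (hu j).1]
        simp
  have hinj : Function.Injective L :=
    (LinearMap.injective_iff_surjective_of_finrank_eq_finrank (by simp; omega)).2 hsurj
  refine hinj ?_
  ext a
  rcases a with i | b
  · show C.form w (u i) = C.form _ (u i)
    simp only [C.form_sum_left, C.form_smul_left, huu]
    simp
  · cases b
    · show C.form w P.f = C.form _ P.f
      simp only [C.form_sum_left, C.form_smul_left, fun j => (hu j).2, hw.2]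
      simp
    · show C.form w P.e = C.form _ P.e
      simp only [C.form_sum_left, C.form_smul_left, fun j => (hu j).1, hw.1]
      simp

end CfsgLib.SU
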