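import Mathlib
import Cfsg.Prelude.Def_Classical
import Cfsg.Agent.Lib.SU.Ctx

/-!
Unitary transvections and Eichler transformations in `SU` and `PSU`.
-/

set_option autoImplicit false

namespace CfsgLib.SU

open Matrix

variable {F : Type*} [Field F] {q : ℕ} (C : UCtx F q) {n : ℕ}

local notation "V" => (Fin n → F)

/-- The map `x ↦ x + c h(x, y) v`. -/
def UCtx.rmap (v y : Fin n → F) (c : F) : Matrix (Fin n) (Fin n) F :=
  1 + Matrix.vecMulVec (c • v) (fun j => C.bar (y j))

theorem UCtx.rmap_mulVec (v y : V) (c : F) (x : V) :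
    C.rmap v y c *ᵥ x = x + (c * C.form x y) • v := by
  rw [UCtx.rmap, Matrix.add_mulVec, Matrix.one_mulVec, Matrix.vecMulVec_mulVec, op_smul_eq_smul,
    smul_smul, show (fun j => C.bar (y j)) ⬝ᵥ x = C.form x y by
      simp [dotProduct, UCtx.form, mul_comm], mul_comm]

theorem UCtx.det_rmap (v y : V) (c : F) : (C.rmap v y c).det = 1 + c * C.form v y := by
  rw [UCtx.rmap, Matrix.vecMulVec_eq (ι := Unit), Matrix.det_one_add_replicateCol_mul_replicateRow]
  simp [dotProduct, UCtx.form, Finset.mul_sum, mul_comm, mul_assoc, mul_left_comm]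

theorem suMat_mulVec_mul (A B : ↥(Cfsg.SU n F q)) (x : V) :
    (A * B).1.1 *ᵥ x = A.1.1 *ᵥ (B.1.1 *ᵥ x) := by
  rw [Matrix.mulVec_mulVec]; rfl

theorem su_one_mulVec (x : V) : (1 : ↥(Cfsg.SU n F q)).1.1 *ᵥ x = x := Matrix.one_mulVec x

theorem su_inv_mulVec (A : ↥(Cfsg.SU n F q)) (x : V) : (A⁻¹).1.1 *ᵥ (A.1.1 *ᵥ x) = x := by
  rw [← suMat_mulVec_mul, inv_mul_cancel, su_one_mulVec]

theorem su_mulVec_inv (A : ↥(Cfsg.SU n F q)) (x : V) : A.1.1 *ᵥ ((A⁻¹).1.1 *ᵥ x) = x := by
  rw [← suMat_mulVec_mul, mul_inv_cancel, su_one_mulVec]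

theorem su_mulVec_ne_zero (A : ↥(Cfsg.SU n F q)) {x : V} (hx : x ≠ 0) : A.1.1 *ᵥ x ≠ 0 :=
  fun h => hx (by rw [← su_inv_mulVec A x, h, Matrix.mulVec_zero])

theorem su_ext {A B : ↥(Cfsg.SU n F q)} (h : ∀ x, A.1.1 *ᵥ x = B.1.1 *ᵥ x) : A = B :=
  Subtype.ext (Subtype.ext (Matrix.ext_iff_mulVec.2 h))

theorem UCtx.form_su (A : ↥(Cfsg.SU n F q)) (u v : V) :
    C.form (A.1.1 *ᵥ u) (A.1.1 *ᵥ v) = C.form u v := by
  have h := A.2 u v
  unfold Cfsg.hermForm at h
  rw [C.hermForm_eq, C.hermForm_eq] at h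
  exact h

/-- An element of `SU` from a determinant-one matrix preserving the form. -/
def UCtx.mkSU (M : Matrix (Fin n) (Fin n) F) (hd : M.det = 1)
    (hf : ∀ u v, C.form (M *ᵥ u) (M *ᵥ v) = C.form u v) : ↥(Cfsg.SU n F q) :=
  ⟨⟨M, hd⟩, fun u v => by
    show Cfsg.hermForm n F q (M *ᵥ u) (M *ᵥ v) = Cfsg.hermForm n F q u v
    unfold Cfsg.hermForm
    rw [C.hermForm_eq, C.hermForm_eq, hf]⟩

theorem UCtx.mkSU_val (M : Matrix (Fin n) (Fin n) F) (hd : M.det = 1)
    (hf : ∀ u v, C.form (M *ᵥ u) (M *ᵥ v) = C.form u v) : (C.mkSU M hd hf).1.1 = M := rfl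

/-- A transvection, for an isotropic `v` and a trace-zero `t`. -/
def UCtx.tv (v : Fin n → F) (hv : C.form v v = 0) (t : F) (ht : t + C.bar t = 0) :
    ↥(Cfsg.SU n F q) :=
  C.mkSU (C.rmap v v t) (by rw [C.det_rmap, hv, mul_zero, add_zero]) fun x y => by
    simp only [C.rmap_mulVec, C.form_add_left, C.form_add_right, C.form_smul_left,
      C.form_smul_right, hv, map_mul, C.bar_form]
    linear_combination (C.form x v * C.form v y) * ht

theorem UCtx.tv_mulVec (v : V) (hv : C.form v v = 0) (t : F) (ht : t + C.bar t = 0) (x : V) :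
    (C.tv v hv t ht).1.1 *ᵥ x = x + (t * C.form x v) • v := C.rmap_mulVec v v t x

theorem UCtx.tv_conj (A : ↥(Cfsg.SU n F q)) (v : V) (hv : C.form v v = 0) (t : F)
    (ht : t + C.bar t = 0) :
    A * C.tv v hv t ht * A⁻¹ = C.tv (A.1.1 *ᵥ v) (by rw [C.form_su, hv]) t ht := by
  refine su_ext fun x => ?_
  rw [suMat_mulVec_mul, suMat_mulVec_mul, C.tv_mulVec, C.tv_mulVec, Matrix.mulVec_add,
    Matrix.mulVec_smul, su_mulVec_inv]
  congr 3
  conv_rhs => rw [← su_mulVec_inv A x, C.form_su]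

theorem UCtx.tv_commute {v w : V} (hv : C.form v v = 0) (hw : C.form w w = 0)
    (h : C.form v w = 0) (t s : F) (ht : t + C.bar t = 0) (hs : s + C.bar s = 0) :
    Commute (C.tv v hv t ht) (C.tv w hw s hs) := by
  refine su_ext fun x => ?_
  simp only [suMat_mulVec_mul, C.tv_mulVec, C.form_add_left, C.form_smul_left, h,
    C.form_swap_zero h, mul_zero, add_zero]
  abel

/-- The projection to `PSU`. -/
abbrev pr : ↥(Cfsg.SU n F q) →* Cfsg.PSU n F q := QuotientGroup.mk' _

theorem eigen_const {ι : Type*} [Fintype ι] [DecidableEq ι] [Nonempty ι] {f : (ι → F) →ₗ[F] (ι → F)}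
    (h : ∀ v, ∃ c : F, f v = c • v) : ∃ c : F, ∀ v, f v = c • v := by
  let e : ι → ι → F := fun i => Pi.single i 1
  choose c hc using h
  have key : ∀ i j, c (e i) = c (e j) := by
    intro i j
    rcases eq_or_ne i j with rfl | hij
    · rfl
    have h1 : c (e i) • e i + c (e j) • e j = c (e i + e j) • (e i + e j) := by
      rw [← hc, ← hc, ← hc, map_add]
    have hi := congrFun h1 i
    have hj := congrFun h1 j
    simp [e, hij, hij.symm] at hi hj
    rw [hi, hj]
  obtain ⟨i₀⟩ := ‹Nonempty ι›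
  refine ⟨c (e i₀), fun v => ?_⟩
  conv_lhs => rw [pi_eq_sum_univ' v, map_sum]
  conv_rhs => rw [pi_eq_sum_univ' v, Finset.smul_sum]
  refine Finset.sum_congr rfl fun i _ => ?_
  rw [map_smul, hc, key i i₀, smul_comm]

theorem scalar_central {A : ↥(Cfsg.SU n F q)} {c : F} (h : A.1.1 = c • 1)
    (B : ↥(Cfsg.SU n F q)) : B * A = A * B := by
  refine su_ext fun x => ?_
  simp [suMat_mulVec_mul, h, Matrix.smul_mulVec, Matrix.mulVec_smul]

section center

variable [Finite F] (hn : 3 ≤ n)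

include C hn

/-- Scalar is detected on isotropic vectors. -/
theorem UCtx.scalar_of_isotropic_eigen {M : Matrix (Fin n) (Fin n) F}
    (hform : ∀ u v, C.form (M *ᵥ u) (M *ᵥ v) = C.form u v)
    (h : ∀ v : V, v ≠ 0 → C.form v v = 0 → ∃ c : F, M *ᵥ v = c • v) :
    ∃ c : F, M = c • (1 : Matrix (Fin n) (Fin n) F) := by
  classical
  obtain ⟨P⟩ := C.exists_pair (n := n) (by omega)
  obtain ⟨a, ha⟩ := h P.e P.e_ne_zero P.ee
  obtain ⟨b, hb⟩ := h P.f P.f_ne_zero P.ff
  obtain ⟨δ, hδ0, hδ⟩ := C.exists_trace_zero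
  -- `e + δ f` is isotropic
  obtain ⟨d, hd⟩ := h (P.e + δ • P.f) (fun h0 => by
      have := congrArg (fun z => C.form z P.f) h0
      simp [C.form_add_left, C.form_smul_left, P.ef, P.ff, C.form_zero_left] at this) (by
    simp only [C.form_add_left, C.form_add_right, C.form_smul_left, C.form_smul_right, P.ee, P.ff,
      P.ef, P.fe]
    linear_combination hδ)
  rw [Matrix.mulVec_add, Matrix.mulVec_smul, ha, hb] at hd
  have hda : a = d := by
    have := congrArg (fun z => C.form z P.f) hd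
    simpa [C.form_add_left, C.form_smul_left, P.ef, P.ff] using this
  have hdb : b = d := by
    have := congrArg (fun z => C.form z P.e) hd
    simp [C.form_add_left, C.form_smul_left, P.ee, P.fe] at this
    exact mul_left_cancel₀ hδ0 (by linear_combination this)
  refine ⟨a, Matrix.ext_iff_mulVec.2 fun x => ?_⟩
  rw [Matrix.smul_mulVec, Matrix.one_mulVec]
  -- it suffices to treat the orthogonal of the pair
  suffices hW : ∀ w ∈ P.perp, M *ᵥ w = a • w by
    conv_lhs => rw [P.decomp x]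
    conv_rhs => rw [P.decomp x]
    rw [Matrix.mulVec_add, Matrix.mulVec_add, Matrix.mulVec_smul, Matrix.mulVec_smul, ha, hb,
      hW _ (P.proj_mem x), hdb, ← hda, smul_add, smul_add, smul_comm a, smul_comm a]
  intro w hw
  rcases eq_or_ne w 0 with rfl | hw0
  · simp
  obtain ⟨t, ht⟩ := C.exists_trace (c := -C.form w w) (by rw [map_neg, C.form_self_fixed])
  obtain ⟨k, hk⟩ := h (P.f + w + t • P.e) (fun h0 => by
      have := congrArg (fun z => C.form z P.e) h0
      simp [C.form_add_left, C.form_smul_left, P.fe, P.ee, hw.1, C.form_zero_left] at this) (by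
    simp only [C.form_add_left, C.form_add_right, C.form_smul_left, C.form_smul_right, P.ee, P.ff,
      P.ef, P.fe, hw.1, hw.2, C.form_swap_zero hw.1, C.form_swap_zero hw.2]
    linear_combination ht)
  rw [Matrix.mulVec_add, Matrix.mulVec_add, Matrix.mulVec_smul, ha, hb] at hk
  have hMw : C.form (M *ᵥ w) (M *ᵥ P.e) = 0 := by rw [hform, hw.1]
  have ha0 : a ≠ 0 := by
    intro h0
    have h2 := hform P.e P.f
    rw [ha, h0, zero_smul, C.form_zero_left, P.ef] at h2
    exact zero_ne_one h2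
  have hMwe : C.form (M *ᵥ w) P.e = 0 := by
    rw [ha, C.form_smul_right] at hMw
    exact (mul_eq_zero.1 hMw).resolve_left (by simpa using ha0)
  have hkb : b = k := by
    have := congrArg (fun z => C.form z P.e) hk
    simpa [C.form_add_left, C.form_smul_left, P.fe, P.ee, hw.1, hMwe] using this
  subst hkb
  have hba : b = a := hdb.trans hda.symm
  rw [hba, smul_add, smul_add, smul_comm a t] at hk
  exact add_left_cancel (add_right_cancel hk)

theorem UCtx.pr_eq_iff {A B : ↥(Cfsg.SU n F q)} :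
    pr A = pr B ↔ ∃ c : F, B.1.1 = c • A.1.1 := by
  classical
  haveI : Nonempty (Fin n) := ⟨⟨0, by omega⟩⟩
  rw [QuotientGroup.mk'_apply, QuotientGroup.mk'_apply, QuotientGroup.eq, Subgroup.mem_center_iff]
  constructor
  · intro h
    obtain ⟨c, hc⟩ := C.scalar_of_isotropic_eigen hn (M := (A⁻¹ * B).1.1)
      (fun u v => C.form_su _ u v) fun v hv hv0 => by
        obtain ⟨δ, hδ0, hδ⟩ := C.exists_trace_zero
        set Z := A⁻¹ * B
        have h2 : C.tv (Z.1.1 *ᵥ v) (by rw [C.form_su, hv0]) δ hδ = C.tv v hv0 δ hδ := by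
          rw [← C.tv_conj, ← h, mul_inv_cancel_right]
        obtain ⟨x, hx⟩ := C.exists_form_eq_one hv
        have h3 := congrArg (fun T : ↥(Cfsg.SU n F q) => T.1.1 *ᵥ x) h2
        simp only [C.tv_mulVec, hx, mul_one, add_right_inj, ← smul_smul] at h3
        have h4 := smul_right_injective (Fin n → F) hδ0 h3
        have hne : C.form x (Z.1.1 *ᵥ v) ≠ 0 := fun h0 => hv (by rw [← h4, h0, zero_smul])
        exact ⟨(C.form x (Z.1.1 *ᵥ v))⁻¹,
          (inv_smul_smul₀ hne _).symm.trans (congrArg ((C.form x (Z.1.1 *ᵥ v))⁻¹ • ·) h4)⟩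
    refine ⟨c, ?_⟩
    have : B.1.1 = A.1.1 * (A⁻¹ * B).1.1 := by
      show _ = (A * (A⁻¹ * B)).1.1
      rw [mul_inv_cancel_left]
    rw [this, hc, mul_smul_comm, mul_one]
  · rintro ⟨c, hc⟩ g
    refine scalar_central (c := c) ?_ g
    show (A⁻¹).1.1 * B.1.1 = c • 1
    rw [hc, mul_smul_comm]
    show c • (A⁻¹ * A).1.1 = c • 1
    rw [inv_mul_cancel]; rfl

theorem UCtx.pr_eq_fix {A B : ↥(Cfsg.SU n F q)} (h : pr A = pr B) {x : V} (hx : x ≠ 0)
    (hA : A.1.1 *ᵥ x = x) (hB : B.1.1 *ᵥ x = x) : A = B := by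
  obtain ⟨c, hc⟩ := (C.pr_eq_iff hn).1 h
  rw [hc, Matrix.smul_mulVec, hA] at hB
  obtain ⟨i, hi⟩ := Function.ne_iff.1 hx
  have : c = 1 := mul_right_cancel₀ hi (by simpa using congrFun hB i)
  rw [this, one_smul] at hc
  exact (Subtype.ext (Subtype.ext hc)).symm

theorem UCtx.pT_par {v w : V} {hv : C.form v v = 0} {hw : C.form w w = 0} {t s : F}
    {ht : t + C.bar t = 0} {hs : s + C.bar s = 0} (hv0 : v ≠ 0) (ht0 : t ≠ 0)
    (h : pr (C.tv v hv t ht) = pr (C.tv w hw s hs)) : ∃ a : F, v = a • w := by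
  obtain ⟨x, hx0, hxv, hxw⟩ := C.exists_orth_two hn v w
  have he := C.pr_eq_fix hn h hx0 (by rw [C.tv_mulVec, hxv]; simp) (by rw [C.tv_mulVec, hxw]; simp)
  obtain ⟨y, hy⟩ := C.exists_form_eq_one hv0
  have h2 := congrArg (fun T : ↥(Cfsg.SU n F q) => T.1.1 *ᵥ y) he
  simp only [C.tv_mulVec, hy, mul_one, add_right_inj] at h2
  exact ⟨t⁻¹ * (s * C.form y w), by rw [← smul_smul, ← h2, inv_smul_smul₀ ht0]⟩

theorem UCtx.pT_ne_one {v : V} {hv : C.form v v = 0} {t : F}
    {ht : t + C.bar t = 0} (hv0 : v ≠ 0) (ht0 : t ≠ 0) : pr (C.tv v hv t ht) ≠ 1 := by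
  intro h
  obtain ⟨x, hx0, hxv, -⟩ := C.exists_orth_two hn v v
  have h1 := C.pr_eq_fix hn (B := 1) (by rw [h, map_one]) hx0
    (by rw [C.tv_mulVec, hxv]; simp) (su_one_mulVec x)
  obtain ⟨y, hy⟩ := C.exists_form_eq_one hv0
  have h2 := congrArg (fun T : ↥(Cfsg.SU n F q) => T.1.1 *ᵥ y) h1
  simp only [C.tv_mulVec, su_one_mulVec, hy, mul_one, add_eq_left, smul_eq_zero] at h2
  exact h2.elim ht0 hv0

theorem UCtx.pT_commute_iff {v w : V} {hv : C.form v v = 0} {hw : C.form w w = 0} {t s : F}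
    {ht : t + C.bar t = 0} {hs : s + C.bar s = 0} (hw0 : w ≠ 0) (ht0 : t ≠ 0) (hs0 : s ≠ 0) :
    Commute (pr (C.tv v hv t ht)) (pr (C.tv w hw s hs)) ↔ C.form v w = 0 := by
  constructor
  · intro h
    have h0 := congrArg pr (C.tv_conj (C.tv v hv t ht) w hw s hs)
    simp only [map_mul, map_inv] at h0
    rw [h.eq, mul_inv_cancel_right] at h0
    have h1 := h0.symm
    obtain ⟨a, ha⟩ := C.pT_par hn (hv := (C.form_su _ w w).trans hw) (hw := hw) (su_mulVec_ne_zero _ hw0) hs0 h1
    by_contra hne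
    rw [C.tv_mulVec] at ha
    have h2 := congrArg (fun z => C.form z w) ha
    simp only [C.form_add_left, C.form_smul_left, hw, mul_zero, zero_add, mul_eq_zero] at h2
    have hne' : C.form w v ≠ 0 := fun h0 => hne (C.form_swap_zero h0)
    simp [ht0, hne, hne'] at h2
  · intro h
    exact (C.tv_commute hv hw h t s ht hs).map pr

omit hn in
/-- The move sending `v` to a multiple of `w` when they are not orthogonal. -/
theorem UCtx.exists_move_direct {v w : V} (hv : C.form v v = 0) (hw : C.form w w = 0)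
    (h : C.form v w ≠ 0) :
    ∃ (A : ↥(Cfsg.SU n F q)) (a : F), a ≠ 0 ∧ A.1.1 *ᵥ v = a • w := by
  obtain ⟨δ, hδ0, hδ⟩ := C.exists_trace_zero
  set a := C.bar (δ / C.form v w) with ha
  have hvw : C.bar a * C.form v w = δ := by rw [ha, C.bar_bar, div_mul_cancel₀ _ h]
  have hwv : a * C.form w v = C.bar δ := by
    rw [← hvw, map_mul, C.bar_bar, C.bar_form]
  have hiso : C.form (a • w - v) (a • w - v) = 0 := by
    simp only [C.form_sub_left, C.form_sub_right, C.form_smul_left, C.form_smul_right, hv, hw]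
    linear_combination (-1 : F) * hvw - hwv - hδ
  have hinv : δ⁻¹ + C.bar δ⁻¹ = 0 := by
    have hb : C.bar δ = -δ := by linear_combination hδ
    rw [map_inv₀, hb, inv_neg, add_neg_cancel]
  refine ⟨C.tv (a • w - v) hiso δ⁻¹ hinv, a, ?_, ?_⟩
  · rw [ha]; simp [hδ0, h]
  · rw [C.tv_mulVec, C.form_sub_right, C.form_smul_right, hv, hvw, sub_zero,
      inv_mul_cancel₀ hδ0, one_smul]
    abel

/-- `SU` is transitive on isotropic points. -/
theorem UCtx.exists_move {v w : V} (hv0 : v ≠ 0) (hw0 : w ≠ 0) (hv : C.form v v = 0)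
    (hw : C.form w w = 0) :
    ∃ (A : ↥(Cfsg.SU n F q)) (a : F), a ≠ 0 ∧ A.1.1 *ᵥ v = a • w := by
  by_cases h : C.form v w = 0
  swap
  · exact C.exists_move_direct hv hw h
  obtain ⟨x, hx, hxv, hxw⟩ : ∃ x, C.form x x = 0 ∧ C.form v x ≠ 0 ∧ C.form x w ≠ 0 := by
    obtain ⟨y, hy⟩ := C.exists_form_eq_one hv0
    obtain ⟨c, hf1, hf2⟩ := C.exists_partner hv (y := y) (by rw [← C.bar_form, hy, map_one])
    set f := y + c • v
    by_cases hfw : C.form f w = 0
    swap
    · exact ⟨f, hf1, by rw [hf2]; exact one_ne_zero, hfw⟩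
    obtain ⟨z, hz⟩ := C.exists_form_eq_one hw0
    obtain ⟨d, hg1, hg2⟩ := C.exists_partner hw (y := z) (by rw [← C.bar_form, hz, map_one])
    set g := z + d • w
    have hgw : C.form g w = 1 := by rw [← C.bar_form, hg2, map_one]
    by_cases hvg : C.form v g = 0
    swap
    · exact ⟨g, hg1, hvg, by rw [hgw]; exact one_ne_zero⟩
    -- combine the two partners
    obtain ⟨k, hk⟩ := C.exists_trace (c := -(C.form (f + g) (f + g)))
      (by rw [map_neg, C.form_self_fixed])
    have hfv : C.form f v = 1 := by rw [← C.bar_form, hf2, map_one]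
    refine ⟨f + g + k • v, ?_, ?_, ?_⟩
    · simp only [C.form_add_left, C.form_add_right, C.form_smul_left, C.form_smul_right, hv,
        hf2, hfv, hvg, C.form_swap_zero hvg] at hk ⊢
      linear_combination hk
    · rw [C.form_add_right, C.form_add_right, C.form_smul_right, hf2, hvg, hv]; simp
    · rw [C.form_add_left, C.form_add_left, C.form_smul_left, hfw, hgw, h]; simp
  obtain ⟨A, a, ha, hA⟩ := C.exists_move_direct hv hx hxv
  obtain ⟨B, b, hb, hB⟩ := C.exists_move_direct hx hw hxw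
  exact ⟨B * A, a * b, mul_ne_zero ha hb, by
    rw [suMat_mulVec_mul, hA, Matrix.mulVec_smul, hB, smul_smul]⟩

end center

variable {C}

/-- The Eichler transformation `E(w, t)` of a pair. -/
def UPair.eich (P : UPair C n) (w : Fin n → F) (hw : w ∈ P.perp) (t : F)
    (ht : t + C.bar t + C.form w w = 0) : ↥(Cfsg.SU n F q) :=
  C.mkSU (C.rmap (w + t • P.e) P.e 1 * C.rmap P.e w (-1))
    (by
      rw [Matrix.det_mul, C.det_rmap, C.det_rmap, C.form_add_left, C.form_smul_left, P.ee, hw.1,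
        C.form_swap_zero hw.1]
      simp)
    fun x y => by
      simp only [← Matrix.mulVec_mulVec, C.rmap_mulVec, one_mul, C.form_add_left, C.form_add_right,
        C.form_smul_left, C.form_smul_right, P.ee, hw.1, C.form_swap_zero hw.1, map_mul, map_neg,
        map_one, map_add, map_zero, C.bar_form]
      linear_combination (C.form x P.e * C.form P.e y) * ht

theorem UPair.eich_mulVec (P : UPair C n) (w : V) (hw : w ∈ P.perp) (t : F)
    (ht : t + C.bar t + C.form w w = 0) (x : V) :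
    (P.eich w hw t ht).1.1 *ᵥ x =
      x + C.form x P.e • w + (t * C.form x P.e - C.form x w) • P.e := by
  rw [UPair.eich, UCtx.mkSU_val, ← Matrix.mulVec_mulVec, C.rmap_mulVec, C.rmap_mulVec]
  simp only [C.form_add_left, C.form_smul_left, P.ee, one_mul]
  module

theorem UPair.eich_e (P : UPair C n) (w : V) (hw : w ∈ P.perp) (t : F)
    (ht : t + C.bar t + C.form w w = 0) : (P.eich w hw t ht).1.1 *ᵥ P.e = P.e := by
  rw [P.eich_mulVec, P.ee, C.form_swap_zero hw.1]
  simp

theorem UPair.eich_f (P : UPair C n) (w : V) (hw : w ∈ P.perp) (t : F)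
    (ht : t + C.bar t + C.form w w = 0) :
    (P.eich w hw t ht).1.1 *ᵥ P.f = P.f + w + t • P.e := by
  rw [P.eich_mulVec, P.fe, C.form_swap_zero hw.2]
  simp

theorem UPair.eich_perp (P : UPair C n) (w : V) (hw : w ∈ P.perp) (t : F)
    (ht : t + C.bar t + C.form w w = 0) {x : V} (hx : x ∈ P.perp) :
    (P.eich w hw t ht).1.1 *ᵥ x = x - C.form x w • P.e := by
  rw [P.eich_mulVec, hx.1]
  simp [sub_eq_add_neg]

theorem UPair.eich_cond_mul (P : UPair C n) {w w' : V} {t t' : F}
    (ht : t + C.bar t + C.form w w = 0) (ht' : t' + C.bar t' + C.form w' w' = 0) :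
    (t + t' - C.form w' w) + C.bar (t + t' - C.form w' w) + C.form (w + w') (w + w') = 0 := by
  simp only [map_sub, map_add, C.bar_form, C.form_add_left, C.form_add_right]
  linear_combination ht + ht'

theorem UPair.eich_mul (P : UPair C n) (w w' : V) (hw : w ∈ P.perp) (hw' : w' ∈ P.perp) (t t' : F)
    (ht : t + C.bar t + C.form w w = 0) (ht' : t' + C.bar t' + C.form w' w' = 0) :
    P.eich w hw t ht * P.eich w' hw' t' ht' =
      P.eich (w + w') (P.perp.add_mem hw hw') (t + t' - C.form w' w) (P.eich_cond_mul ht ht') := by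
  refine su_ext fun x => ?_
  simp only [suMat_mulVec_mul, P.eich_mulVec, C.form_add_left, C.form_add_right, C.form_smul_left,
    P.ee, hw'.1, C.form_swap_zero hw.1, mul_zero, add_zero]
  module

theorem UPair.eich_zero_eq_tv (P : UPair C n) (t : F) (ht : t + C.bar t + C.form (0 : V) 0 = 0) :
    P.eich 0 P.perp.zero_mem t ht =
      C.tv P.e P.ee t (by rw [C.form_zero_left, add_zero] at ht; exact ht) := by
  refine su_ext fun x => ?_
  rw [P.eich_mulVec, C.tv_mulVec, C.form_zero_right]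
  simp

theorem UPair.eich_congr (P : UPair C n) {w w' : V} {t t' : F} {hw : w ∈ P.perp}
    {hw' : w' ∈ P.perp} {ht : t + C.bar t + C.form w w = 0}
    {ht' : t' + C.bar t' + C.form w' w' = 0} (h : w = w') (h' : t = t') :
    P.eich w hw t ht = P.eich w' hw' t' ht' := by
  subst h h'; rfl

/-- The Eichler group of a pair, inside `SU`. -/
def UPair.eichGroup (P : UPair C n) : Subgroup ↥(Cfsg.SU n F q) where
  carrier := {X | ∃ w hw t ht, X = P.eich w hw t ht}
  mul_mem' := by
    rintro _ _ ⟨w, hw, t, ht, rfl⟩ ⟨w', hw', t', ht', rfl⟩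
    exact ⟨_, _, _, _, P.eich_mul w w' hw hw' t t' ht ht'⟩
  one_mem' := ⟨0, P.perp.zero_mem, 0, by simp [C.form_zero_left], su_ext fun x => by
    rw [P.eich_mulVec, su_one_mulVec, C.form_zero_right]; simp⟩
  inv_mem' := by
    rintro _ ⟨w, hw, t, ht, rfl⟩
    refine ⟨-w, P.perp.neg_mem hw, C.bar t, by
      rw [C.bar_bar, C.form_neg_left, C.form_neg_right]; linear_combination ht, ?_⟩
    rw [inv_eq_iff_mul_eq_one, P.eich_mul]
    refine su_ext fun x => ?_
    rw [P.eich_mulVec, su_one_mulVec, add_neg_cancel, C.form_zero_right, C.form_neg_left,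
      show t + C.bar t - -C.form w w = 0 by linear_combination ht]
    simp

theorem UPair.eich_mem (P : UPair C n) (w : V) (hw : w ∈ P.perp) (t : F)
    (ht : t + C.bar t + C.form w w = 0) : P.eich w hw t ht ∈ P.eichGroup :=
  ⟨w, hw, t, ht, rfl⟩

theorem UPair.eich_inj (P : UPair C n) {w w' : V} {t t' : F} {hw : w ∈ P.perp}
    {hw' : w' ∈ P.perp} {ht : t + C.bar t + C.form w w = 0}
    {ht' : t' + C.bar t' + C.form w' w' = 0}
    (h : P.eich w hw t ht = P.eich w' hw' t' ht') : w = w' ∧ t = t' := by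
  have h1 := congrArg (fun X : ↥(Cfsg.SU n F q) => X.1.1 *ᵥ P.f) h
  simp only [P.eich_f] at h1
  have h2 := congrArg (fun z => C.form z P.f) h1
  simp [C.form_add_left, C.form_smul_left, P.ef, P.ff, hw.2, hw'.2] at h2
  subst h2
  exact ⟨add_left_cancel (add_right_cancel h1), rfl⟩

theorem UPair.isPGroup_eichGroup (P : UPair C n) (p : ℕ) [Fact p.Prime] [CharP F p] :
    IsPGroup p P.eichGroup := by
  have hiter : ∀ (k : ℕ) (w : V) (hw : w ∈ P.perp) (t : F) (ht : t + C.bar t + C.form w w = 0),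
      ∃ t' ht', P.eich w hw t ht ^ k = P.eich ((k : F) • w) (P.perp.smul_mem _ hw) t' ht' := by
    intro k w hw t ht
    induction k with
    | zero =>
      refine ⟨0, by simp [C.form_zero_left], su_ext fun x => ?_⟩
      rw [pow_zero, su_one_mulVec, P.eich_mulVec]
      simp [C.form_zero_right]
    | succ k ih =>
      obtain ⟨t', ht', hk⟩ := ih
      refine ⟨_, ?_, by rw [pow_succ, hk, P.eich_mul]; exact P.eich_congr (by push_cast; module) rfl⟩
      have := P.eich_cond_mul ht' ht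
      rwa [show ((k : F) • w + w) = (((k + 1 : ℕ) : F) • w) by push_cast; module] at this
  rintro ⟨_, w, hw, t, ht, rfl⟩
  refine ⟨2, Subtype.ext ?_⟩
  show P.eich w hw t ht ^ p ^ 2 = 1
  obtain ⟨t', ht', hp⟩ := hiter p w hw t ht
  rw [sq, pow_mul, hp]
  have hw0 : ((p : F) • w) = 0 := by rw [CharP.cast_eq_zero, zero_smul]
  rw [P.eich_congr (hw' := P.perp.zero_mem) (ht' := by rw [hw0] at ht'; exact ht') hw0 rfl,
    P.eich_zero_eq_tv]
  have htr : ∀ k : ℕ, ∀ x : V, ((C.tv P.e P.ee t' (by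
      rw [hw0, C.form_zero_left, add_zero] at ht'; exact ht')) ^ k).1.1 *ᵥ x =
      x + ((k : F) * t' * C.form x P.e) • P.e := by
    intro k x
    induction k with
    | zero => rw [pow_zero, su_one_mulVec]; simp
    | succ k ih =>
      rw [pow_succ', suMat_mulVec_mul, ih, C.tv_mulVec, C.form_add_left, C.form_smul_left, P.ee]
      push_cast
      module
  refine su_ext fun x => ?_
  rw [htr, su_one_mulVec, CharP.cast_eq_zero]
  simp

end CfsgLib.SU
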