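import Mathlib
import Cfsg.Prelude.Def_LieTypeDatum
import Cfsg.Agent.Lib.SU.Basic
import Cfsg.Agent.Lib.AutPSL.Field

/-!
Automorphisms of `PSU` induced by semilinear unitary maps.
-/

set_option autoImplicit false

namespace CfsgLib.SU

open Matrix

theorem ringAut_commute {F : Type*} [Field F] [Finite F] (σ τ : RingAut F) : σ * τ = τ * σ := by
  haveI : Fintype F := Fintype.ofFinite F
  obtain ⟨p, hp⟩ := CharP.exists F
  haveI : Fact p.Prime := ⟨CharP.char_is_prime F p⟩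
  obtain ⟨k, -, hk⟩ := FiniteField.card F p
  obtain ⟨θ⟩ := CfsgLib.AutPSL.exists_ringAut_equiv hk
  exact θ.injective (by rw [map_mul, map_mul, mul_comm])

theorem exists_ctx {F : Type*} [Field F] [Fintype F] {p f q : ℕ} [Fact p.Prime] (hq : q = p ^ f)
    (hf : 1 ≤ f) (hF : Fintype.card F = q ^ 2) : Nonempty (UCtx F q) := by
  subst hq
  have hp := (Fact.out : p.Prime)
  rw [← pow_mul] at hF
  haveI : CharP F p := charP_of_card_eq_prime_pow hF
  let τ : RingAut F := iterateFrobeniusEquiv F p f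
  have hτ : ∀ x, τ x = x ^ p ^ f := fun x => iterateFrobeniusEquiv_def F p f x
  have hτ2 : τ ^ 2 = 1 := by
    apply RingEquiv.ext
    intro x
    show τ (τ x) = x
    rw [hτ, hτ, ← pow_mul, ← pow_add, ← mul_two, ← hF, FiniteField.pow_card]
  have hτ1 : τ ≠ 1 := by
    intro h1
    obtain ⟨g, hg⟩ := IsCyclic.exists_ofOrder_eq_natCard (α := Fˣ)
    rw [Nat.card_units, Nat.card_eq_fintype_card, hF] at hg
    have hg1 : g ^ (p ^ f - 1) = 1 := by
      apply mul_right_cancel (b := g)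
      rw [one_mul, ← pow_succ, Nat.sub_add_cancel (Nat.one_le_pow _ _ hp.pos)]
      apply Units.ext
      rw [Units.val_pow_eq_pow_val, ← hτ, h1]
      rfl
    have h3 := orderOf_dvd_of_pow_eq_one hg1
    rw [hg] at h3
    have h4 : p ^ f < p ^ (f * 2) := Nat.pow_lt_pow_right hp.one_lt (by omega)
    have h5 : 2 ≤ p ^ f := le_trans hp.two_le (Nat.le_self_pow (by omega) p)
    have := Nat.le_of_dvd (by omega) h3
    omega
  exact ⟨⟨τ, orderOf_eq_prime hτ2 hτ1, hτ⟩⟩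

variable {F : Type*} [Field F] [Finite F] {q : ℕ} (C : UCtx F q) {n : ℕ}

local notation "V" => (Fin n → F)

theorem UCtx.bar_apply_comm (σ : RingAut F) (x : F) : C.bar (σ x) = σ (C.bar x) :=
  congrArg (fun τ : RingAut F => τ x) (ringAut_commute C.bar σ)

theorem UCtx.form_map (σ : RingAut F) (u v : V) :
    C.form (fun i => σ (u i)) (fun i => σ (v i)) = σ (C.form u v) := by
  simp [UCtx.form, map_sum, map_mul, C.bar_apply_comm]

omit [Finite F] in
theorem map_mulVec_sigma (σ : RingAut F) (M : Matrix (Fin n) (Fin n) F) (u : V) :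
    (M.map σ) *ᵥ (fun i => σ (u i)) = fun i => σ ((M *ᵥ u) i) := by
  funext i
  simp [Matrix.mulVec, dotProduct, map_sum, map_mul]

omit [Finite F] in
theorem UCtx.mem_gu_iff {g : GL (Fin n) F} :
    g ∈ Cfsg.GU n F q ↔ ∀ u v, C.form (g.1 *ᵥ u) (g.1 *ᵥ v) = C.form u v := by
  constructor
  · intro h u v
    have h1 : Cfsg.hermForm n F q (g.1 *ᵥ u) (g.1 *ᵥ v) = Cfsg.hermForm n F q u v := h u v
    unfold Cfsg.hermForm at h1
    rwa [C.hermForm_eq, C.hermForm_eq] at h1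
  · intro h u v
    show Cfsg.hermForm n F q (g.1 *ᵥ u) (g.1 *ᵥ v) = Cfsg.hermForm n F q u v
    unfold Cfsg.hermForm
    rw [C.hermForm_eq, C.hermForm_eq, h]

omit [Finite F] in
theorem gu_conj_mem (g : ↥(Cfsg.GU n F q)) (A : ↥(Cfsg.SU n F q)) :
    (g.1.1 * A.1.1 * (g.1⁻¹).1).det = 1 ∧
      ∀ u v, Cfsg.hermForm n F q ((g.1.1 * A.1.1 * (g.1⁻¹).1) *ᵥ u)
        ((g.1.1 * A.1.1 * (g.1⁻¹).1) *ᵥ v) = Cfsg.hermForm n F q u v := by
  refine ⟨by rw [Matrix.det_units_conj, A.1.2], fun u v => ?_⟩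
  have hA : ∀ a b, Cfsg.hermForm n F q (A.1.1 *ᵥ a) (A.1.1 *ᵥ b) = Cfsg.hermForm n F q a b := A.2
  have hg : ∀ a b, Cfsg.hermForm n F q (g.1.1 *ᵥ a) (g.1.1 *ᵥ b) = Cfsg.hermForm n F q a b := g.2
  have hg' : ∀ a b, Cfsg.hermForm n F q ((g.1⁻¹).1 *ᵥ a) ((g.1⁻¹).1 *ᵥ b) =
      Cfsg.hermForm n F q a b := (g⁻¹).2
  simp only [← Matrix.mulVec_mulVec]
  rw [hg, hA, hg']

/-- Conjugation of `SU` by a unitary matrix. -/
def suConj : ↥(Cfsg.GU n F q) →* MulAut ↥(Cfsg.SU n F q) where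
  toFun g :=
    { toFun := fun A => ⟨⟨g.1.1 * A.1.1 * (g.1⁻¹).1, (gu_conj_mem g A).1⟩, (gu_conj_mem g A).2⟩
      invFun := fun A => ⟨⟨(g.1⁻¹).1 * A.1.1 * g.1.1, by simpa using (gu_conj_mem g⁻¹ A).1⟩,
        by have h := (gu_conj_mem g⁻¹ A).2; simp only [InvMemClass.coe_inv, inv_inv] at h; exact h⟩
      left_inv := fun A => Subtype.ext (Subtype.ext (by simp [mul_assoc]))
      right_inv := fun A => Subtype.ext (Subtype.ext (by simp [mul_assoc]))
      map_mul' := fun A B => Subtype.ext (Subtype.ext (by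
        show g.1.1 * (A.1.1 * B.1.1) * (g.1⁻¹).1 =
          (g.1.1 * A.1.1 * (g.1⁻¹).1) * (g.1.1 * B.1.1 * (g.1⁻¹).1)
        simp [mul_assoc])) }
  map_one' := MulEquiv.ext fun A => Subtype.ext (Subtype.ext (by simp))
  map_mul' g h := MulEquiv.ext fun A => Subtype.ext (Subtype.ext (by simp [mul_assoc]))

omit [Finite F] in
@[simp] theorem suConj_val (g : ↥(Cfsg.GU n F q)) (A : ↥(Cfsg.SU n F q)) :
    (suConj g A).1.1 = g.1.1 * A.1.1 * (g.1⁻¹).1 := rfl

include C in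
theorem su_map_mem (σ : RingAut F) (A : ↥(Cfsg.SU n F q)) :
    (A.1.1.map σ).det = 1 ∧
      ∀ u v, Cfsg.hermForm n F q ((A.1.1.map σ) *ᵥ u) ((A.1.1.map σ) *ᵥ v) =
        Cfsg.hermForm n F q u v := by
  refine ⟨?_, fun u v => ?_⟩
  · have := σ.toRingHom.map_det A.1.1
    rw [A.1.2, map_one] at this
    exact this.symm
  · unfold Cfsg.hermForm
    rw [C.hermForm_eq, C.hermForm_eq]
    have hu : u = fun i => σ (σ.symm (u i)) := funext fun i => (σ.apply_symm_apply _).symm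
    have hv : v = fun i => σ (σ.symm (v i)) := funext fun i => (σ.apply_symm_apply _).symm
    conv_lhs => rw [hu, hv, map_mulVec_sigma, map_mulVec_sigma, C.form_map, C.form_su]
    conv_rhs => rw [hu, hv, C.form_map]

/-- A field automorphism applied entrywise. -/
def UCtx.suFieldFun (σ : RingAut F) : MulAut ↥(Cfsg.SU n F q) where
  toFun A := ⟨⟨A.1.1.map σ, (su_map_mem C σ A).1⟩, (su_map_mem C σ A).2⟩
  invFun A := ⟨⟨A.1.1.map σ.symm, (su_map_mem C σ⁻¹ A).1⟩, (su_map_mem C σ⁻¹ A).2⟩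
  left_inv A := Subtype.ext (Subtype.ext (by ext i j; simp))
  right_inv A := Subtype.ext (Subtype.ext (by ext i j; simp))
  map_mul' A B := Subtype.ext (Subtype.ext (by
    show (A.1.1 * B.1.1).map σ.toRingHom = A.1.1.map σ.toRingHom * B.1.1.map σ.toRingHom
    exact Matrix.map_mul))

/-- Field automorphisms as a hom. -/
def UCtx.suField : RingAut F →* MulAut ↥(Cfsg.SU n F q) where
  toFun := C.suFieldFun
  map_one' := MulEquiv.ext fun s => Subtype.ext (Subtype.ext (by ext i j; rfl))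
  map_mul' σ τ := MulEquiv.ext fun s => Subtype.ext (Subtype.ext (by ext i j; rfl))

@[simp] theorem UCtx.suField_val (σ : RingAut F) (A : ↥(Cfsg.SU n F q)) :
    (C.suField σ A).1.1 = A.1.1.map σ := rfl

/-- Passing to the quotient by the centre. -/
def quotAut : MulAut ↥(Cfsg.SU n F q) →* MulAut (Cfsg.PSU n F q) where
  toFun e := QuotientGroup.congr _ _ e
    (Subgroup.characteristic_iff_map_eq.1 inferInstance e)
  map_one' := MulEquiv.ext fun x => by
    obtain ⟨s, rfl⟩ := QuotientGroup.mk'_surjective _ x; rfl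
  map_mul' e e' := MulEquiv.ext fun x => by
    obtain ⟨s, rfl⟩ := QuotientGroup.mk'_surjective _ x; rfl

/-- The automorphism induced by `v ↦ g σ v`. -/
def UCtx.ind (g : ↥(Cfsg.GU n F q)) (σ : RingAut F) : MulAut (Cfsg.PSU n F q) :=
  quotAut (suConj g * C.suField σ)

theorem UCtx.ind_pr (g : ↥(Cfsg.GU n F q)) (σ : RingAut F) (A : ↥(Cfsg.SU n F q)) :
    C.ind g σ (pr A) = pr (suConj g (C.suField σ A)) := rfl

/-- The image of a vector under `v ↦ g σ v`. -/
def act (g : GL (Fin n) F) (σ : RingAut F) (v : Fin n → F) : Fin n → F :=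
  g.1 *ᵥ fun i => σ (v i)

omit [Finite F] in
theorem act_surjective (g : GL (Fin n) F) (σ : RingAut F) (x : V) : ∃ v, x = act g σ v := by
  refine ⟨fun i => σ.symm (((g⁻¹).1 *ᵥ x) i), ?_⟩
  rw [act, show (fun i => σ (σ.symm (((g⁻¹).1 *ᵥ x) i))) = (g⁻¹).1 *ᵥ x from
    funext fun i => σ.apply_symm_apply _, Matrix.mulVec_mulVec, ← Units.val_mul, mul_inv_cancel,
    Units.val_one, Matrix.one_mulVec]

omit [Finite F] in
theorem act_ne_zero (g : GL (Fin n) F) (σ : RingAut F) {v : V} (hv : v ≠ 0) : act g σ v ≠ 0 := by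
  intro h
  refine hv (funext fun i => σ.injective ?_)
  have h2 := congrArg ((g⁻¹).1 *ᵥ ·) h
  simp only [act, Matrix.mulVec_mulVec, ← Units.val_mul, inv_mul_cancel, Units.val_one,
    Matrix.one_mulVec, Matrix.mulVec_zero] at h2
  rw [congrFun h2 i]
  simp

omit [Finite F] in
theorem act_smul (g : GL (Fin n) F) (σ : RingAut F) (a : F) (v : V) :
    act g σ (a • v) = σ a • act g σ v := by
  rw [act, show (fun i => σ ((a • v) i)) = σ a • fun i => σ (v i) from
    funext fun i => map_mul σ a (v i), Matrix.mulVec_smul]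
  rfl

omit [Finite F] in
theorem act_add (g : GL (Fin n) F) (σ : RingAut F) (u v : V) :
    act g σ (u + v) = act g σ u + act g σ v := by
  rw [act, show (fun i => σ ((u + v) i)) = (fun i => σ (u i)) + fun i => σ (v i) from
    funext fun i => map_add σ (u i) (v i), Matrix.mulVec_add]
  rfl

theorem UCtx.form_act (g : ↥(Cfsg.GU n F q)) (σ : RingAut F) (u v : V) :
    C.form (act g.1 σ u) (act g.1 σ v) = σ (C.form u v) := by
  rw [act, act, C.mem_gu_iff.1 g.2, C.form_map]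

theorem UCtx.conj_field_act (g : ↥(Cfsg.GU n F q)) (σ : RingAut F) (A : ↥(Cfsg.SU n F q)) (v : V) :
    (suConj g (C.suField σ A)).1.1 *ᵥ act g.1 σ v = act g.1 σ (A.1.1 *ᵥ v) := by
  rw [suConj_val, C.suField_val, act, Matrix.mulVec_mulVec, mul_assoc, ← Units.val_mul,
    inv_mul_cancel, Units.val_one, mul_one, ← Matrix.mulVec_mulVec, map_mulVec_sigma]
  rfl

theorem UCtx.ind_tv (g : ↥(Cfsg.GU n F q)) (σ : RingAut F) (v : V) (hv : C.form v v = 0) (t : F)
    (ht : t + C.bar t = 0) :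
    C.ind g σ (pr (C.tv v hv t ht)) =
      pr (C.tv (act g.1 σ v) (by rw [C.form_act, hv, map_zero]) (σ t)
        (by rw [C.bar_apply_comm, ← map_add, ht, map_zero])) := by
  rw [C.ind_pr]
  refine congrArg pr (su_ext fun x => ?_)
  obtain ⟨y, rfl⟩ := act_surjective g.1 σ x
  rw [C.conj_field_act, C.tv_mulVec, C.tv_mulVec, act_add, act_smul, map_mul, C.form_act]

theorem UCtx.ind_isInduced (g : ↥(Cfsg.GU n F q)) (σ : RingAut F) :
    Cfsg.IsInducedBySemilinearPSU g.1 σ (C.ind g σ) := by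
  intro s s' h
  exact congrArg pr (Subtype.ext (Subtype.ext h.symm))

theorem UCtx.isInduced_iff {g : ↥(Cfsg.GU n F q)} {σ : RingAut F} {β : MulAut (Cfsg.PSU n F q)} :
    Cfsg.IsInducedBySemilinearPSU g.1 σ β ↔ β = C.ind g σ := by
  refine ⟨fun h => MulEquiv.ext fun x => ?_, fun h => h ▸ C.ind_isInduced g σ⟩
  obtain ⟨s, rfl⟩ := QuotientGroup.mk'_surjective _ x
  exact h s (suConj g (C.suField σ s)) rfl

theorem UCtx.isFieldAut_iff {σ : RingAut F} {β : MulAut (Cfsg.PSU n F q)} :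
    Cfsg.IsFieldAutPSUOf σ β ↔ β = C.ind 1 σ := by
  rw [← C.isInduced_iff]
  refine forall₂_congr fun s s' => ?_
  simp

theorem UCtx.isInnerDiagonal_iff {β : MulAut (Cfsg.PSU n F q)} :
    Cfsg.IsInnerDiagonalAutPSU β ↔ ∃ g : ↥(Cfsg.GU n F q), β = C.ind g 1 := by
  constructor
  · rintro ⟨g, hg, h⟩
    refine ⟨⟨g, hg⟩, C.isInduced_iff.1 fun s s' he => h s s' ?_⟩
    rw [he]
    congr 1
  · rintro ⟨g, rfl⟩
    refine ⟨g.1, g.2, fun s s' he => C.ind_isInduced g 1 s s' ?_⟩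
    rw [he]
    congr 1

end CfsgLib.SU
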