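import Mathlib
import Cfsg.Agent.Lib.SU.Ind

/-!
The action of an automorphism of `PSU` on isotropic points, and invariance of the Eichler group.
-/

set_option autoImplicit false

namespace CfsgLib.SU

open Matrix

variable {F : Type*} [Field F] [Finite F] {q : ℕ} (C : UCtx F q) {n : ℕ}

local notation "V" => (Fin n → F)

omit [Finite F] in
theorem UPair.eq_zero_of_perp {C : UCtx F q} (P : UPair C n) {d : V} (he : C.form d P.e = 0)
    (hf : C.form d P.f = 0) (h : ∀ w ∈ P.perp, C.form d w = 0) : d = 0 :=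
  C.eq_zero_of_form fun v => by
    rw [P.decomp v, C.form_add_right, C.form_add_right, C.form_smul_right, C.form_smul_right, he, hf,
      h _ (P.proj_mem v)]
    simp

include C in
theorem UCtx.eq_of_pr_of_point (hn : 3 ≤ n) {A B : ↥(Cfsg.SU n F q)} (h : pr A = pr B) {x : V}
    (hx : x ≠ 0) (he : A.1.1 *ᵥ x = B.1.1 *ᵥ x) : A = B := by
  obtain ⟨c, hc⟩ := (C.pr_eq_iff hn).1 h
  rw [hc, Matrix.smul_mulVec] at he
  obtain ⟨i, hi⟩ := Function.ne_iff.1 (su_mulVec_ne_zero A hx)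
  have : c = 1 := (mul_right_cancel₀ hi (by simpa using congrFun he i)).symm
  rw [this, one_smul] at hc
  exact (Subtype.ext (Subtype.ext hc)).symm

/-- Elements centralising the Eichler group are transvections. -/
theorem eq_tv_of_commute_eich {C : UCtx F q} (hn : 3 ≤ n) (P : UPair C n) (x : Cfsg.PSU n F q)
    (h : ∀ (w : V) (hw : w ∈ P.perp) (t : F) (ht : t + C.bar t + C.form w w = 0),
      Commute x (pr (P.eich w hw t ht))) :
    ∃ (t : F) (ht : t + C.bar t = 0), x = pr (C.tv P.e P.ee t ht) := by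
  classical
  obtain ⟨X, rfl⟩ := QuotientGroup.mk'_surjective _ x
  obtain ⟨δ, hδ0, hδ⟩ := C.exists_trace_zero
  obtain ⟨lam, hlam⟩ : ∃ lam : F, X.1.1 *ᵥ P.e = lam • P.e := by
    have h1 := (h 0 P.perp.zero_mem δ (by rw [C.form_zero_left, hδ, add_zero])).eq
    rw [P.eich_zero_eq_tv] at h1
    have h2 := congrArg pr (C.tv_conj X P.e P.ee δ hδ)
    simp only [map_mul, map_inv] at h2
    rw [h1, mul_inv_cancel_right] at h2
    exact C.pT_par hn (su_mulVec_ne_zero X P.e_ne_zero) hδ0 h2.symm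
  have hlam0 : lam ≠ 0 := fun h0 =>
    su_mulVec_ne_zero X P.e_ne_zero (by rw [hlam, h0, zero_smul])
  have hcomm : ∀ (w : V) (hw : w ∈ P.perp) (t : F) (ht : t + C.bar t + C.form w w = 0) (y : V),
      X.1.1 *ᵥ ((P.eich w hw t ht).1.1 *ᵥ y) = (P.eich w hw t ht).1.1 *ᵥ (X.1.1 *ᵥ y) := by
    intro w hw t ht y
    have h1 : X * P.eich w hw t ht = P.eich w hw t ht * X := by
      refine C.eq_of_pr_of_point hn (by rw [map_mul, map_mul]; exact (h w hw t ht).eq) P.e_ne_zero ?_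
      rw [suMat_mulVec_mul, suMat_mulVec_mul, P.eich_e, hlam, Matrix.mulVec_smul, P.eich_e]
    rw [← suMat_mulVec_mul, h1, suMat_mulVec_mul]
  have hbl : C.bar lam ≠ 0 := by simpa using hlam0
  have hXe : ∀ y, C.bar lam * C.form (X.1.1 *ᵥ y) P.e = C.form y P.e := fun y => by
    rw [← C.form_smul_right, ← hlam, C.form_su]
  -- action on the orthogonal of the pair
  have hperp : ∀ y ∈ P.perp, X.1.1 *ᵥ y = lam • y + C.form (X.1.1 *ᵥ y) P.f • P.e := by
    intro y hy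
    have hye : C.form (X.1.1 *ᵥ y) P.e = 0 := by
      have := hXe y
      rw [hy.1, mul_eq_zero] at this
      exact this.resolve_left hbl
    rw [← sub_eq_zero]
    refine P.eq_zero_of_perp ?_ ?_ fun w hw => ?_
    · simp [C.form_sub_left, C.form_add_left, C.form_smul_left, hye, hy.1, P.ee]
    · simp [C.form_sub_left, C.form_add_left, C.form_smul_left, hy.2, P.ef]
    · obtain ⟨t, ht⟩ := C.exists_trace (c := -C.form w w) (by rw [map_neg, C.form_self_fixed])
      have h1 := hcomm w hw t (by rw [ht, neg_add_cancel]) y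
      rw [P.eich_perp w hw t _ hy, Matrix.mulVec_sub, Matrix.mulVec_smul, hlam, P.eich_mulVec,
        hye] at h1
      have h2 := congrArg (fun z => C.form z P.f) h1
      simp [C.form_sub_left, C.form_add_left, C.form_neg_left, C.form_smul_left, P.ef] at h2
      simp only [C.form_sub_left, C.form_add_left, C.form_smul_left, C.form_swap_zero hw.1, mul_zero,
        add_zero]
      linear_combination h2
  obtain ⟨u, hu, huu, -⟩ := P.exists_basis
  have hnorm : lam * C.bar lam = 1 := by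
    set i : Fin (n - 2) := ⟨0, by omega⟩
    have h1 := C.form_su X (u i) (u i)
    rw [hperp _ (hu i)] at h1
    simpa [C.form_add_left, C.form_add_right, C.form_smul_left, C.form_smul_right, huu, P.ee,
      (hu i).1, C.form_swap_zero (hu i).1] using h1
  have hXf : C.form (X.1.1 *ᵥ P.f) P.e = lam := by
    have := hXe P.f
    rw [P.fe] at this
    exact mul_left_cancel₀ hbl (by rw [this, mul_comm, hnorm])
  set w0 := P.proj (X.1.1 *ᵥ P.f) with hw0
  set c := C.form (X.1.1 *ᵥ P.f) P.f with hc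
  have hXfdec : X.1.1 *ᵥ P.f = c • P.e + lam • P.f + w0 := by
    conv_lhs => rw [P.decomp (X.1.1 *ᵥ P.f), hXf]
  have hw0m : w0 ∈ P.perp := P.proj_mem _
  have hα : ∀ y ∈ P.perp,
      C.form (X.1.1 *ᵥ y) P.f * C.bar lam = -(lam * C.form y w0) := by
    intro y hy
    have h1 := C.form_su X y P.f
    rw [hperp y hy, hXfdec, hy.2] at h1
    simp only [C.form_add_left, C.form_add_right, C.form_smul_left, C.form_smul_right, P.ee, P.ef,
      hy.1, hy.2, C.form_swap_zero hw0m.1] at h1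
    linear_combination h1
  have hw00 : w0 = 0 := by
    refine P.eq_zero_of_perp hw0m.1 hw0m.2 fun w hw => ?_
    by_contra hne
    have hrel : ∀ v ∈ P.perp, lam * C.form v w0 = C.bar lam * C.form w0 v := by
      intro v hv
      obtain ⟨t, ht⟩ := C.exists_trace (c := -C.form v v) (by rw [map_neg, C.form_self_fixed])
      have h1 := hcomm v hv t (by rw [ht, neg_add_cancel]) P.f
      rw [P.eich_f, Matrix.mulVec_add, Matrix.mulVec_add, Matrix.mulVec_smul, hlam, hperp v hv,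
        hXfdec] at h1
      simp only [Matrix.mulVec_add, Matrix.mulVec_smul, P.eich_e, P.eich_f,
        P.eich_perp v hv t _ hw0m] at h1
      have h2 := congrArg (fun z => C.form z P.f) h1
      simp [C.form_sub_left, C.form_add_left, C.form_smul_left, P.ef, P.ff, hv.2, hw0m.2] at h2
      have h3 := hα v hv
      linear_combination h3 - C.bar lam * h2
    -- a scaled vector gives a contradiction
    have key : ∀ y : F, lam * y = C.bar lam * C.bar y := by
      intro y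
      have hne' : C.form w w0 ≠ 0 := fun h0 => hne (C.form_swap_zero h0)
      have h1 := hrel ((y / C.form w w0) • w) (P.perp.smul_mem _ hw)
      rw [C.form_smul_left, C.form_smul_right, div_mul_cancel₀ _ hne', map_div₀, ← C.bar_form w w0,
        div_mul_cancel₀ _ (by simpa using hne')] at h1
      exact h1
    obtain ⟨y, hy⟩ := C.exists_not_fixed
    have h1 := key 1
    rw [map_one, mul_one, mul_one] at h1
    have h2 := key y
    rw [← h1] at h2
    exact hy (mul_left_cancel₀ hlam0 h2).symm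
  have htr : c / lam + C.bar (c / lam) = 0 := by
    have h1 := C.form_su X P.f P.f
    rw [hXfdec, hw00, add_zero, P.ff] at h1
    simp only [C.form_add_left, C.form_add_right, C.form_smul_left, C.form_smul_right, P.ee, P.ff,
      P.ef, P.fe] at h1
    rw [map_div₀]
    field_simp
    linear_combination h1
  refine ⟨c / lam, htr, (C.pr_eq_iff hn).2 ⟨lam⁻¹, ?_⟩⟩
  refine Matrix.ext_iff_mulVec.2 fun y => ?_
  rw [Matrix.smul_mulVec, eq_inv_smul_iff₀ hlam0]
  conv_rhs => rw [P.decomp y, Matrix.mulVec_add, Matrix.mulVec_add, Matrix.mulVec_smul,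
    Matrix.mulVec_smul, hlam, hXfdec, hw00, hperp _ (P.proj_mem y)]
  have hα0 : C.form (X.1.1 *ᵥ P.proj y) P.f = 0 := by
    have := hα _ (P.proj_mem y)
    rw [hw00, C.form_zero_right, mul_zero, neg_zero, mul_eq_zero] at this
    exact this.resolve_right hbl
  rw [hα0, C.tv_mulVec]
  conv_lhs => rw [P.decomp y]
  simp only [C.form_add_left, C.form_smul_left, P.ee, P.fe, (P.proj_mem y).1]
  match_scalars <;> field_simp <;> ring

variable (p : ℕ) [Fact p.Prime] [CharP F p]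

/-- A unitary matrix as an element of `GU`. -/
def ofSU (A : ↥(Cfsg.SU n F q)) : ↥(Cfsg.GU n F q) :=
  ⟨Matrix.SpecialLinearGroup.toGL A.1, A.2⟩

theorem UCtx.ind_ofSU (A : ↥(Cfsg.SU n F q)) :
    C.ind (ofSU A) 1 = MulAut.conj (pr A) := by
  refine MulEquiv.ext fun x => ?_
  obtain ⟨B, rfl⟩ := QuotientGroup.mk'_surjective _ x
  rw [C.ind_pr, MulAut.conj_apply, ← map_mul, ← map_inv, ← map_mul]
  refine congrArg pr (Subtype.ext (Subtype.ext ?_))
  rw [map_one, MulAut.one_apply, suConj_val]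
  rfl

theorem UCtx.tv_smul (v : V) (hv : C.form v v = 0) (a t : F) (ht : t + C.bar t = 0) :
    C.tv (a • v) (by rw [C.form_smul_left, C.form_smul_right, hv, mul_zero, mul_zero]) t ht =
      C.tv v hv (a * C.bar a * t) (by
        rw [map_mul, C.norm_fixed, ← mul_add, ht, mul_zero]) := by
  refine su_ext fun x => ?_
  rw [C.tv_mulVec, C.tv_mulVec, C.form_smul_right, smul_smul]
  congr 2
  ring

theorem UCtx.tv_congr {v w : V} {hv : C.form v v = 0} {hw : C.form w w = 0} {t s : F}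
    {ht : t + C.bar t = 0} {hs : s + C.bar s = 0} (h : v = w) (h' : t = s) :
    C.tv v hv t ht = C.tv w hw s hs := by
  subst h h'; rfl

variable {C}

/-- A diagonal element on a hyperbolic pair. -/
def UPair.torus (P : UPair C n) (μ : F) (hμ : μ ≠ 0) : ↥(Cfsg.GU n F q) :=
  ⟨Matrix.GeneralLinearGroup.mkOfDetNeZero
      (C.rmap P.e P.f (μ - 1) * C.rmap P.f P.e ((C.bar μ)⁻¹ - 1)) (by
        rw [Matrix.det_mul, C.det_rmap, C.det_rmap, P.ef, P.fe]
        simp [hμ]),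
    C.mem_gu_iff.2 fun u v => by
      show C.form ((C.rmap P.e P.f (μ - 1) * C.rmap P.f P.e ((C.bar μ)⁻¹ - 1)) *ᵥ u)
        ((C.rmap P.e P.f (μ - 1) * C.rmap P.f P.e ((C.bar μ)⁻¹ - 1)) *ᵥ v) = _
      simp only [← Matrix.mulVec_mulVec, C.rmap_mulVec, C.form_add_left, C.form_add_right,
        C.form_smul_left, C.form_smul_right, P.ee, P.ff, P.ef, P.fe, map_mul, map_add, map_sub,
        map_one, map_inv₀, map_zero, C.bar_bar, C.bar_form, mul_zero, add_zero]
      have hb : C.bar μ ≠ 0 := by simpa using hμ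
      field_simp
      ring⟩

theorem UPair.torus_mulVec (P : UPair C n) (μ : F) (hμ : μ ≠ 0) (x : V) :
    (P.torus μ hμ).1.1 *ᵥ x =
      x + ((μ - 1) * C.form x P.f) • P.e + (((C.bar μ)⁻¹ - 1) * C.form x P.e) • P.f := by
  show (C.rmap P.e P.f (μ - 1) * C.rmap P.f P.e ((C.bar μ)⁻¹ - 1)) *ᵥ x = _
  rw [← Matrix.mulVec_mulVec, C.rmap_mulVec, C.rmap_mulVec, C.form_add_left, C.form_smul_left, P.ff]
  module

include p in
/-- Automorphisms map transvections to transvections. -/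
theorem map_tv (hn : 3 ≤ n) (P : UPair C n) (β : MulAut (Cfsg.PSU n F q)) {v : V}
    (hv : C.form v v = 0) (hv0 : v ≠ 0) {t : F} (ht : t + C.bar t = 0) (ht0 : t ≠ 0) :
    ∃ (w : V) (hw : C.form w w = 0) (s : F) (hs : s + C.bar s = 0), w ≠ 0 ∧ s ≠ 0 ∧
      β (pr (C.tv v hv t ht)) = pr (C.tv w hw s hs) := by
  classical
  haveI : Finite (Cfsg.PSU n F q) := Quotient.finite _
  obtain ⟨P₀, hP₀⟩ := ((P.isPGroup_eichGroup p).map pr).exists_le_sylow
  -- a central element of the Sylow subgroup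
  obtain ⟨δ, hδ0, hδ⟩ := C.exists_trace_zero
  haveI : Nontrivial (P₀ : Subgroup (Cfsg.PSU n F q)) := by
    refine Subgroup.nontrivial_iff_ne_bot _ |>.2 fun hbot => ?_
    have hm := hP₀ ⟨_, P.eich_mem 0 P.perp.zero_mem δ (by rw [C.form_zero_left, hδ, add_zero]), rfl⟩
    rw [hbot, Subgroup.mem_bot, P.eich_zero_eq_tv] at hm
    exact C.pT_ne_one hn P.e_ne_zero hδ0 hm
  haveI := P₀.2.center_nontrivial
  obtain ⟨⟨⟨x, hxP⟩, hxc⟩, hx1⟩ :=
    exists_ne (1 : Subgroup.center (P₀ : Subgroup (Cfsg.PSU n F q)))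
  have hxne : x ≠ 1 := fun h => hx1 (by subst h; rfl)
  have hxcomm : ∀ y ∈ P₀, Commute x y := fun y hy =>
    (congrArg Subtype.val (Subgroup.mem_center_iff.1 hxc ⟨y, hy⟩)).symm
  obtain ⟨t₀, ht₀, hxeq⟩ := eq_tv_of_commute_eich hn P x fun w hw t ht =>
    hxcomm _ (hP₀ ⟨_, P.eich_mem w hw t ht, rfl⟩)
  subst hxeq
  have ht₀0 : t₀ ≠ 0 := fun h0 => hxne (by
    subst h0
    rw [← map_one (pr (F := F) (n := n) (q := q))]
    refine congrArg pr (su_ext fun y => ?_)
    rw [C.tv_mulVec, su_one_mulVec]; simp)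
  -- its image under any automorphism
  have base : ∀ β : MulAut (Cfsg.PSU n F q),
      ∃ (w : V) (hw : C.form w w = 0) (s : F) (hs : s + C.bar s = 0), w ≠ 0 ∧ s ≠ 0 ∧
        β (pr (C.tv P.e P.ee t₀ ht₀)) = pr (C.tv w hw s hs) := by
    intro β
    let Q' : Sylow p (Cfsg.PSU n F q) := P₀.comapOfInjective β.symm.toMonoidHom β.symm.injective
      (fun x _ => ⟨β x, β.symm_apply_apply x⟩)
    obtain ⟨g, hg⟩ := MulAction.exists_smul_eq (Cfsg.PSU n F q) Q' P₀
    set z := g * β (pr (C.tv P.e P.ee t₀ ht₀)) * g⁻¹ with hz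
    have hcomm : ∀ y ∈ P₀, Commute z y := by
      intro y hy
      have hy' : y ∈ ((g • Q' : Sylow p (Cfsg.PSU n F q)) : Subgroup (Cfsg.PSU n F q)) := by
        rw [hg]; exact hy
      rw [Sylow.coe_subgroup_smul, Subgroup.mem_pointwise_smul_iff_inv_smul_mem] at hy'
      have hy'' : β.symm (g⁻¹ * y * g) ∈ P₀ := by
        have h : g⁻¹ * y * g ∈ (Q' : Subgroup (Cfsg.PSU n F q)) := by
          simpa [MulAut.smul_def] using hy'
        exact h
      have h1 := (hxcomm _ hy'').map β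
      rw [MulEquiv.apply_symm_apply] at h1
      have h2 := h1.map (MulAut.conj g)
      simp only [MulAut.conj_apply, ← hz] at h2
      rwa [show g * (g⁻¹ * y * g) * g⁻¹ = y by group] at h2
    obtain ⟨s, hs, hze⟩ := eq_tv_of_commute_eich hn P z fun w hw t ht =>
      hcomm _ (hP₀ ⟨_, P.eich_mem w hw t ht, rfl⟩)
    obtain ⟨G, hG⟩ := QuotientGroup.mk'_surjective _ g⁻¹
    refine ⟨G.1.1 *ᵥ P.e, by rw [C.form_su, P.ee], s, hs, su_mulVec_ne_zero _ P.e_ne_zero, ?_, ?_⟩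
    · intro h0
      subst h0
      have h1 : z = 1 := by
        rw [hze, ← map_one (pr (F := F) (n := n) (q := q))]
        refine congrArg pr (su_ext fun y => ?_)
        rw [C.tv_mulVec, su_one_mulVec]; simp
      rw [hz, conj_eq_one_iff] at h1
      exact hxne (β.map_eq_one_iff.1 h1)
    · rw [← C.tv_conj G P.e P.ee s hs, map_mul, map_mul, map_inv, show pr G = g⁻¹ from hG, ← hze, hz]
      group
  -- move the given transvection to the central one
  obtain ⟨a, ha⟩ := C.exists_norm (c := t / t₀) (by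
    rw [map_div₀, show C.bar t = -t by linear_combination ht,
      show C.bar t₀ = -t₀ by linear_combination ht₀, neg_div_neg_eq])
  have ha0 : a ≠ 0 := by
    rintro rfl
    rw [zero_mul, eq_comm, div_eq_zero_iff] at ha
    exact ha.elim ht0 ht₀0
  obtain ⟨A, b, hb, hA⟩ := C.exists_move hn P.e_ne_zero hv0 P.ee hv
  set g := ofSU A * P.torus (a / b) (div_ne_zero ha0 hb)
  have hge : act g.1 (1 : RingAut F) P.e = a • v := by
    show (A.1.1 * (P.torus (a / b) _).1.1) *ᵥ P.e = _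
    rw [← Matrix.mulVec_mulVec, P.torus_mulVec, P.ee, P.ef, mul_zero, zero_smul, add_zero, mul_one,
      sub_smul, one_smul, add_sub_cancel, Matrix.mulVec_smul, hA, smul_smul, div_mul_cancel₀ _ hb]
  obtain ⟨w, hw, s, hs, hw0, hs0, hwe⟩ := base (β * C.ind g 1)
  refine ⟨w, hw, s, hs, hw0, hs0, ?_⟩
  rw [← hwe, MulAut.mul_apply, C.ind_tv]
  congr 2
  rw [C.tv_congr (hw := by rw [C.form_smul_left, C.form_smul_right, hv, mul_zero, mul_zero]) hge
    (show (1 : RingAut F) t₀ = t₀ from rfl) (hs := ht₀), C.tv_smul v hv]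
  refine C.tv_congr rfl ?_
  rw [ha, div_mul_cancel₀ _ ht₀0]

/-- `β` maps the point of `v` to the point of `w`. -/
def Maps (C : UCtx F q) (β : MulAut (Cfsg.PSU n F q)) (v w : Fin n → F) : Prop :=
  v ≠ 0 ∧ w ≠ 0 ∧ ∃ (hv : C.form v v = 0) (hw : C.form w w = 0),
    ∀ (t : F) (ht : t + C.bar t = 0), t ≠ 0 →
      ∃ (s : F) (hs : s + C.bar s = 0), s ≠ 0 ∧ β (pr (C.tv v hv t ht)) = pr (C.tv w hw s hs)

omit [Fact p.Prime] [CharP F p] in
theorem Maps.isotropic {β : MulAut (Cfsg.PSU n F q)} {v w : V} (h : Maps C β v w) :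
    C.form v v = 0 ∧ C.form w w = 0 := ⟨h.2.2.1, h.2.2.2.1⟩

include p in
theorem exists_maps (hn : 3 ≤ n) (P : UPair C n) (β : MulAut (Cfsg.PSU n F q)) {v : V}
    (hv : C.form v v = 0) (hv0 : v ≠ 0) : ∃ w, Maps C β v w := by
  obtain ⟨δ, hδ0, hδ⟩ := C.exists_trace_zero
  obtain ⟨w, hw, s, hs, hw0, hs0, hwe⟩ := map_tv p hn P β hv hv0 hδ hδ0
  refine ⟨w, hv0, hw0, hv, hw, fun t ht ht0 => ?_⟩
  obtain ⟨w', hw', s', hs', hw'0, hs'0, hwe'⟩ := map_tv p hn P β hv hv0 ht ht0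
  obtain ⟨a, ha⟩ : ∃ a : F, w' = a • w := by
    refine C.eq_smul_of_isotropic_orth hw0 hw hw' fun x hx hxw => ?_
    rcases eq_or_ne x 0 with rfl | hx0
    · exact C.form_zero_left _
    obtain ⟨u, hu, k, hk, hu0, hk0, huk⟩ := map_tv p hn P β.symm hx hx0 hδ hδ0
    rw [← C.pT_commute_iff hn (hv := hx) (hw := hw) (ht := hδ) (hs := hs) hw0 hδ0 hs0] at hxw
    rw [← C.pT_commute_iff hn (hv := hx) (hw := hw') (ht := hδ) (hs := hs') hw'0 hδ0 hs'0]
    have h1 := hxw.map β.symm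
    rw [huk, ← hwe, MulEquiv.symm_apply_apply] at h1
    have h2 : Commute (pr (C.tv u hu k hk)) (pr (C.tv v hv t ht)) :=
      (C.pT_commute_iff hn hv0 hk0 ht0).2 ((C.pT_commute_iff hn hv0 hk0 hδ0).1 h1)
    have h3 := h2.map β
    rwa [hwe', ← huk, MulEquiv.apply_symm_apply] at h3
  have ha0 : a ≠ 0 := fun h0 => hw'0 (by rw [ha, h0, zero_smul])
  refine ⟨a * C.bar a * s', by rw [map_mul, C.norm_fixed, ← mul_add, hs', mul_zero],
    mul_ne_zero (mul_ne_zero ha0 (by simpa using ha0)) hs'0, ?_⟩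
  rw [hwe', ← C.tv_smul w hw a s' hs']
  exact congrArg pr (C.tv_congr ha rfl)

omit [Fact p.Prime] [CharP F p] in
theorem Maps.orth (hn : 3 ≤ n) {β : MulAut (Cfsg.PSU n F q)} {v w v' w' : V}
    (h : Maps C β v w) (h' : Maps C β v' w') : C.form v v' = 0 ↔ C.form w w' = 0 := by
  obtain ⟨δ, hδ0, hδ⟩ := C.exists_trace_zero
  obtain ⟨hv0, hw0, hv, hw, hh⟩ := h
  obtain ⟨hv'0, hw'0, hv', hw', hh'⟩ := h'
  obtain ⟨s, hs, hs0, he⟩ := hh δ hδ hδ0
  obtain ⟨s', hs', hs'0, he'⟩ := hh' δ hδ hδ0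
  rw [← C.pT_commute_iff hn (hv := hv) (hw := hv') (ht := hδ) (hs := hδ) hv'0 hδ0 hδ0,
    ← C.pT_commute_iff hn (hv := hw) (hw := hw') (ht := hs) (hs := hs') hw'0 hs0 hs'0, ← he, ← he']
  exact ⟨fun hc => hc.map β, fun hc => by simpa using hc.map β.symm⟩

omit [Fact p.Prime] [CharP F p] in
theorem Maps.unique (hn : 3 ≤ n) {β : MulAut (Cfsg.PSU n F q)} {v w w' : V}
    (h : Maps C β v w) (h' : Maps C β v w') : ∃ a : F, a ≠ 0 ∧ w' = a • w := by
  obtain ⟨δ, hδ0, hδ⟩ := C.exists_trace_zero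
  obtain ⟨hv0, hw0, hv, hw, hh⟩ := h
  obtain ⟨-, hw'0, hv₂, hw', hh'⟩ := h'
  obtain ⟨s, hs, hs0, he⟩ := hh δ hδ hδ0
  obtain ⟨s', hs', hs'0, he'⟩ := hh' δ hδ hδ0
  obtain ⟨a, ha⟩ := C.pT_par hn hw'0 hs'0 (he'.symm.trans he)
  exact ⟨a, fun h0 => hw'0 (by rw [ha, h0, zero_smul]), ha⟩

omit [Fact p.Prime] [CharP F p] in
theorem Maps.smul_right {β : MulAut (Cfsg.PSU n F q)} {v w : V} (h : Maps C β v w) {a : F}
    (ha : a ≠ 0) : Maps C β v (a • w) := by
  obtain ⟨hv0, hw0, hv, hw, hh⟩ := h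
  have hb : C.bar a ≠ 0 := by simpa using ha
  refine ⟨hv0, smul_ne_zero ha hw0, hv, by rw [C.form_smul_left, C.form_smul_right, hw, mul_zero, mul_zero],
    fun t ht ht0 => ?_⟩
  obtain ⟨s, hs, hs0, he⟩ := hh t ht ht0
  have hk : (a * C.bar a)⁻¹ * s + C.bar ((a * C.bar a)⁻¹ * s) = 0 := by
    rw [map_mul, map_inv₀, C.norm_fixed, ← mul_add, hs, mul_zero]
  refine ⟨(a * C.bar a)⁻¹ * s, hk, mul_ne_zero (inv_ne_zero (mul_ne_zero ha hb)) hs0, ?_⟩
  rw [he, C.tv_smul w hw a _ hk]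
  refine congrArg pr (C.tv_congr rfl ?_)
  rw [← mul_assoc, mul_inv_cancel₀ (mul_ne_zero ha hb), one_mul]

omit [Fact p.Prime] [CharP F p] in
theorem Maps.smul_left {β : MulAut (Cfsg.PSU n F q)} {v w : V} (h : Maps C β v w) {a : F}
    (ha : a ≠ 0) : Maps C β (a • v) w := by
  obtain ⟨hv0, hw0, hv, hw, hh⟩ := h
  refine ⟨smul_ne_zero ha hv0, hw0,
    by rw [C.form_smul_left, C.form_smul_right, hv, mul_zero, mul_zero], hw, fun t ht ht0 => ?_⟩
  obtain ⟨s, hs, hs0, he⟩ := hh (a * C.bar a * t)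
    (by rw [map_mul, C.norm_fixed, ← mul_add, ht, mul_zero])
    (mul_ne_zero (mul_ne_zero ha (by simpa using ha)) ht0)
  exact ⟨s, hs, hs0, by rw [C.tv_smul v hv a t ht, he]⟩

omit [Fact p.Prime] [CharP F p] in
theorem Maps.conj {β : MulAut (Cfsg.PSU n F q)} {v w : V} (h : Maps C β v w)
    {A B : ↥(Cfsg.SU n F q)} (hAB : β (pr A) = pr B) :
    Maps C β (A.1.1 *ᵥ v) (B.1.1 *ᵥ w) := by
  obtain ⟨hv0, hw0, hv, hw, hh⟩ := h
  refine ⟨su_mulVec_ne_zero A hv0, su_mulVec_ne_zero B hw0, by rw [C.form_su, hv],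
    by rw [C.form_su, hw], fun t ht ht0 => ?_⟩
  obtain ⟨s, hs, hs0, he⟩ := hh t ht ht0
  refine ⟨s, hs, hs0, ?_⟩
  rw [← C.tv_conj A v hv t ht, ← C.tv_conj B w hw s hs]
  simp only [map_mul, map_inv]
  rw [hAB, he]

omit [Fact p.Prime] [CharP F p] in
theorem Maps.ind_mul {β : MulAut (Cfsg.PSU n F q)} {v w : V} (h : Maps C β v w)
    (g : ↥(Cfsg.GU n F q)) (σ : RingAut F) : Maps C (C.ind g σ * β) v (act g.1 σ w) := by
  obtain ⟨hv0, hw0, hv, hw, hh⟩ := h
  refine ⟨hv0, act_ne_zero _ _ hw0, hv, by rw [C.form_act, hw, map_zero], fun t ht ht0 => ?_⟩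
  obtain ⟨s, hs, hs0, he⟩ := hh t ht ht0
  exact ⟨σ s, by rw [C.bar_apply_comm, ← map_add, hs, map_zero], by simpa using hs0,
    by rw [MulAut.mul_apply, he, C.ind_tv]⟩

include p in
theorem Maps.symm (hn : 3 ≤ n) (P : UPair C n) {β : MulAut (Cfsg.PSU n F q)} {v w : V}
    (h : Maps C β v w) : Maps C β⁻¹ w v := by
  obtain ⟨u, hu⟩ := exists_maps p hn P β⁻¹ h.isotropic.2 h.2.1
  have h1 : Maps C β u w := by
    obtain ⟨hv0, hw0, hv, hw, hh⟩ := h
    obtain ⟨-, hu0, hw', hu', hhu⟩ := hu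
    obtain ⟨δ, hδ0, hδ⟩ := C.exists_trace_zero
    obtain ⟨w₂, hw₂⟩ := exists_maps p hn P β hu' hu0
    obtain ⟨-, hw₂0, hu₂, hw₂', hh₂⟩ := id hw₂
    obtain ⟨k, hk, hk0, hke⟩ := hhu δ hδ hδ0
    obtain ⟨k₂, hk₂, hk₂0, hke₂⟩ := hh₂ k hk hk0
    rw [← hke, show β (β⁻¹ (pr (C.tv w hw' δ hδ))) = pr (C.tv w hw' δ hδ) from
      β.apply_symm_apply _] at hke₂
    obtain ⟨a, ha⟩ := C.pT_par hn hw0 hδ0 hke₂
    have ha0 : a ≠ 0 := fun h0 => hw0 (by rw [ha, h0, zero_smul])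
    rw [ha]
    exact hw₂.smul_right ha0
  obtain ⟨a, ha, hua⟩ : ∃ a : F, a ≠ 0 ∧ v = a • u := by
    obtain ⟨hu0, -, hu', hw', -⟩ := id h1
    obtain ⟨δ, hδ0, hδ⟩ := C.exists_trace_zero
    obtain ⟨a, ha⟩ : ∃ a : F, v = a • u := by
      refine C.eq_smul_of_isotropic_orth hu0 hu' h.isotropic.1 fun x hx hxu => ?_
      rcases eq_or_ne x 0 with rfl | hx0
      · exact C.form_zero_left _
      obtain ⟨y, hy⟩ := exists_maps p hn P β hx hx0
      exact (hy.orth hn h).2 ((hy.orth hn h1).1 hxu)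
    exact ⟨a, fun h0 => h.1 (by rw [ha, h0, zero_smul]), ha⟩
  rw [hua]
  exact hu.smul_right ha

end CfsgLib.SU
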