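import Mathlib
import Cfsg.Agent.Lib.SU.Maps

/-!
The Eichler group of an isotropic point under automorphisms fixing a hyperbolic pair of points.
-/

set_option autoImplicit false

namespace CfsgLib.SU

open Matrix

variable {F : Type*} [Field F] [Finite F] {q : ℕ} {C : UCtx F q} {n : ℕ}

local notation "V" => (Fin n → F)

omit [Finite F] in
theorem UCtx.exists_sq_ne (C : UCtx F q) : ∃ y : F, C.bar y ^ 2 ≠ y ^ 2 := by
  by_contra hcon
  simp only [not_exists, not_not] at hcon
  obtain ⟨y, hy⟩ := C.exists_not_fixed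
  have h1 := hcon (y + 1)
  rw [map_add, map_one] at h1
  have h2 := hcon y
  have h3 : (C.bar y - y) ^ 2 = 0 := by linear_combination h2 - y * (h1 - h2)
  exact hy (sub_eq_zero.1 (pow_eq_zero_iff two_ne_zero |>.1 h3))

omit [Finite F] in
theorem UPair.proj_of_mem (P : UPair C n) {w : V} (hw : w ∈ P.perp) : P.proj w = w := by
  simp [UPair.proj, hw.1, hw.2]

omit [Finite F] in
theorem UPair.proj_add (P : UPair C n) (x y : V) : P.proj (x + y) = P.proj x + P.proj y := by
  simp only [UPair.proj, C.form_add_left]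
  module

omit [Finite F] in
theorem UPair.proj_smul (P : UPair C n) (c : F) (x : V) : P.proj (c • x) = c • P.proj x := by
  simp only [UPair.proj, C.form_smul_left]
  module

omit [Finite F] in
theorem UPair.form_decomp (P : UPair C n) (x y : V) :
    C.form x y = C.form x P.f * C.bar (C.form y P.e) + C.form x P.e * C.bar (C.form y P.f) +
      C.form (P.proj x) (P.proj y) := by
  conv_lhs => rw [P.decomp x, P.decomp y]
  simp only [C.form_add_left, C.form_add_right, C.form_smul_left, C.form_smul_right, P.ee, P.ff,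
    P.ef, P.fe, (P.proj_mem x).1, (P.proj_mem x).2, C.form_swap_zero (P.proj_mem y).1,
    C.form_swap_zero (P.proj_mem y).2]
  ring

/-- An isotropic point not orthogonal to `e` is in the orbit of `f`. -/
theorem UPair.exists_eich_point (P : UPair C n) {v : V} (hv : C.form v v = 0)
    (he : C.form v P.e ≠ 0) :
    ∃ (w : V) (hw : w ∈ P.perp) (t : F) (ht : t + C.bar t + C.form w w = 0),
      v = C.form v P.e • ((P.eich w hw t ht).1.1 *ᵥ P.f) := by
  set v' := (C.form v P.e)⁻¹ • v with hv'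
  have h1 : C.form v' P.e = 1 := by rw [hv', C.form_smul_left, inv_mul_cancel₀ he]
  have h0 : C.form v' v' = 0 := by
    rw [hv', C.form_smul_left, C.form_smul_right, hv, mul_zero, mul_zero]
  refine ⟨P.proj v', P.proj_mem _, C.form v' P.f, ?_, ?_⟩
  · have h2 := P.form_decomp v' v'
    rw [h0, h1, map_one] at h2
    linear_combination -h2
  · rw [P.eich_f]
    have h2 : v = C.form v P.e • v' := by rw [hv', smul_inv_smul₀ he]
    conv_lhs => rw [h2, P.decomp v', h1, one_smul]
    congr 1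
    abel

/-- `L` fixes the two points of the pair. -/
def UPair.Diag (P : UPair C n) (L : ↥(Cfsg.SU n F q)) (a : F) : Prop :=
  L.1.1 *ᵥ P.e = a • P.e ∧ L.1.1 *ᵥ P.f = (C.bar a)⁻¹ • P.f

omit [Finite F] in
theorem UPair.Diag.ne_zero {P : UPair C n} {L : ↥(Cfsg.SU n F q)} {a : F} (h : P.Diag L a) :
    a ≠ 0 := fun h0 => su_mulVec_ne_zero L P.e_ne_zero (by rw [h.1, h0, zero_smul])

omit [Finite F] in
theorem UPair.Diag.mem {P : UPair C n} {L : ↥(Cfsg.SU n F q)} {a : F} (h : P.Diag L a) {w : V}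
    (hw : w ∈ P.perp) : C.bar a • (L.1.1 *ᵥ w) ∈ P.perp := by
  have ha : C.bar a ≠ 0 := by simpa using h.ne_zero
  refine P.perp.smul_mem _ ⟨?_, ?_⟩
  · have h1 := C.form_su L w P.e
    rw [h.1, C.form_smul_right, hw.1] at h1
    exact (mul_eq_zero.1 h1).resolve_left ha
  · have h1 := C.form_su L w P.f
    rw [h.2, C.form_smul_right, hw.2] at h1
    exact (mul_eq_zero.1 h1).resolve_left (by simpa using h.ne_zero)

theorem UPair.Diag.conj_eich {P : UPair C n} {L : ↥(Cfsg.SU n F q)} {a : F} (h : P.Diag L a)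
    {w : V} (hw : w ∈ P.perp) {t : F} (ht : t + C.bar t + C.form w w = 0) :
    ∃ ht', L * P.eich w hw t ht * L⁻¹ =
      P.eich (C.bar a • (L.1.1 *ᵥ w)) (h.mem hw) (a * C.bar a * t) ht' := by
  refine ⟨?_, ?_⟩
  · rw [C.form_smul_left, C.form_smul_right, C.form_su, C.bar_bar, map_mul, C.norm_fixed]
    linear_combination (a * C.bar a) * ht
  rw [mul_inv_eq_iff_eq_mul]
  refine su_ext fun x => ?_
  have h1 : C.form (L.1.1 *ᵥ x) P.e * C.bar a = C.form x P.e := by
    rw [← C.form_su L x P.e, h.1, C.form_smul_right, mul_comm]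
  rw [suMat_mulVec_mul, suMat_mulVec_mul, P.eich_mulVec, P.eich_mulVec, C.form_smul_right,
    C.form_su, C.bar_bar, Matrix.mulVec_add, Matrix.mulVec_add, Matrix.mulVec_smul,
    Matrix.mulVec_smul, h.1, ← h1]
  module

/-- A diagonal element acting on `u` and the pair. -/
theorem UPair.exists_diag (P : UPair C n) {u : V} (hu : u ∈ P.perp) (huu : C.form u u = 1) {y : F}
    (hy : y ≠ 0) :
    ∃ L : ↥(Cfsg.SU n F q), P.Diag L y ∧ ∀ w ∈ P.perp, C.bar y • (L.1.1 *ᵥ w) =
      C.bar y • w + ((C.bar y ^ 2 / y - C.bar y) * C.form w u) • u := by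
  classical
  have hby : C.bar y ≠ 0 := by simpa using hy
  set k := C.bar y / y with hk
  have hkn : k * C.bar k = 1 := by
    rw [hk, map_div₀, C.bar_bar]
    field_simp
  let L : ↥(Cfsg.SU n F q) := C.mkSU ((P.torus y hy).1.1 * C.rmap u u (k - 1))
    (by
      rw [Matrix.det_mul, C.det_rmap, huu]
      show (C.rmap P.e P.f (y - 1) * C.rmap P.f P.e ((C.bar y)⁻¹ - 1)).det * _ = 1
      rw [Matrix.det_mul, C.det_rmap, C.det_rmap, P.ef, P.fe, hk]
      field_simp
      ring)
    (fun a b => by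
      simp only [← Matrix.mulVec_mulVec]
      rw [C.mem_gu_iff.1 (P.torus y hy).2]
      simp only [C.rmap_mulVec, C.form_add_left, C.form_add_right, C.form_smul_left,
        C.form_smul_right, huu, map_mul, map_sub, map_one, C.bar_form]
      linear_combination (C.form a u * C.form u b) * hkn)
  have hL : ∀ x, L.1.1 *ᵥ x = (P.torus y hy).1.1 *ᵥ (x + ((k - 1) * C.form x u) • u) := fun x => by
    show ((P.torus y hy).1.1 * C.rmap u u (k - 1)) *ᵥ x = _
    rw [← Matrix.mulVec_mulVec, C.rmap_mulVec]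
  refine ⟨L, ⟨?_, ?_⟩, fun w hw => ?_⟩
  · rw [hL, C.form_swap_zero hu.1, mul_zero, zero_smul, add_zero, P.torus_mulVec, P.ee, P.ef]
    simp [sub_smul]
  · rw [hL, C.form_swap_zero hu.2, mul_zero, zero_smul, add_zero, P.torus_mulVec, P.fe, P.ff]
    simp [sub_smul]
  · rw [hL, P.torus_mulVec]
    simp only [C.form_add_left, C.form_smul_left, hu.1, hu.2, hw.1, hw.2, mul_zero, add_zero,
      zero_smul, smul_add, smul_smul]
    congr 2
    rw [hk]
    field_simp

theorem UPair.diag_tv (P : UPair C n) {v : V} (hv : v ∈ P.perp) (hvv : C.form v v = 0) (t : F)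
    (ht : t + C.bar t = 0) : P.Diag (C.tv v hvv t ht) 1 := by
  constructor
  · rw [C.tv_mulVec, C.form_swap_zero hv.1]; simp
  · rw [C.tv_mulVec, C.form_swap_zero hv.2]; simp

variable (p : ℕ) [Fact p.Prime] [CharP F p]

/-- Criterion for lying in the Eichler group. -/
theorem eich_of_criterion (hn : 3 ≤ n) (P : UPair C n) (X : ↥(Cfsg.SU n F q)) {k : ℕ}
    (hk : pr X ^ p ^ k = 1) {a : F} (ha : X.1.1 *ᵥ P.e = a • P.e)
    (hc : ∀ y z : V, C.form y y = 0 → C.form z z = 0 → C.form y P.e = 0 → C.form z P.e = 0 →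
      C.form z y = 0 → C.form z (X.1.1 *ᵥ y) = 0) :
    ∃ (w : V) (hw : w ∈ P.perp) (t : F) (ht : t + C.bar t + C.form w w = 0),
      pr X = pr (P.eich w hw t ht) := by
  classical
  have ha0 : a ≠ 0 := fun h0 => su_mulVec_ne_zero X P.e_ne_zero (by rw [ha, h0, zero_smul])
  have hba : C.bar a ≠ 0 := by simpa using ha0
  have hXe : ∀ y, C.bar a * C.form (X.1.1 *ᵥ y) P.e = C.form y P.e := fun y => by
    rw [← C.form_smul_right, ← ha, C.form_su]
  have hperpe : ∀ y ∈ P.perp, C.form (X.1.1 *ᵥ y) P.e = 0 := fun y hy => by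
    have := hXe y
    rw [hy.1, mul_eq_zero] at this
    exact this.resolve_left hba
  have hXy : ∀ y ∈ P.perp,
      X.1.1 *ᵥ y = C.form (X.1.1 *ᵥ y) P.f • P.e + P.proj (X.1.1 *ᵥ y) := fun y hy => by
    conv_lhs => rw [P.decomp (X.1.1 *ᵥ y), hperpe y hy, zero_smul, add_zero]
  -- isotropic points of the orthogonal are fixed modulo `e`
  have hfix : ∀ y ∈ P.perp, C.form y y = 0 → ∃ b : F, P.proj (X.1.1 *ᵥ y) = b • y := by
    intro y hy hyy
    rcases eq_or_ne y 0 with rfl | hy0
    · exact ⟨0, by rw [Matrix.mulVec_zero, P.proj_of_mem P.perp.zero_mem, zero_smul]⟩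
    set y' := P.proj (X.1.1 *ᵥ y) with hy'
    have hy'm : y' ∈ P.perp := P.proj_mem _
    have hy'0 : C.form y' y' = 0 := by
      have h1 := C.form_su X y y
      rw [hyy, hXy y hy, ← hy'] at h1
      simpa [C.form_add_left, C.form_add_right, C.form_smul_left, C.form_smul_right, P.ee, hy'm.1,
        C.form_swap_zero hy'm.1] using h1
    by_contra hcon
    obtain ⟨x, hx, hxy, hxy'⟩ : ∃ x ∈ P.perp, C.form x y = 0 ∧ C.form x y' = 1 := by
      by_contra hno
      refine hcon (C.eq_smul_of_orth hy0 fun x hx => ?_)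
      by_contra hxy'
      have hpy : ∀ z ∈ P.perp, C.form (P.proj x) z = C.form x z := fun z hz => by
        simp [UPair.proj, C.form_sub_left, C.form_smul_left, C.form_swap_zero hz.1,
          C.form_swap_zero hz.2]
      exact hno ⟨(C.form x y')⁻¹ • P.proj x, P.perp.smul_mem _ (P.proj_mem x),
        by rw [C.form_smul_left, hpy y hy, hx, mul_zero],
        by rw [C.form_smul_left, hpy y' hy'm, inv_mul_cancel₀ hxy']⟩
    obtain ⟨z, hz, hzz, hzy, hzy'⟩ := C.exists_isotropic_sep hy hyy hx hxy hxy' hy'm hy'0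
    apply hzy'
    have h1 := hc y z hyy hzz hy.1 hz.1 hzy
    rwa [hXy y hy, C.form_add_right, C.form_smul_right, hz.1, mul_zero, zero_add] at h1
  -- so it is a scalar on the orthogonal modulo `e`
  obtain ⟨u, hu, huu, hub⟩ := P.exists_basis
  set M : V → V := fun y => P.proj (X.1.1 *ᵥ y) with hM
  have hMadd : ∀ y z, M (y + z) = M y + M z := fun y z => by
    simp only [hM, Matrix.mulVec_add, P.proj_add]
  have hMsmul : ∀ (c : F) y, M (c • y) = c • M y := fun c y => by
    simp only [hM, Matrix.mulVec_smul, P.proj_smul]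
  have hpairs : ∀ i j, i ≠ j → ∃ b : F, M (u i) = b • u i ∧ M (u j) = b • u j := by
    intro i j hij
    obtain ⟨c, hcn⟩ := C.exists_norm (c := (-1 : F)) (by rw [map_neg, map_one])
    obtain ⟨y, hy⟩ := C.exists_sq_ne
    have hy0 : y ≠ 0 := by rintro rfl; simp at hy
    have hby : C.bar y ≠ 0 := by simpa using hy0
    have hc0 : c ≠ 0 := by rintro rfl; simp at hcn
    set ζ := C.bar y / y with hζ
    have hζn : ζ * C.bar ζ = 1 := by rw [hζ, map_div₀, C.bar_bar]; field_simp
    have hζ0 : ζ ≠ 0 := div_ne_zero hby hy0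
    have hζ2 : ζ ^ 2 ≠ 1 := by
      rw [hζ, div_pow, Ne, div_eq_one_iff_eq (pow_ne_zero 2 hy0)]; exact hy
    have hv : ∀ d : F, d * C.bar d = -1 → ∃ b : F, M (u i) + d • M (u j) = b • u i + (b * d) • u j := by
      intro d hd
      obtain ⟨b, hb⟩ := hfix (u i + d • u j) (P.perp.add_mem (hu i) (P.perp.smul_mem d (hu j))) (by
        simp only [C.form_add_left, C.form_add_right, C.form_smul_left, C.form_smul_right, huu, if_pos,
          if_neg hij, if_neg hij.symm]
        linear_combination hd)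
      refine ⟨b, ?_⟩
      rw [← hMsmul, ← hMadd]
      show P.proj _ = _
      rw [hb, smul_add, smul_smul]
    have hn1 : (c * ζ) * C.bar (c * ζ) = -1 := by
      rw [map_mul]; linear_combination (ζ * C.bar ζ) * hcn - hζn
    have hn2 : (c * ζ⁻¹) * C.bar (c * ζ⁻¹) = -1 := by
      rw [map_mul, map_inv₀, mul_mul_mul_comm, hcn, ← mul_inv, hζn, inv_one, mul_one]
    obtain ⟨b0, h0⟩ := hv c hcn
    obtain ⟨b1, h1⟩ := hv _ hn1
    obtain ⟨b2, h2⟩ := hv _ hn2
    set Ai := C.form (M (u i)) (u i)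
    set Aj := C.form (M (u j)) (u i)
    set Bi := C.form (M (u i)) (u j)
    set Bj := C.form (M (u j)) (u j)
    have e0 := congrArg (fun z => C.form z (u i)) h0
    have e1 := congrArg (fun z => C.form z (u i)) h1
    have e2 := congrArg (fun z => C.form z (u i)) h2
    have f0 := congrArg (fun z => C.form z (u j)) h0
    have f1 := congrArg (fun z => C.form z (u j)) h1
    have f2 := congrArg (fun z => C.form z (u j)) h2
    simp [C.form_add_left, C.form_smul_left, huu, hij, hij.symm] at e0 e1 e2 f0 f1 f2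
    -- the three equations for `b`
    have g0 : Bi + c * Bj = (Ai + c * Aj) * c := by rw [f0, e0]
    have g1 : Bi + c * ζ * Bj = (Ai + c * ζ * Aj) * (c * ζ) := by rw [f1, e1]
    have g2 : Bi + c * ζ⁻¹ * Bj = (Ai + c * ζ⁻¹ * Aj) * (c * ζ⁻¹) := by rw [f2, e2]
    have hζ1 : ζ ≠ 1 := fun h => hζ2 (by rw [h, one_pow])
    have k1 : Bj = Ai + c * (1 + ζ) * Aj :=
      mul_left_cancel₀ (mul_ne_zero hc0 (sub_ne_zero.2 hζ1)) (by linear_combination g1 - g0)
    have k2 : Bj = Ai + c * (1 + ζ⁻¹) * Aj := by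
      have hne : ζ⁻¹ ≠ 1 := fun h => hζ1 (inv_eq_one.1 h)
      exact mul_left_cancel₀ (mul_ne_zero hc0 (sub_ne_zero.2 hne)) (by linear_combination g2 - g0)
    have hAj : Aj = 0 := by
      have h3 : c * (ζ - ζ⁻¹) * Aj = 0 := by linear_combination k2 - k1
      have hne : ζ - ζ⁻¹ ≠ 0 := by
        intro h
        apply hζ2
        field_simp at h
        linear_combination h
      exact (mul_eq_zero.1 h3).resolve_left (mul_ne_zero hc0 hne)
    have hBA : Bj = Ai := by rw [k1, hAj]; ring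
    have hBi : Bi = 0 := by linear_combination g0 + (-c) * hBA + c ^ 2 * hAj
    have hb0 : b0 = Ai := by linear_combination -e0 + c * hAj
    have hb1 : b1 = Ai := by linear_combination -e1 + c * ζ * hAj
    rw [hb0] at h0
    rw [hb1] at h1
    have h3 : (c * ζ - c) • (M (u j) - Ai • u j) = 0 := by
      have h4 : (M (u i) + (c * ζ) • M (u j)) - (M (u i) + c • M (u j)) -
          ((Ai • u i + (Ai * (c * ζ)) • u j) - (Ai • u i + (Ai * c) • u j)) = 0 := by
        rw [h0, h1, sub_self]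
      rw [← h4]
      module
    have hj : M (u j) = Ai • u j := by
      refine sub_eq_zero.1 ((smul_eq_zero.1 h3).resolve_left ?_)
      rw [← mul_sub_one]
      exact mul_ne_zero hc0 (sub_ne_zero.2 hζ1)
    refine ⟨Ai, ?_, hj⟩
    rw [hj, smul_smul, mul_comm c] at h0
    exact add_right_cancel h0
  have hidx : 0 < n - 2 := by omega
  set i₀ : Fin (n - 2) := ⟨0, hidx⟩
  set m := C.form (M (u i₀)) (u i₀) with hm
  have hMu : ∀ i, M (u i) = m • u i := by
    intro i
    by_cases hex : ∃ j, j ≠ i₀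
    · obtain ⟨j, hj⟩ := hex
      rcases eq_or_ne i i₀ with rfl | hi
      · obtain ⟨b, hb, -⟩ := hpairs i₀ j hj.symm
        rw [hb, hm, hb, C.form_smul_left, huu, if_pos rfl, mul_one]
      · obtain ⟨b, hb, hbi⟩ := hpairs i₀ i hi.symm
        rw [hbi, hm, hb, C.form_smul_left, huu, if_pos rfl, mul_one]
    · push Not at hex
      rw [hex i]
      conv_lhs => rw [hub (M (u i₀)) (P.proj_mem _)]
      exact (Fintype.sum_eq_single i₀ fun j hj => absurd (hex j) hj).trans rfl
  have hMy : ∀ y ∈ P.perp, M y = m • y := by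
    intro y hy
    conv_lhs => rw [hub y hy]
    conv_rhs => rw [hub y hy]
    let Mh : V →ₗ[F] V := { toFun := M, map_add' := hMadd, map_smul' := hMsmul }
    show Mh _ = _
    rw [map_sum, Finset.smul_sum]
    refine Finset.sum_congr rfl fun i _ => ?_
    rw [map_smul]
    show C.form y (u i) • M (u i) = _
    rw [hMu, smul_comm]
  have hXperp : ∀ y ∈ P.perp, X.1.1 *ᵥ y = C.form (X.1.1 *ᵥ y) P.f • P.e + m • y := fun y hy => by
    conv_lhs => rw [hXy y hy]
    rw [show P.proj (X.1.1 *ᵥ y) = m • y from hMy y hy]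
  have hu0 := hu i₀
  have hu00 : C.form (u i₀) (u i₀) = 1 := by rw [huu, if_pos rfl]
  have hmn : m * C.bar m = 1 := by
    have h1 := C.form_su X (u i₀) (u i₀)
    rw [hXperp _ hu0] at h1
    simpa [C.form_add_left, C.form_add_right, C.form_smul_left, C.form_smul_right, P.ee, hu00,
      hu0.1, C.form_swap_zero hu0.1] using h1
  -- compare the eigenvalues
  have ham : a = m := by
    have hpow : ∀ N : ℕ, (X ^ N).1.1 *ᵥ P.e = a ^ N • P.e ∧
        ∃ r : F, (X ^ N).1.1 *ᵥ u i₀ = r • P.e + m ^ N • u i₀ := by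
      intro N
      induction N with
      | zero => simp only [pow_zero, su_one_mulVec, one_smul]; exact ⟨trivial, 0, by simp⟩
      | succ N ih =>
        obtain ⟨h1, r, h2⟩ := ih
        rw [pow_succ', suMat_mulVec_mul, suMat_mulVec_mul, h1, h2, Matrix.mulVec_smul, ha]
        refine ⟨by rw [smul_smul, ← pow_succ], ?_⟩
        rw [Matrix.mulVec_add, Matrix.mulVec_smul, Matrix.mulVec_smul, ha, hXperp _ hu0]
        exact ⟨r * a + m ^ N * C.form (X.1.1 *ᵥ u i₀) P.f, by module⟩
    obtain ⟨h1, r, h2⟩ := hpow (p ^ k)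
    obtain ⟨c, hc'⟩ := (C.pr_eq_iff hn (A := 1) (B := X ^ p ^ k)).1 (by rw [map_one, map_pow, hk])
    rw [hc', Matrix.smul_mulVec, su_one_mulVec] at h1 h2
    have e1 := congrArg (fun z => C.form z P.f) h1
    simp [C.form_smul_left, P.ef] at e1
    have e2 := congrArg (fun z => C.form z (u i₀)) h2
    simp [C.form_smul_left, C.form_add_left, C.form_swap_zero hu0.1, hu00] at e2
    refine iterateFrobenius_inj F p k ?_
    rw [iterateFrobenius_def, iterateFrobenius_def, ← e1, ← e2]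
  rw [← ham] at hXperp hmn
  have hXf : C.form (X.1.1 *ᵥ P.f) P.e = a := by
    have := hXe P.f
    rw [P.fe] at this
    exact mul_left_cancel₀ hba (by rw [this, mul_comm, hmn])
  obtain ⟨w, hw, t, ht, hv⟩ := P.exists_eich_point (v := X.1.1 *ᵥ P.f) (by rw [C.form_su, P.ff])
    (by rw [hXf]; exact ha0)
  rw [hXf] at hv
  refine ⟨w, hw, t, ht, ((C.pr_eq_iff hn).2 ⟨a, ?_⟩).symm⟩
  refine Matrix.ext_iff_mulVec.2 fun x => ?_
  conv_lhs => rw [P.decomp x, Matrix.mulVec_add, Matrix.mulVec_add, Matrix.mulVec_smul,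
    Matrix.mulVec_smul, ha, hv, hXperp _ (P.proj_mem x)]
  have hα : C.form (X.1.1 *ᵥ P.proj x) P.f = -(a * C.form (P.proj x) w) := by
    have h1 := C.form_su X (P.proj x) P.f
    rw [hXperp _ (P.proj_mem x), hv, P.eich_f, (P.proj_mem x).2] at h1
    simp only [C.form_add_left, C.form_add_right, C.form_smul_left, C.form_smul_right, P.ee, P.ef,
      (P.proj_mem x).1, (P.proj_mem x).2, C.form_swap_zero hw.1] at h1
    linear_combination a * h1 - (C.form (X.1.1 *ᵥ P.proj x) P.f + a * C.form (P.proj x) w) * hmn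
  conv_rhs => rw [Matrix.smul_mulVec, P.decomp x, Matrix.mulVec_add, Matrix.mulVec_add,
    Matrix.mulVec_smul, Matrix.mulVec_smul, P.eich_e, P.eich_perp w hw t ht (P.proj_mem x)]
  rw [hα]
  module

variable {p}

/-- `β` fixes the two points of the pair. -/
def UPair.Fix (P : UPair C n) (β : MulAut (Cfsg.PSU n F q)) : Prop :=
  Maps C β P.e P.e ∧ Maps C β P.f P.f

theorem UPair.Fix.inv {P : UPair C n} {β : MulAut (Cfsg.PSU n F q)} (h : P.Fix β) (hn : 3 ≤ n) :
    P.Fix β⁻¹ := by
  obtain ⟨p', hp'⟩ := CharP.exists F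
  haveI : Fact p'.Prime := ⟨CharP.char_is_prime F p'⟩
  exact ⟨h.1.symm p' hn P, h.2.symm p' hn P⟩

/-- The image of an element of the Eichler group. -/
theorem UPair.Fix.exists_eich {P : UPair C n} {β : MulAut (Cfsg.PSU n F q)} (h : P.Fix β)
    (hn : 3 ≤ n) {w : V} (hw : w ∈ P.perp) {t : F} (ht : t + C.bar t + C.form w w = 0) :
    ∃ (w' : V) (hw' : w' ∈ P.perp) (t' : F) (ht' : t' + C.bar t' + C.form w' w' = 0),
      β (pr (P.eich w hw t ht)) = pr (P.eich w' hw' t' ht') := by
  obtain ⟨p, hp'⟩ := CharP.exists F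
  haveI : Fact p.Prime := ⟨CharP.char_is_prime F p⟩
  obtain ⟨X, hX⟩ := QuotientGroup.mk'_surjective _ (β (pr (P.eich w hw t ht)))
  obtain ⟨k, hk⟩ : ∃ k, pr X ^ p ^ k = 1 := by
    obtain ⟨k, hk⟩ := P.isPGroup_eichGroup p ⟨_, P.eich_mem w hw t ht⟩
    refine ⟨k, ?_⟩
    have hk' : P.eich w hw t ht ^ p ^ k = 1 := congrArg Subtype.val hk
    rw [show pr X = β (pr (P.eich w hw t ht)) from hX, ← map_pow, ← map_pow, hk', map_one, map_one]
  have hXm : ∀ {v v' : V}, Maps C β v v' →
      Maps C β ((P.eich w hw t ht).1.1 *ᵥ v) (X.1.1 *ᵥ v') := fun hv => hv.conj hX.symm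
  obtain ⟨a, -, ha⟩ : ∃ a : F, a ≠ 0 ∧ X.1.1 *ᵥ P.e = a • P.e := by
    have h1 := hXm h.1
    rw [P.eich_e] at h1
    exact Maps.unique hn h.1 h1
  obtain ⟨w', hw', t', ht', he⟩ := eich_of_criterion p hn P X hk ha fun y z hy hz hye hze hzy => by
    rcases eq_or_ne y 0 with rfl | hy0
    · rw [Matrix.mulVec_zero, C.form_zero_right]
    rcases eq_or_ne z 0 with rfl | hz0
    · rw [C.form_zero_left]
    obtain ⟨y₀, hy₀⟩ := exists_maps p hn P β⁻¹ hy hy0
    obtain ⟨z₀, hz₀⟩ := exists_maps p hn P β⁻¹ hz hz0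
    have my : Maps C β y₀ y := by simpa using hy₀.symm p hn P
    have mz : Maps C β z₀ z := by simpa using hz₀.symm p hn P
    have hy₀e : C.form y₀ P.e = 0 := (my.orth hn h.1).2 hye
    have hz₀e : C.form z₀ P.e = 0 := (mz.orth hn h.1).2 hze
    refine (mz.orth hn (hXm my)).1 ?_
    rw [P.eich_mulVec, hy₀e, zero_smul, add_zero, C.form_add_right, C.form_smul_right,
      (mz.orth hn my).2 hzy, hz₀e, mul_zero, add_zero]
  exact ⟨w', hw', t', ht', hX.symm.trans he⟩

end CfsgLib.SU
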