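import Mathlib
import Cfsg.Agent.Lib.SU.Borel

/-!
An automorphism fixing a hyperbolic pair of points acts semilinearly on the Eichler group.
-/

set_option autoImplicit false

namespace CfsgLib.SU

open Matrix

variable {F : Type*} [Field F] [Finite F] {q : ℕ} {C : UCtx F q} {n : ℕ}

local notation "V" => (Fin n → F)

/-- `β` maps `E(w, t)` to `E(w', t')`. -/
def UPair.Img (P : UPair C n) (β : MulAut (Cfsg.PSU n F q)) (w : Fin n → F) (t : F)
    (w' : Fin n → F) (t' : F) : Prop :=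
  ∃ (hw : w ∈ P.perp) (ht : t + C.bar t + C.form w w = 0) (hw' : w' ∈ P.perp)
    (ht' : t' + C.bar t' + C.form w' w' = 0),
    β (pr (P.eich w hw t ht)) = pr (P.eich w' hw' t' ht')

variable {P : UPair C n} {β : MulAut (Cfsg.PSU n F q)} {w w₁ w₂ a b : Fin n → F} {t t₁ t₂ s r : F}

theorem UPair.pr_eich_inj (hn : 3 ≤ n) {hw : w ∈ P.perp} {ht : t + C.bar t + C.form w w = 0}
    {hw₁ : w₁ ∈ P.perp} {ht₁ : t₁ + C.bar t₁ + C.form w₁ w₁ = 0}
    (h : pr (P.eich w hw t ht) = pr (P.eich w₁ hw₁ t₁ ht₁)) : w = w₁ ∧ t = t₁ :=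
  P.eich_inj (C.pr_eq_fix hn h P.e_ne_zero (P.eich_e ..) (P.eich_e ..))

theorem UPair.Img.unique (hn : 3 ≤ n) (h : P.Img β w t a s) (h' : P.Img β w t b r) :
    a = b ∧ s = r := by
  obtain ⟨hw, ht, ha, hs, he⟩ := h
  obtain ⟨hw', ht', hb, hr, he'⟩ := h'
  exact UPair.pr_eich_inj hn (he.symm.trans he')

omit [Finite F] in
theorem UPair.Img.mul (h : P.Img β w₁ t₁ a s) (h' : P.Img β w₂ t₂ b r) :
    P.Img β (w₁ + w₂) (t₁ + t₂ - C.form w₂ w₁) (a + b) (s + r - C.form b a) := by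
  obtain ⟨hw, ht, ha, hs, he⟩ := h
  obtain ⟨hw', ht', hb, hr, he'⟩ := h'
  exact ⟨P.perp.add_mem hw hw', P.eich_cond_mul ht ht', P.perp.add_mem ha hb,
    P.eich_cond_mul hs hr, by
      rw [← P.eich_mul w₁ w₂ hw hw' t₁ t₂ ht ht', map_mul, map_mul, he, he', ← map_mul, P.eich_mul]⟩

omit [Finite F] in
theorem UPair.Img.inv (h : P.Img β w t a s) : P.Img β⁻¹ a s w t := by
  obtain ⟨hw, ht, ha, hs, he⟩ := h
  exact ⟨ha, hs, hw, ht, by rw [← he]; exact β.symm_apply_apply _⟩

omit [Finite F] in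
theorem UPair.Img.mem (h : P.Img β w t a s) :
    w ∈ P.perp ∧ a ∈ P.perp ∧ s + C.bar s + C.form a a = 0 := ⟨h.1, h.2.2.1, h.2.2.2.1⟩

theorem UPair.Img.diag (h : P.Img β w t a s) {L L' : ↥(Cfsg.SU n F q)} {c c' : F}
    (hL : P.Diag L c) (hL' : P.Diag L' c') (hLL : β (pr L) = pr L') :
    P.Img β (C.bar c • (L.1.1 *ᵥ w)) (c * C.bar c * t) (C.bar c' • (L'.1.1 *ᵥ a))
      (c' * C.bar c' * s) := by
  obtain ⟨hw, ht, ha, hs, he⟩ := h
  obtain ⟨ht', e⟩ := hL.conj_eich hw ht
  obtain ⟨hs', e'⟩ := hL'.conj_eich ha hs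
  exact ⟨hL.mem hw, ht', hL'.mem ha, hs', by
    rw [← e, ← e']; simp only [map_mul, map_inv, hLL, he]⟩

theorem UPair.Fix.exists_img (h : P.Fix β) (hn : 3 ≤ n) (hw : w ∈ P.perp)
    (ht : t + C.bar t + C.form w w = 0) : ∃ a s, P.Img β w t a s := by
  obtain ⟨a, ha, s, hs, he⟩ := h.exists_eich hn hw ht
  exact ⟨a, s, hw, ht, ha, hs, he⟩

theorem UPair.Fix.img_zero (h : P.Fix β) {d : F} (hd : d + C.bar d = 0) :
    ∃ s, P.Img β 0 d 0 s := by
  have hz : ∀ e : F, e + C.bar e = 0 → e + C.bar e + C.form (0 : V) 0 = 0 := fun e he => by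
    rw [C.form_zero_left, add_zero, he]
  rcases eq_or_ne d 0 with rfl | hd0
  · refine ⟨0, P.perp.zero_mem, hz _ hd, P.perp.zero_mem, hz _ hd, ?_⟩
    have h1 : P.eich 0 P.perp.zero_mem 0 (hz _ hd) = 1 := su_ext fun x => by
      rw [P.eich_mulVec, su_one_mulVec, C.form_zero_right]; simp
    rw [h1, map_one, map_one]
  · obtain ⟨he0, he0', hee, hee', hh⟩ := id h.1
    obtain ⟨s, hs, -, he⟩ := hh d hd hd0
    exact ⟨s, P.perp.zero_mem, hz _ hd, P.perp.zero_mem, hz _ hs, by
      rw [P.eich_zero_eq_tv, P.eich_zero_eq_tv, he]⟩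

theorem UPair.Img.fst_unique (hn : 3 ≤ n) (h : P.Fix β) (h₁ : P.Img β w t a s)
    (h₂ : P.Img β w t₁ b r) : a = b := by
  have e1 := h₁.2.1
  have e2 := h₂.2.1
  obtain ⟨d, hd⟩ := h.img_zero (d := t₁ - t) (by rw [map_sub]; linear_combination e2 - e1)
  have h3 := h₁.mul hd
  simp only [add_zero, C.form_zero_left, sub_zero, add_sub_cancel] at h3
  exact (h3.unique hn h₂).1

theorem UPair.Fix.exists_A (h : P.Fix β) (hn : 3 ≤ n) :
    ∃ A : V → V, (∀ w ∈ P.perp, A w ∈ P.perp) ∧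
      ∀ w ∈ P.perp, ∀ t : F, t + C.bar t + C.form w w = 0 → ∃ s, P.Img β w t (A w) s := by
  have key : ∀ w : V, ∃ a : V, w ∈ P.perp →
      a ∈ P.perp ∧ ∀ t : F, t + C.bar t + C.form w w = 0 → ∃ s, P.Img β w t a s := by
    intro w
    by_cases hw : w ∈ P.perp
    · obtain ⟨t, ht⟩ := C.exists_trace (c := -C.form w w) (by rw [map_neg, C.form_self_fixed])
      obtain ⟨a, s, has⟩ := h.exists_img hn hw (t := t) (by rw [ht, neg_add_cancel])
      refine ⟨a, fun _ => ⟨has.mem.2.1, fun t' ht' => ?_⟩⟩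
      obtain ⟨a', s', has'⟩ := h.exists_img hn hw ht'
      exact ⟨s', by rw [UPair.Img.fst_unique hn h has has']; exact has'⟩
    · exact ⟨0, fun h' => absurd h' hw⟩
  choose A hA using key
  exact ⟨A, fun w hw => (hA w hw).1, fun w hw => (hA w hw).2⟩

omit [Finite F] in
theorem UPair.sum_map {θ : V → V} (hadd : ∀ v ∈ P.perp, ∀ w ∈ P.perp, θ (v + w) = θ v + θ w)
    {ι : Type*} (S : Finset ι) (g : ι → V) (hg : ∀ i, g i ∈ P.perp) :
    θ (∑ i ∈ S, g i) = ∑ i ∈ S, θ (g i) := by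
  classical
  induction S using Finset.induction_on with
  | empty =>
    have := hadd 0 P.perp.zero_mem 0 P.perp.zero_mem
    rw [add_zero] at this
    simpa using this
  | insert i S hi ih =>
    rw [Finset.sum_insert hi, Finset.sum_insert hi,
      hadd _ (hg i) _ (P.perp.sum_mem fun j _ => hg j), ih]

/-- An additive map commuting with the diagonal operators is a scalar. -/
theorem UPair.eq_smul_of_commute (hn : 3 ≤ n) (h3 : n = 3 → ∃ y : F, C.bar y ^ 3 ≠ y ^ 3)
    (θ : V → V) (hmem : ∀ w ∈ P.perp, θ w ∈ P.perp)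
    (hadd : ∀ v ∈ P.perp, ∀ w ∈ P.perp, θ (v + w) = θ v + θ w)
    (hcomm : ∀ (L : ↥(Cfsg.SU n F q)) (c : F), P.Diag L c → ∀ w ∈ P.perp,
      θ (C.bar c • (L.1.1 *ᵥ w)) = C.bar c • (L.1.1 *ᵥ θ w)) :
    ∃ k : F, ∀ w ∈ P.perp, θ w = k • w := by
  classical
  obtain ⟨u, hu, huu, hub⟩ := P.exists_basis
  set φ : Fin (n - 2) → Fin (n - 2) → F → F := fun l j x => C.form (θ (x • u j)) (u l) with hφ
  have hφadd : ∀ l j x y, φ l j (x + y) = φ l j x + φ l j y := fun l j x y => by
    simp only [hφ, add_smul, hadd _ (P.perp.smul_mem x (hu j)) _ (P.perp.smul_mem y (hu j)),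
      C.form_add_left]
  have hφop : ∀ i l j (x : F) {y : F}, y ≠ 0 →
      φ l j ((if j = i then C.bar y ^ 2 / y else C.bar y) * x) =
        (if l = i then C.bar y ^ 2 / y else C.bar y) * φ l j x := by
    intro i l j x y hy
    obtain ⟨L, hL, hLw⟩ := P.exists_diag (hu i) (by rw [huu, if_pos rfl]) hy
    have h1 := congrArg (fun z => C.form z (u l)) (hcomm L y hL _ (P.perp.smul_mem x (hu j)))
    rw [hLw _ (P.perp.smul_mem x (hu j)), hLw _ (hmem _ (P.perp.smul_mem x (hu j)))] at h1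
    simp only [C.form_add_left, C.form_smul_left, huu] at h1
    simp only [hφ]
    rcases eq_or_ne j i with rfl | hji
    · simp only [if_pos, mul_one] at h1
      rw [if_pos rfl, show (C.bar y ^ 2 / y * x) • u j =
        C.bar y • x • u j + ((C.bar y ^ 2 / y - C.bar y) * x) • u j by module, h1]
      rcases eq_or_ne l j with rfl | hlj
      · simp only [if_pos]; ring
      · rw [if_neg hlj, if_neg hlj.symm]; ring
    · rw [if_neg hji] at h1 ⊢
      simp only [mul_zero, zero_smul, add_zero, smul_smul] at h1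
      rw [h1]
      rcases eq_or_ne l i with rfl | hli
      · simp only [if_pos]; ring
      · rw [if_neg hli, if_neg hli.symm]; ring
  -- off-diagonal entries vanish
  have hoff : ∀ l j x, l ≠ j → φ l j x = 0 := by
    intro l j x hlj
    by_contra hne
    have hz : ∀ z : F, z ≠ 0 → φ l j (z * x) = z ^ 2 / C.bar z * φ l j x := by
      intro z hz
      have h1 := hφop l l j x (y := C.bar z) (by simpa using hz)
      rwa [if_neg hlj.symm, if_pos rfl, C.bar_bar] at h1
    obtain ⟨z, hz0⟩ := C.exists_not_fixed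
    have hzne : z ≠ 0 := by rintro rfl; simp at hz0
    have hz1 : z + 1 ≠ 0 := fun h0 => hz0 (by rw [eq_neg_of_add_eq_zero_left h0]; simp)
    have e1 := hz _ hz1
    rw [add_mul, one_mul, hφadd, hz _ hzne] at e1
    have hbz : C.bar z ≠ 0 := by simpa using hzne
    have hbz1 : C.bar z + 1 ≠ 0 := by
      intro h0
      exact hz1 (C.bar.injective (by rw [map_add, map_one, map_zero]; exact h0))
    rw [map_add, map_one] at e1
    field_simp at e1
    have h4 : (C.bar z - z) ^ 2 = 0 := by linear_combination e1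
    exact hz0 (sub_eq_zero.1 (pow_eq_zero_iff two_ne_zero |>.1 h4))
  -- diagonal entries are linear
  have hlin : ∀ j x, φ j j x = x * φ j j 1 := by
    intro j x
    by_cases hex : ∃ i, i ≠ j
    · obtain ⟨i, hi⟩ := hex
      rcases eq_or_ne x 0 with rfl | hx
      · have := hφadd j j 0 0
        rw [add_zero] at this
        rw [zero_mul]
        linear_combination -this
      · have h1 := hφop i j j 1 (y := C.bar x) (by simpa using hx)
        rwa [if_neg hi.symm, C.bar_bar, mul_one] at h1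
    · push Not at hex
      have hn3 : n = 3 := by
        by_contra h
        have h2 : 2 ≤ n - 2 := by omega
        have := (hex ⟨0, by omega⟩).trans (hex ⟨1, by omega⟩).symm
        simp [Fin.ext_iff] at this
      obtain ⟨y, hy⟩ := h3 hn3
      have hy0 : y ≠ 0 := by rintro rfl; simp at hy
      have h0 : ∀ r x, C.bar r = r → φ j j (r * x) = r * φ j j x := by
        intro r x hr
        rcases eq_or_ne r 0 with rfl | hr0
        · have := hφadd j j 0 0
          rw [add_zero] at this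
          simp only [zero_mul]
          linear_combination -this
        · have h1 := hφop j j j x hr0
          rwa [if_pos rfl, hr, sq, mul_div_assoc, div_self hr0, mul_one] at h1
      have hχ : C.bar (C.bar y ^ 2 / y) ≠ C.bar y ^ 2 / y := by
        have hby : C.bar y ≠ 0 := by simpa using hy0
        rw [map_div₀, map_pow, C.bar_bar, Ne, div_eq_div_iff hby hy0]
        intro h
        exact hy (by linear_combination -h)
      obtain ⟨a, b, ha, hb, rfl⟩ := C.exists_decomp hχ x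
      have h1 := hφop j j j 1 hy0
      rw [if_pos rfl, mul_one] at h1
      rw [hφadd, h0 b _ hb, h1]
      conv_lhs => rw [← mul_one a, h0 a _ ha]
      ring
  have hθu : ∀ j x, θ (x • u j) = (x * φ j j 1) • u j := by
    intro j x
    rw [hub _ (hmem _ (P.perp.smul_mem x (hu j))), Fintype.sum_eq_single j, ← hlin]
    intro l hl
    rw [show C.form (θ (x • u j)) (u l) = 0 from hoff l j x hl, zero_smul]
  -- the diagonal entries agree
  have heq : ∀ i j, φ i i 1 = φ j j 1 := by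
    intro i j
    rcases eq_or_ne i j with rfl | hij
    · rfl
    obtain ⟨c, hc⟩ := C.exists_norm (c := (-1 : F)) (by rw [map_neg, map_one])
    have hc0 : c ≠ 0 := by rintro rfl; simp at hc
    obtain ⟨δ, hδ0, hδ⟩ := C.exists_trace_zero
    set v := u i + c • u j with hv
    have hvm : v ∈ P.perp := P.perp.add_mem (hu i) (P.perp.smul_mem c (hu j))
    have hvv : C.form v v = 0 := by
      simp only [hv, C.form_add_left, C.form_add_right, C.form_smul_left, C.form_smul_right, huu,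
        if_pos, if_neg hij, if_neg hij.symm]
      linear_combination hc
    have hiv : C.form (u i) v = 1 := by
      rw [hv, C.form_add_right, C.form_smul_right, huu, huu, if_pos rfl, if_neg hij]; simp
    have h1 := hcomm _ 1 (P.diag_tv hvm hvv δ hδ) (u i) (hu i)
    have hθi : θ (u i) = φ i i 1 • u i := by
      have := hθu i 1
      rwa [one_smul, one_mul] at this
    rw [map_one, one_smul, one_smul, C.tv_mulVec, hiv, hθi, C.tv_mulVec, C.form_smul_left, hiv,
      hv, smul_add, smul_smul, hadd _ (hu i) _ (P.perp.add_mem (P.perp.smul_mem _ (hu i))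
        (P.perp.smul_mem _ (hu j))), hadd _ (P.perp.smul_mem _ (hu i)) _ (P.perp.smul_mem _ (hu j)),
      hθi, hθu, hθu] at h1
    have h2 := congrArg (fun z => C.form z (u j)) h1
    simp [C.form_add_left, C.form_smul_left, huu, hij] at h2
    have h4 : δ * c * (φ j j 1 - φ i i 1) = 0 := by linear_combination h2
    exact (sub_eq_zero.1 ((mul_eq_zero.1 h4).resolve_left (mul_ne_zero hδ0 hc0))).symm
  have hi₀ : 0 < n - 2 := by omega
  refine ⟨φ ⟨0, hi₀⟩ ⟨0, hi₀⟩ 1, fun w hw => ?_⟩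
  conv_lhs => rw [hub w hw, UPair.sum_map hadd _ _ fun i => P.perp.smul_mem _ (hu i)]
  conv_rhs => rw [hub w hw, Finset.smul_sum]
  refine Finset.sum_congr rfl fun i _ => ?_
  rw [hθu, smul_smul, heq i ⟨0, hi₀⟩, mul_comm]

/-- The data attached to an automorphism fixing a pair. -/
theorem UPair.Fix.exists_semilinear (h : P.Fix β) (hn : 3 ≤ n)
    (h3 : n = 3 → ∃ y : F, C.bar y ^ 3 ≠ y ^ 3) :
    ∃ (A : V → V) (σ : RingAut F) (K : F), K ≠ 0 ∧ C.bar K = K ∧
      (∀ w ∈ P.perp, A w ∈ P.perp) ∧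
      (∀ v ∈ P.perp, ∀ w ∈ P.perp, A (v + w) = A v + A w) ∧
      (∀ (z : F), ∀ w ∈ P.perp, A (z • w) = σ z • A w) ∧
      (∀ v ∈ P.perp, ∀ w ∈ P.perp, C.form (A v) (A w) = K * σ (C.form v w)) ∧
      (∀ d : F, d + C.bar d = 0 → P.Img β 0 d 0 (K * σ d)) ∧
      ∀ w ∈ P.perp, ∀ t : F, t + C.bar t + C.form w w = 0 → ∃ s, P.Img β w t (A w) s := by
  classical
  obtain ⟨A, hAm, hA⟩ := h.exists_A hn
  obtain ⟨B, hBm, hB⟩ := (h.inv hn).exists_A hn
  have htr : ∀ w : V, ∃ t : F, t + C.bar t + C.form w w = 0 := fun w => by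
    obtain ⟨t, ht⟩ := C.exists_trace (c := -C.form w w) (by rw [map_neg, C.form_self_fixed])
    exact ⟨t, by rw [ht, neg_add_cancel]⟩
  have hAadd : ∀ v ∈ P.perp, ∀ w ∈ P.perp, A (v + w) = A v + A w := by
    intro v hv w hw
    obtain ⟨t, ht⟩ := htr v
    obtain ⟨t', ht'⟩ := htr w
    obtain ⟨s, hs⟩ := hA v hv t ht
    obtain ⟨s', hs'⟩ := hA w hw t' ht'
    obtain ⟨k, hk⟩ := hA _ (P.perp.add_mem hv hw) _ (hs.mul hs').2.1
    exact (hk.unique hn (hs.mul hs')).1
  have hBA : ∀ w ∈ P.perp, B (A w) = w := by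
    intro w hw
    obtain ⟨t, ht⟩ := htr w
    obtain ⟨s, hs⟩ := hA w hw t ht
    obtain ⟨k, hk⟩ := hB _ (hAm w hw) s hs.mem.2.2
    exact (hk.unique hn hs.inv).1
  have hAB : ∀ w ∈ P.perp, A (B w) = w := by
    intro w hw
    obtain ⟨t, ht⟩ := htr w
    obtain ⟨s, hs⟩ := hB w hw t ht
    have hs' : P.Img β (B w) s w t := by simpa using hs.inv
    obtain ⟨k, hk⟩ := hA _ (hBm w hw) s hs.mem.2.2
    exact (hk.unique hn hs').1
  have hBadd : ∀ v ∈ P.perp, ∀ w ∈ P.perp, B (v + w) = B v + B w := fun v hv w hw => by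
    conv_lhs => rw [← hAB v hv, ← hAB w hw, ← hAadd _ (hBm v hv) _ (hBm w hw)]
    rw [hBA _ (P.perp.add_mem (hBm v hv) (hBm w hw))]
  -- transport of the diagonal operators
  have hdiag : ∀ (L' : ↥(Cfsg.SU n F q)) (c' : F), P.Diag L' c' →
      ∃ (L : ↥(Cfsg.SU n F q)) (c : F), P.Diag L c ∧ β (pr L) = pr L' ∧
        ∀ w ∈ P.perp, A (C.bar c • (L.1.1 *ᵥ w)) = C.bar c' • (L'.1.1 *ᵥ A w) := by
    intro L' c' hL'
    obtain ⟨L, hL⟩ := QuotientGroup.mk'_surjective _ (β⁻¹ (pr L'))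
    have hLL : β (pr L) = pr L' := by
      rw [show pr L = β⁻¹ (pr L') from hL]; exact β.apply_symm_apply _
    have hfi := h.inv hn
    have hconj : ∀ {v v' : V}, Maps C β⁻¹ v v' →
        Maps C β⁻¹ (L'.1.1 *ᵥ v) (L.1.1 *ᵥ v') := fun hv => hv.conj hL.symm
    have hme := hconj hfi.1
    rw [hL'.1] at hme
    have hc' := hL'.ne_zero
    obtain ⟨c, hc, hce⟩ := Maps.unique hn hfi.1 (by
      simpa [inv_smul_smul₀ hc'] using hme.smul_left (inv_ne_zero hc'))
    have hmf := hconj hfi.2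
    rw [hL'.2] at hmf
    have hcb : (C.bar c')⁻¹ ≠ 0 := by simpa using hc'
    obtain ⟨d, -, hdf⟩ := Maps.unique hn hfi.2 (by
      simpa [smul_smul, inv_mul_cancel₀ hcb, hc'] using hmf.smul_left (inv_ne_zero hcb))
    have hd : d = (C.bar c)⁻¹ := by
      have h1 := C.form_su L P.f P.e
      rw [hce, hdf, C.form_smul_left, C.form_smul_right, P.fe, mul_one] at h1
      exact eq_inv_of_mul_eq_one_left h1
    have hLd : P.Diag L c := ⟨hce, hd ▸ hdf⟩
    refine ⟨L, c, hLd, hLL, fun w hw => ?_⟩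
    obtain ⟨t, ht⟩ := htr w
    obtain ⟨s, hs⟩ := hA w hw t ht
    have h1 := hs.diag hLd hL' hLL
    obtain ⟨k, hk⟩ := hA _ (hLd.mem hw) _ h1.2.1
    exact (hk.unique hn h1).1
  -- multiplication by a scalar
  have hscal : ∀ z : F, ∃ k : F, ∀ w ∈ P.perp, A (z • w) = k • A w := by
    intro z
    obtain ⟨k, hk⟩ := UPair.eq_smul_of_commute (P := P) hn h3 (fun w => A (z • B w))
      (fun w hw => hAm _ (P.perp.smul_mem z (hBm w hw)))
      (fun v hv w hw => by
        rw [hBadd v hv w hw, smul_add,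
          hAadd _ (P.perp.smul_mem z (hBm v hv)) _ (P.perp.smul_mem z (hBm w hw))])
      (fun L' c' hL' w hw => by
        obtain ⟨L, c, hL, -, hop⟩ := hdiag L' c' hL'
        have h1 : B (C.bar c' • (L'.1.1 *ᵥ w)) = C.bar c • (L.1.1 *ᵥ B w) := by
          conv_lhs => rw [← hAB w hw, ← hop _ (hBm w hw), hBA _ (hL.mem (hBm w hw))]
        show A (z • B (C.bar c' • (L'.1.1 *ᵥ w))) = _
        rw [h1, ← hop _ (P.perp.smul_mem z (hBm w hw)), Matrix.mulVec_smul, smul_comm])
    refine ⟨k, fun w hw => ?_⟩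
    have h1 := hk (A w) (hAm w hw)
    simp only [hBA w hw] at h1
    exact h1
  choose σ₀ hσ₀ using hscal
  obtain ⟨u, hu, huu, -⟩ := P.exists_basis
  have hi₀ : 0 < n - 2 := by omega
  set u₀ := u ⟨0, hi₀⟩
  have hu₀ : u₀ ∈ P.perp := hu _
  have hu00 : C.form u₀ u₀ = 1 := by rw [huu, if_pos rfl]
  have hAu : A u₀ ≠ 0 := by
    intro h0
    have h1 := hBA u₀ hu₀
    have h2 : A 0 = 0 := by
      have := hAadd 0 P.perp.zero_mem 0 P.perp.zero_mem
      rw [add_zero] at this
      simpa using this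
    rw [h0, ← h2, hBA 0 P.perp.zero_mem] at h1
    rw [← h1, C.form_zero_left] at hu00
    exact zero_ne_one hu00
  have hcancel : ∀ {x y : F}, x • A u₀ = y • A u₀ → x = y := fun hxy =>
    smul_left_injective F hAu hxy
  let σh : F →+* F :=
    { toFun := σ₀
      map_one' := hcancel (by rw [← hσ₀ 1 _ hu₀, one_smul, one_smul])
      map_mul' := fun x y => hcancel (by
        rw [← hσ₀ (x * y) _ hu₀, ← smul_smul, hσ₀ x _ (P.perp.smul_mem y hu₀), hσ₀ y _ hu₀, smul_smul])
      map_zero' := hcancel (by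
        have h2 := hAadd 0 P.perp.zero_mem 0 P.perp.zero_mem
        rw [add_zero, left_eq_add] at h2
        rw [← hσ₀ 0 _ hu₀, zero_smul, zero_smul, h2])
      map_add' := fun x y => hcancel (by
        rw [← hσ₀ (x + y) _ hu₀, add_smul, add_smul,
          hAadd _ (P.perp.smul_mem x hu₀) _ (P.perp.smul_mem y hu₀), hσ₀ x _ hu₀, hσ₀ y _ hu₀]) }
  let σ : RingAut F := RingEquiv.ofBijective σh (Finite.injective_iff_bijective.1 σh.injective)
  have hσ : ∀ z : F, ∀ w ∈ P.perp, A (z • w) = σ z • A w := hσ₀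
  -- the commutator
  choose τ hτ using fun (d : {d : F // d + C.bar d = 0}) => h.img_zero d.2
  have hswap : ∀ v ∈ P.perp, ∀ w ∈ P.perp, ∀ hd,
      τ ⟨C.form v w - C.form w v, hd⟩ = C.form (A v) (A w) - C.form (A w) (A v) := by
    intro v hv w hw hd
    obtain ⟨t, ht⟩ := htr v
    obtain ⟨t', ht'⟩ := htr w
    obtain ⟨s, hs⟩ := hA v hv t ht
    obtain ⟨s', hs'⟩ := hA w hw t' ht'
    have h1 := hs.mul hs'
    have h2 := hs'.mul hs
    have h3 := h2.mul (hτ ⟨C.form v w - C.form w v, hd⟩)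
    rw [add_zero, add_zero, C.form_zero_left, C.form_zero_left, sub_zero, sub_zero,
      add_comm w v, add_comm (A w) (A v),
      show t' + t - C.form v w + (C.form v w - C.form w v) = t + t' - C.form w v by ring] at h3
    have h4 := (h1.unique hn h3).2
    linear_combination -h4
  set K := C.form (A u₀) (A u₀) with hK
  have hKfix : C.bar K = K := C.form_self_fixed _
  have hdec : ∀ d : F, d + C.bar d = 0 → ∃ c : F, c - C.bar c = d := by
    intro d hd
    obtain ⟨x, hx⟩ := C.exists_trace (c := (1 : F)) (map_one _)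
    refine ⟨d * x, ?_⟩
    rw [map_mul]
    linear_combination d * hx - C.bar x * hd
  have hτK : ∀ d : {d : F // d + C.bar d = 0}, τ d = K * σ d.1 := by
    rintro ⟨d, hd⟩
    obtain ⟨c, rfl⟩ := hdec d hd
    have h1 := hswap (c • u₀) (P.perp.smul_mem c hu₀) u₀ hu₀ (by
      rw [C.form_smul_left, C.form_smul_right, hu00, mul_one, mul_one]; exact hd)
    simp only [C.form_smul_left, C.form_smul_right, hu00, mul_one, hσ c _ hu₀, ← hK] at h1
    rw [h1, map_sub, C.bar_apply_comm]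
    ring
  have hK0 : K ≠ 0 := by
    intro h0
    obtain ⟨δ, hδ0, hδ⟩ := C.exists_trace_zero
    have h1 := hτ ⟨δ, hδ⟩
    rw [hτK, h0, zero_mul] at h1
    obtain ⟨s, hs⟩ := h.img_zero (d := 0) (by simp)
    have h2 := h1.inv
    obtain ⟨s', hs'⟩ := (h.inv hn).img_zero (d := 0) (by simp)
    have h3 : P.Img β⁻¹ 0 0 0 0 := by
      obtain ⟨hw, ht, -, -, -⟩ := hs'
      have h1 : P.eich 0 hw 0 ht = 1 := su_ext fun x => by
        rw [P.eich_mulVec, su_one_mulVec, C.form_zero_right]; simp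
      exact ⟨hw, ht, hw, ht, by rw [h1, map_one, map_one]⟩
    exact hδ0 (h2.unique hn h3).2
  refine ⟨A, σ, K, hK0, hKfix, hAm, hAadd, hσ, ?_, fun d hd => by
    rw [← hτK ⟨d, hd⟩]; exact hτ ⟨d, hd⟩, hA⟩
  intro v hv w hw
  by_contra hne
  set D := C.form (A v) (A w) - K * σ (C.form v w) with hD
  have hD0 : D ≠ 0 := sub_ne_zero.2 hne
  obtain ⟨y, hy⟩ := C.exists_not_fixed
  obtain ⟨c, hc⟩ := σ.surjective (y / D)
  have hd : ∀ e : F, (e - C.bar e) + C.bar (e - C.bar e) = 0 := fun e => by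
    rw [map_sub, C.bar_bar]; ring
  have hd' : C.form (c • v) w - C.form w (c • v) +
      C.bar (C.form (c • v) w - C.form w (c • v)) = 0 := by
    rw [← C.bar_form (c • v) w]; exact hd _
  have h1 := hswap (c • v) (P.perp.smul_mem c hv) w hw hd'
  rw [hτK, hσ c v hv] at h1
  simp only [C.form_smul_left, C.form_smul_right, map_sub, map_mul, ← C.bar_apply_comm,
    ← C.bar_form v w, ← C.bar_form (A v) (A w)] at h1
  apply hy
  have h2 : y = σ c * D := by rw [hc, div_mul_cancel₀ _ hD0]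
  rw [h2, hD, map_mul, map_sub, map_mul, hKfix]
  linear_combination h1

end CfsgLib.SU
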