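import Mathlib
import Cfsg.Agent.Lib.SU.Semilinear

/-!
Every automorphism of `PSU` of dimension at least three over a finite field is induced by a
semilinear unitary map, apart from `PSU (3, 2)`.
-/

set_option autoImplicit false

namespace CfsgLib.SU

open Matrix

variable {F : Type*} [Field F] [Finite F] {q : ℕ} {C : UCtx F q} {n : ℕ}

local notation "V" => (Fin n → F)

theorem Maps.mul {β α : MulAut (Cfsg.PSU n F q)} {v w x : V} (h : Maps C β v w)
    (h' : Maps C α w x) : Maps C (α * β) v x := by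
  obtain ⟨hv0, hw0, hv, hw, hh⟩ := h
  obtain ⟨hw0', hx0, hw', hx, hh'⟩ := h'
  refine ⟨hv0, hx0, hv, hx, fun t ht ht0 => ?_⟩
  obtain ⟨s, hs, hs0, he⟩ := hh t ht ht0
  obtain ⟨k, hk, hk0, he'⟩ := hh' s hs hs0
  exact ⟨k, hk, hk0, by rw [MulAut.mul_apply, he, he']⟩

omit [Finite F] in
theorem maps_one {v : V} (hv0 : v ≠ 0) (hv : C.form v v = 0) : Maps C 1 v v :=
  ⟨hv0, hv0, hv, hv, fun t ht ht0 => ⟨t, ht, ht0, rfl⟩⟩

/-- An automorphism fixing every element of the Eichler group and the two points is trivial. -/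
theorem UPair.Fix.eq_one {P : UPair C n} {γ : MulAut (Cfsg.PSU n F q)} (h : P.Fix γ) (hn : 3 ≤ n)
    (hfix : ∀ w hw t ht, γ (pr (P.eich w hw t ht)) = pr (P.eich w hw t ht)) : γ = 1 := by
  obtain ⟨p, hp'⟩ := CharP.exists F
  haveI : Fact p.Prime := ⟨CharP.char_is_prime F p⟩
  have hoff : ∀ v, C.form v v = 0 → C.form v P.e ≠ 0 → Maps C γ v v := by
    intro v hv he
    obtain ⟨w, hw, t, ht, hvw⟩ := P.exists_eich_point hv he
    rw [hvw]
    exact ((h.2.conj (hfix w hw t ht)).smul_left he).smul_right he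
  have hall : ∀ v : V, v ≠ 0 → C.form v v = 0 → Maps C γ v v := by
    intro v hv0 hv
    by_cases he : C.form v P.e = 0
    swap
    · exact hoff v hv he
    by_cases hpar : ∃ c : F, v = c • P.e
    · obtain ⟨c, rfl⟩ := hpar
      have hc : c ≠ 0 := fun h0 => hv0 (by rw [h0, zero_smul])
      exact (h.1.smul_left hc).smul_right hc
    obtain ⟨y, hy⟩ := exists_maps p hn P γ hv hv0
    obtain ⟨x, hx, hxv, hxe⟩ : ∃ x, C.form x x = 0 ∧ C.form x v = 0 ∧ C.form x P.e ≠ 0 := by
      by_contra hcon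
      obtain ⟨a, ha⟩ := C.eq_smul_of_isotropic_orth hv0 hv P.ee fun x hx hxv => by
        by_contra h0
        exact hcon ⟨x, hx, hxv, h0⟩
      have ha0 : a ≠ 0 := fun h0 => P.e_ne_zero (by rw [ha, h0, zero_smul])
      exact hpar ⟨a⁻¹, by rw [ha, inv_smul_smul₀ ha0]⟩
    have hxy : C.form x y = 0 := ((hoff x hx hxe).orth hn hy).1 hxv
    obtain ⟨a, ha⟩ := C.eq_smul_of_isotropic_orth hv0 hv hy.isotropic.2 fun z hz hzv => by
      by_cases hze : C.form z P.e = 0
      swap
      · exact ((hoff z hz hze).orth hn hy).1 hzv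
      obtain ⟨δ, hδ0, hδ⟩ := C.exists_trace_zero
      obtain ⟨s, hs0, hs⟩ : ∃ s : F, s ≠ 0 ∧ s * C.form x z + C.bar s * C.form z x = 0 := by
        rcases eq_or_ne (C.form x z) 0 with h0 | h0
        · exact ⟨1, one_ne_zero, by rw [h0, C.form_swap_zero h0]; simp⟩
        · refine ⟨δ / C.form x z, div_ne_zero hδ0 h0, ?_⟩
          rw [map_div₀, C.bar_form, div_mul_cancel₀ _ h0,
            div_mul_cancel₀ _ (fun h1 => h0 (C.form_swap_zero h1)), hδ]
      have hiso : C.form (z + s • x) (z + s • x) = 0 := by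
        simp only [C.form_add_left, C.form_add_right, C.form_smul_left, C.form_smul_right, hz, hx]
        linear_combination hs
      have hne : C.form (z + s • x) P.e ≠ 0 := by
        rw [C.form_add_left, C.form_smul_left, hze, zero_add]; exact mul_ne_zero hs0 hxe
      have h1 := ((hoff _ hiso hne).orth hn hy).1
        (by rw [C.form_add_left, C.form_smul_left, hzv, hxv, mul_zero, add_zero])
      rwa [C.form_add_left, C.form_smul_left, hxy, mul_zero, add_zero] at h1
    have ha0 : a ≠ 0 := fun h0 => hy.2.1 (by rw [ha, h0, zero_smul])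
    have := hy.smul_right (inv_ne_zero ha0)
    rwa [ha, inv_smul_smul₀ ha0] at this
  refine MulEquiv.ext fun x => ?_
  obtain ⟨X, rfl⟩ := QuotientGroup.mk'_surjective _ x
  obtain ⟨Y, hY⟩ := QuotientGroup.mk'_surjective _ (γ (pr X))
  obtain ⟨c, hc⟩ := C.scalar_of_isotropic_eigen hn (M := (X⁻¹ * Y).1.1)
    (fun u v => C.form_su _ u v) fun v hv0 hv => by
      obtain ⟨a, -, ha⟩ := Maps.unique hn (hall _ (su_mulVec_ne_zero X hv0) (by rw [C.form_su, hv]))
        ((hall v hv0 hv).conj hY.symm)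
      exact ⟨a, by rw [suMat_mulVec_mul, ha, Matrix.mulVec_smul, su_inv_mulVec]⟩
  rw [MulAut.one_apply]
  refine hY.symm.trans ((C.pr_eq_iff hn).2 ⟨c, ?_⟩).symm
  calc Y.1.1 = (X * (X⁻¹ * Y)).1.1 := by rw [mul_inv_cancel_left]
    _ = X.1.1 * (X⁻¹ * Y).1.1 := rfl
    _ = c • X.1.1 := by rw [hc, mul_smul_comm, mul_one]

/-- An automorphism fixing a pair of points is induced by a semilinear map. -/
theorem UPair.Fix.classify {P : UPair C n} {β : MulAut (Cfsg.PSU n F q)} (h : P.Fix β) (hn : 3 ≤ n)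
    (h3 : n = 3 → ∃ y : F, C.bar y ^ 3 ≠ y ^ 3) :
    ∃ (g : ↥(Cfsg.GU n F q)) (σ : RingAut F), β = C.ind g σ := by
  classical
  obtain ⟨p, hp'⟩ := CharP.exists F
  haveI : Fact p.Prime := ⟨CharP.char_is_prime F p⟩
  obtain ⟨A, σ, K, hK0, hKfix, hAm, hAadd, hAs, hAf, hτ, hA⟩ := h.exists_semilinear hn h3
  obtain ⟨d, hd⟩ := C.exists_norm hKfix
  have hd0 : d ≠ 0 := fun h0 => hK0 (by rw [← hd, h0, zero_mul])
  have hbd : C.bar d ≠ 0 := by simpa using hd0
  have hA0 : A 0 = 0 := by
    have := hAs 0 0 P.perp.zero_mem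
    rwa [zero_smul, map_zero, zero_smul] at this
  -- the semilinear map
  let Ψ : V → V := fun x =>
    (σ (C.form x P.f) * K) • P.e + σ (C.form x P.e) • P.f + A (P.proj x)
  have hΨs : ∀ (c : F) x, Ψ (c • x) = σ c • Ψ x := fun c x => by
    simp only [Ψ, C.form_smul_left, map_mul, P.proj_smul, hAs _ _ (P.proj_mem x)]
    module
  have hΨa : ∀ x y, Ψ (x + y) = Ψ x + Ψ y := fun x y => by
    simp only [Ψ, C.form_add_left, map_add, P.proj_add,
      hAadd _ (P.proj_mem x) _ (P.proj_mem y)]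
    module
  have hΨf : ∀ x y, C.form (Ψ x) (Ψ y) = K * σ (C.form x y) := by
    intro x y
    have hx := hAm _ (P.proj_mem x)
    have hy := hAm _ (P.proj_mem y)
    simp only [Ψ, C.form_add_left, C.form_add_right, C.form_smul_left, C.form_smul_right, P.ee,
      P.ff, P.ef, P.fe, hx.1, hx.2, C.form_swap_zero hy.1, C.form_swap_zero hy.2,
      hAf _ (P.proj_mem x) _ (P.proj_mem y), P.form_decomp x y, map_add, map_mul, C.bar_apply_comm,
      hKfix]
    ring
  let sinv : V → V := fun x i => σ.symm (x i)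
  let G : V →ₗ[F] V :=
    { toFun := fun x => d⁻¹ • Ψ (sinv x)
      map_add' := fun x y => by
        rw [show sinv (x + y) = sinv x + sinv y from funext fun i => map_add σ.symm _ _, hΨa,
          smul_add]
      map_smul' := fun c x => by
        rw [show sinv (c • x) = σ.symm c • sinv x from funext fun i => map_mul σ.symm _ _, hΨs,
          σ.apply_symm_apply, smul_comm]; rfl }
  have hGf : ∀ x y, C.form (G x) (G y) = C.form x y := by
    intro x y
    show C.form (d⁻¹ • Ψ (sinv x)) (d⁻¹ • Ψ (sinv y)) = _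
    rw [C.form_smul_left, C.form_smul_right, hΨf, map_inv₀,
      ← C.form_map σ (sinv x) (sinv y), ← mul_assoc, ← mul_assoc, ← mul_inv, ← hd,
      inv_mul_cancel₀ (mul_ne_zero hd0 hbd), one_mul]
    simp [sinv]
  set M := LinearMap.toMatrix' G
  have hM : ∀ x, M *ᵥ x = G x := fun x => LinearMap.toMatrix'_mulVec G x
  have hdet : M.det ≠ 0 := by
    intro h0
    obtain ⟨x, hx0, hx⟩ := Matrix.exists_mulVec_eq_zero_iff.2 h0
    refine hx0 (C.eq_zero_of_form fun v => ?_)
    rw [← hGf, ← hM x, hx, C.form_zero_left]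
  let g : ↥(Cfsg.GU n F q) :=
    ⟨Matrix.GeneralLinearGroup.mkOfDetNeZero M hdet, C.mem_gu_iff.2 fun u v => by
      show C.form (M *ᵥ u) (M *ᵥ v) = C.form u v
      rw [hM, hM, hGf]⟩
  have hact : ∀ x, act g.1 σ x = d⁻¹ • Ψ x := fun x => by
    show M *ᵥ (fun i => σ (x i)) = _
    rw [hM]
    show d⁻¹ • Ψ (sinv fun i => σ (x i)) = _
    simp [sinv]
  have hacte : act g.1 σ P.e = C.bar d • P.e := by
    rw [hact]
    simp only [Ψ, UPair.proj, P.ef, P.ee]
    simp [hA0, smul_smul, ← hd, hd0]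
  have hactf : act g.1 σ P.f = d⁻¹ • P.f := by
    rw [hact]
    simp only [Ψ, UPair.proj, P.ff, P.fe]
    simp [hA0]
  have hactw : ∀ w ∈ P.perp, act g.1 σ w = d⁻¹ • A w := fun w hw => by
    rw [hact]
    simp only [Ψ, P.proj_of_mem hw, hw.1, hw.2]
    simp
  -- the image of the Eichler group under the semilinear map
  have hind : ∀ w hw t ht, ∃ hw' ht',
      C.ind g σ (pr (P.eich w hw t ht)) = pr (P.eich (A w) hw' (K * σ t) ht') := by
    intro w hw t ht
    have ht' : K * σ t + C.bar (K * σ t) + C.form (A w) (A w) = 0 := by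
      rw [hAf w hw w hw, map_mul, hKfix, C.bar_apply_comm, ← mul_add, ← mul_add, ← map_add,
        ← map_add, ht, map_zero, mul_zero]
    refine ⟨hAm w hw, ht', ?_⟩
    rw [C.ind_pr]
    refine congrArg pr (su_ext fun x => ?_)
    obtain ⟨y, rfl⟩ := act_surjective g.1 σ x
    rw [C.conj_field_act, P.eich_mulVec, P.eich_mulVec, act_add, act_add, act_smul, act_smul,
      hactw w hw, hacte, map_sub, map_mul]
    have h1 : C.form (act g.1 σ y) P.e = σ (C.form y P.e) / d := by
      rw [eq_div_iff hd0, ← C.form_act g σ y P.e, hacte, C.form_smul_right, C.bar_bar, mul_comm]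
    have h2 : C.form (act g.1 σ y) (A w) = C.bar d * σ (C.form y w) := by
      rw [← C.form_act g σ y w, hactw w hw, C.form_smul_right, map_inv₀, mul_inv_cancel_left₀ hbd]
    rw [h1, h2, ← hd]
    match_scalars <;> field_simp
  -- the defect
  obtain ⟨t₀, ht₀⟩ : ∃ t₀ : V → F, ∀ w, t₀ w + C.bar (t₀ w) + C.form w w = 0 :=
    ⟨fun w => (C.exists_trace (c := -C.form w w) (by rw [map_neg, C.form_self_fixed])).choose,
      fun w => by
        rw [(C.exists_trace (c := -C.form w w) (by rw [map_neg, C.form_self_fixed])).choose_spec,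
          neg_add_cancel]⟩
  choose T₀ hT₀ using fun w : {w : V // w ∈ P.perp} => hA w.1 w.2 (t₀ w.1) (ht₀ w.1)
  let ι : V → F := fun w => if hw : w ∈ P.perp then T₀ ⟨w, hw⟩ - K * σ (t₀ w) else 0
  have hι : ∀ w ∈ P.perp, ∀ t a s, P.Img β w t a s → a = A w ∧ s = K * σ t + ι w := by
    intro w hw t a s hws
    have e1 := ht₀ w
    have e2 := hws.2.1
    have hdd : (t - t₀ w) + C.bar (t - t₀ w) = 0 := by
      rw [map_sub]; linear_combination e2 - e1
    have h1 := (hT₀ ⟨w, hw⟩).mul (hτ _ hdd)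
    simp only [add_zero, C.form_zero_left, sub_zero, add_sub_cancel] at h1
    obtain ⟨ha, hs⟩ := hws.unique hn h1
    refine ⟨ha, ?_⟩
    rw [hs]
    simp only [ι, dif_pos hw, map_sub]
    ring
  have hiadd : ∀ v ∈ P.perp, ∀ w ∈ P.perp, ι (v + w) = ι v + ι w := by
    intro v hv w hw
    obtain ⟨s, hs⟩ := hA v hv _ (ht₀ v)
    obtain ⟨s', hs'⟩ := hA w hw _ (ht₀ w)
    have h1 := (hι _ (P.perp.add_mem hv hw) _ _ _ (hs.mul hs')).2
    rw [(hι v hv _ _ _ hs).2, (hι w hw _ _ _ hs').2, hAf w hw v hv, map_sub, map_add] at h1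
    linear_combination -h1
  have hidiag : ∀ (L : ↥(Cfsg.SU n F q)) (c : F), P.Diag L c → ∀ w ∈ P.perp,
      ι (C.bar c • (L.1.1 *ᵥ w)) = σ (c * C.bar c) * ι w := by
    intro L c hL w hw
    obtain ⟨L', hL'⟩ := QuotientGroup.mk'_surjective _ (β (pr L))
    have hme := h.1.conj hL'.symm
    rw [hL.1] at hme
    obtain ⟨c', hc', hce⟩ := Maps.unique hn h.1 (by
      simpa [inv_smul_smul₀ hL.ne_zero] using hme.smul_left (inv_ne_zero hL.ne_zero))
    have hmf := h.2.conj hL'.symm
    rw [hL.2] at hmf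
    have hcb : (C.bar c)⁻¹ ≠ 0 := by simpa using hL.ne_zero
    obtain ⟨e, -, hdf⟩ := Maps.unique hn h.2 (by
      simpa [smul_smul, inv_mul_cancel₀ hcb, hL.ne_zero] using hmf.smul_left (inv_ne_zero hcb))
    have he : e = (C.bar c')⁻¹ := by
      have h1 := C.form_su L' P.f P.e
      rw [hce, hdf, C.form_smul_left, C.form_smul_right, P.fe, mul_one] at h1
      exact eq_inv_of_mul_eq_one_left h1
    have hLd : P.Diag L' c' := ⟨hce, he ▸ hdf⟩
    obtain ⟨δ, hδ0, hδ⟩ := C.exists_trace_zero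
    have h0 := (hτ δ hδ).diag hL hLd hL'.symm
    simp only [Matrix.mulVec_zero, smul_zero] at h0
    have hN : c' * C.bar c' = σ (c * C.bar c) := by
      have h1 := (h0.unique hn (hτ _ (by rw [map_mul, C.norm_fixed, ← mul_add, hδ, mul_zero]))).2
      rw [map_mul σ (c * C.bar c) δ] at h1
      exact mul_right_cancel₀ (mul_ne_zero hK0 (show σ δ ≠ 0 by simpa using hδ0))
        (by linear_combination h1)
    obtain ⟨s, hs⟩ := hA w hw _ (ht₀ w)
    have h1 := (hι _ (hL.mem hw) _ _ _ (hs.diag hL hLd hL'.symm)).2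
    rw [(hι w hw _ _ _ hs).2, hN, map_mul σ (c * C.bar c) (t₀ w)] at h1
    linear_combination -h1
  have hizero : ∀ w ∈ P.perp, ι w = 0 := by
    obtain ⟨u, hu, huu, hub⟩ := P.exists_basis
    have hi0 : ι 0 = 0 := by
      have := hiadd 0 P.perp.zero_mem 0 P.perp.zero_mem
      rw [add_zero] at this
      linear_combination -this
    suffices hj : ∀ j x, ι (x • u j) = 0 by
      intro w hw
      rw [hub w hw]
      have key : ∀ S : Finset (Fin (n - 2)), ι (∑ i ∈ S, C.form w (u i) • u i) = 0 := by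
        intro S
        induction S using Finset.induction_on with
        | empty => simpa using hi0
        | insert i S hi ih =>
          rw [Finset.sum_insert hi, hiadd _ (P.perp.smul_mem _ (hu i)) _
            (P.perp.sum_mem fun j _ => P.perp.smul_mem _ (hu j)), ih, hj, add_zero]
      exact key _
    intro j x
    have hop : ∀ i (x : F) {y : F}, y ≠ 0 →
        ι (((if j = i then C.bar y ^ 2 / y else C.bar y) * x) • u j) =
          σ (y * C.bar y) * ι (x • u j) := by
      intro i x y hy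
      obtain ⟨L, hL, hLw⟩ := P.exists_diag (hu i) (by rw [huu, if_pos rfl]) hy
      rw [← hidiag L y hL _ (P.perp.smul_mem x (hu j)), hLw _ (P.perp.smul_mem x (hu j)),
        C.form_smul_left, huu]
      rcases eq_or_ne j i with rfl | hji
      · rw [if_pos rfl, if_pos rfl]; congr 1; module
      · rw [if_neg hji, if_neg hji]; congr 1; module
    by_contra hne
    have hxadd : ∀ a b : F, ι ((a + b) • u j) = ι (a • u j) + ι (b • u j) := fun a b => by
      rw [add_smul, hiadd _ (P.perp.smul_mem a (hu j)) _ (P.perp.smul_mem b (hu j))]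
    by_cases hex : ∃ i, i ≠ j
    · obtain ⟨i, hi⟩ := hex
      have hz : ∀ z : F, z ≠ 0 → ι ((z * x) • u j) = σ (z * C.bar z) * ι (x • u j) := by
        intro z hz
        have h1 := hop i x (y := C.bar z) (by simpa using hz)
        rwa [if_neg hi.symm, C.bar_bar, mul_comm (C.bar z) z] at h1
      obtain ⟨z, hzf, hztr⟩ := C.exists_trace_ne_zero
      have hzne : z ≠ 0 := by rintro rfl; simp at hzf
      have hz1 : z + 1 ≠ 0 := fun h0 => hzf (by rw [eq_neg_of_add_eq_zero_left h0]; simp)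
      have e1 := hz _ hz1
      rw [add_mul, one_mul, hxadd, hz z hzne] at e1
      refine hztr (σ.injective (mul_right_cancel₀ hne ?_))
      simp only [map_add, map_mul, map_one, map_zero, C.bar_apply_comm] at e1 ⊢
      linear_combination -e1
    · push Not at hex
      have hn3 : n = 3 := by
        by_contra h
        have h2 : 2 ≤ n - 2 := by omega
        have := (hex ⟨0, by omega⟩).trans (hex ⟨1, by omega⟩).symm
        simp [Fin.ext_iff] at this
      have hr : ∀ r x, r ≠ 0 → C.bar r = r → ι ((r * x) • u j) = σ r * σ r * ι (x • u j) := by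
        intro r x hr0 hr
        have h1 := hop j x hr0
        rwa [if_pos rfl, hr, sq, mul_div_assoc, div_self hr0, mul_one, map_mul] at h1
      by_cases h2 : (2 : F) = 0
      · obtain ⟨y, hy⟩ := h3 hn3
        have hy0 : y ≠ 0 := by rintro rfl; simp at hy
        have hby : C.bar y ≠ 0 := by simpa using hy0
        set χ := C.bar y ^ 2 / y with hχ
        have hχb : C.bar χ ≠ χ := by
          rw [hχ, map_div₀, map_pow, C.bar_bar, Ne, div_eq_div_iff hby hy0]
          intro h
          exact hy (by linear_combination -h)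
        have hT : χ + C.bar χ ≠ 0 := fun h0 => hχb (by linear_combination h0 - χ * h2)
        have hN : χ * C.bar χ = y * C.bar y := by
          rw [hχ, map_div₀, map_pow, C.bar_bar]; field_simp
        have hχx : ∀ x, ι ((χ * x) • u j) = σ (y * C.bar y) * ι (x • u j) := by
          intro x
          have h1 := hop j x hy0
          rwa [if_pos rfl] at h1
        have e1 := hχx (χ * x)
        rw [show χ * (χ * x) = (χ + C.bar χ) * (χ * x) + (-(χ * C.bar χ)) * x by ring, hxadd,
          hr _ _ hT (by rw [map_add, C.bar_bar, add_comm]),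
          hr _ x (neg_ne_zero.2 (by rw [hN]; exact mul_ne_zero hy0 hby))
            (by rw [map_neg, C.norm_fixed]), hχx, map_neg, hN] at e1
        have h4 : σ (χ + C.bar χ) * σ (χ + C.bar χ) * σ (y * C.bar y) * ι (x • u j) = 0 := by
          linear_combination e1
        rcases mul_eq_zero.1 h4 with h5 | h5
        · rcases mul_eq_zero.1 h5 with h6 | h6
          · exact hT ((map_eq_zero σ).1 ((or_self_iff).1 (mul_eq_zero.1 h6)))
          · exact mul_ne_zero hy0 hby ((map_eq_zero σ).1 h6)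
        · exact hne h5
      · have h1 := hr (-1) x (by simp) (by simp)
        rw [map_neg, map_one, neg_mul_neg, one_mul, one_mul] at h1
        have h4 := hxadd x (-1 * x)
        rw [show x + -1 * x = 0 by ring, zero_smul, hi0, h1] at h4
        exact hne ((mul_eq_zero.1 (show (2 : F) * ι (x • u j) = 0 by linear_combination -h4)).resolve_left h2)
  refine ⟨g, σ, ?_⟩
  have hg : P.Fix (C.ind g σ) := by
    constructor
    · have := ((maps_one P.e_ne_zero P.ee).ind_mul g σ).smul_right (inv_ne_zero hbd)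
      rwa [mul_one, hacte, inv_smul_smul₀ hbd] at this
    · have := ((maps_one P.f_ne_zero P.ff).ind_mul g σ).smul_right hd0
      rwa [mul_one, hactf, smul_inv_smul₀ hd0] at this
  have hγ : (C.ind g σ)⁻¹ * β = 1 := by
    refine UPair.Fix.eq_one (P := P) ⟨h.1.mul (hg.inv hn).1, h.2.mul (hg.inv hn).2⟩ hn
      fun w hw t ht => ?_
    obtain ⟨s, hs⟩ := hA w hw t ht
    obtain ⟨-, hsK⟩ := hι w hw t _ s hs
    rw [hizero w hw, add_zero] at hsK
    subst hsK
    obtain ⟨hw', ht', he⟩ := hind w hw t ht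
    obtain ⟨_, _, _, _, hb⟩ := hs
    rw [MulAut.mul_apply, hb, ← he]
    exact (C.ind g σ).symm_apply_apply _
  exact (inv_mul_eq_one.1 hγ).symm

theorem UCtx.ind_one_mul (g h : ↥(Cfsg.GU n F q)) (σ : RingAut F) :
    C.ind g 1 * C.ind h σ = C.ind (g * h) σ := by
  simp only [UCtx.ind, ← map_mul, map_one, mul_one, map_mul, mul_assoc]

/-- Classification of the automorphisms. -/
theorem aut_classify (C : UCtx F q) (hn : 3 ≤ n) (h3 : n = 3 → ∃ y : F, C.bar y ^ 3 ≠ y ^ 3)
    (β : MulAut (Cfsg.PSU n F q)) : ∃ (g : ↥(Cfsg.GU n F q)) (σ : RingAut F), β = C.ind g σ := by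
  obtain ⟨p, hp'⟩ := CharP.exists F
  haveI : Fact p.Prime := ⟨CharP.char_is_prime F p⟩
  obtain ⟨P⟩ := C.exists_pair (n := n) (by omega)
  obtain ⟨e', he'⟩ := exists_maps p hn P β P.ee P.e_ne_zero
  obtain ⟨f', hf'⟩ := exists_maps p hn P β P.ff P.f_ne_zero
  have hne : C.form f' e' ≠ 0 := fun h0 => by
    have h1 := (hf'.orth hn he').2 h0
    rw [P.fe] at h1
    exact one_ne_zero h1
  obtain ⟨A, a, ha, hA⟩ := C.exists_move hn he'.2.1 P.e_ne_zero he'.isotropic.2 P.ee
  have hne' : C.form (A.1.1 *ᵥ f') P.e ≠ 0 := by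
    intro h0
    have h1 := C.form_su A f' e'
    rw [hA, C.form_smul_right, h0, mul_zero] at h1
    exact hne h1.symm
  obtain ⟨w, hw, t, ht, hv⟩ :=
    P.exists_eich_point (v := A.1.1 *ᵥ f') (by rw [C.form_su, hf'.isotropic.2]) hne'
  set G := (P.eich w hw t ht)⁻¹ * A with hG
  have hGe : G.1.1 *ᵥ e' = a • P.e := by
    rw [hG, suMat_mulVec_mul, hA, Matrix.mulVec_smul]
    congr 1
    conv_lhs => rw [← P.eich_e w hw t ht]
    exact su_inv_mulVec _ _
  have hGf : G.1.1 *ᵥ f' = C.form (A.1.1 *ᵥ f') P.e • P.f := by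
    rw [hG, suMat_mulVec_mul]
    conv_lhs => rw [hv, Matrix.mulVec_smul, su_inv_mulVec]
  have hfix : P.Fix (C.ind (ofSU G) 1 * β) := by
    have hact : ∀ v, act (ofSU G).1 (1 : RingAut F) v = G.1.1 *ᵥ v := fun v => rfl
    constructor
    · have := (he'.ind_mul (ofSU G) 1).smul_right (inv_ne_zero ha)
      rwa [hact, hGe, inv_smul_smul₀ ha] at this
    · have := (hf'.ind_mul (ofSU G) 1).smul_right (inv_ne_zero hne')
      rwa [hact, hGf, inv_smul_smul₀ hne'] at this
  obtain ⟨g, σ, hg⟩ := hfix.classify hn h3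
  refine ⟨ofSU G⁻¹ * g, σ, ?_⟩
  rw [← C.ind_one_mul, ← hg, ← mul_assoc, C.ind_ofSU, C.ind_ofSU, ← map_mul, ← map_mul,
    inv_mul_cancel, map_one, map_one, one_mul]

end CfsgLib.SU
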