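import Mathlib
import Cfsg.Agent.Lib.SU.Aut

/-!
The classification of automorphisms of `PSU` in the form of the statements.
-/

set_option autoImplicit false

namespace CfsgLib.SU

theorem UCtx.exists_cube_ne {F : Type*} [Field F] [Fintype F] {q : ℕ} (C : UCtx F q)
    (hF : Fintype.card F = q ^ 2) (hq : q ≠ 2) : ∃ y : F, C.bar y ^ 3 ≠ y ^ 3 := by
  obtain ⟨g, hg⟩ := IsCyclic.exists_ofOrder_eq_natCard (α := Fˣ)
  rw [Nat.card_units, Nat.card_eq_fintype_card, hF] at hg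
  refine ⟨g, fun h => ?_⟩
  have h1 : g ^ (q * 3) = g ^ 3 := Units.ext (by
    rw [Units.val_pow_eq_pow_val, Units.val_pow_eq_pow_val, pow_mul, ← C.bar_eq, h])
  have hq3 : 3 ≤ q := by
    have h2 : 1 < q ^ 2 := hF ▸ Fintype.one_lt_card
    rcases q with _ | _ | q
    · simp at h2
    · simp at h2
    · omega
  have h3 : g ^ (q * 3 - 3) = 1 := by
    apply mul_right_cancel (b := g ^ 3)
    rw [one_mul, ← pow_add, Nat.sub_add_cancel (by omega), h1]
  have h4 := orderOf_dvd_of_pow_eq_one h3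
  rw [hg] at h4
  have h5 := Nat.le_of_dvd (by omega) h4
  rcases Nat.eq_or_lt_of_le hq3 with rfl | hq4
  · norm_num at h4
  · have : q * 4 ≤ q ^ 2 := by rw [sq]; exact Nat.mul_le_mul_left q hq4
    omega

/-- Every automorphism is induced by a semilinear unitary map. -/
theorem classify {F : Type*} [Field F] [Fintype F] {p f q : ℕ} [Fact p.Prime] (hq : q = p ^ f)
    (hf : 1 ≤ f) (hF : Fintype.card F = q ^ 2) {n : ℕ} (hn : 3 ≤ n) (hs : ¬ (n = 3 ∧ q = 2)) :
    ∃ C : UCtx F q, ∀ β : MulAut (Cfsg.PSU n F q),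
      ∃ (g : ↥(Cfsg.GU n F q)) (σ : RingAut F), β = C.ind g σ := by
  obtain ⟨C⟩ := exists_ctx hq hf hF
  exact ⟨C, fun β => aut_classify C hn (fun h3 => C.exists_cube_ne hF fun h2 => hs ⟨h3, h2⟩) β⟩

end CfsgLib.SU
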