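import Mathlib
import Cfsg.Agent.Lib.SU.Classify
import Cfsg.Agent.Lib.Descent.Hilbert90

/-!
Semilinear composition, scalars and determinants for automorphisms of `PSU`.
-/

set_option autoImplicit false

namespace CfsgLib.SU

open Matrix CfsgLib.Descent

variable {F : Type*} [Field F] {q : ℕ} (C : UCtx F q) {n : ℕ}

theorem UCtx.form_eq_dot (u v : Fin n → F) : C.form u v = u ⬝ᵥ (C.bar ∘ v) := rfl

/-- Membership in `GU` as a matrix identity. -/
theorem UCtx.mem_gu_iff_mat {g : GL (Fin n) F} :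
    g ∈ Cfsg.GU n F q ↔ g.1ᵀ * g.1.map C.bar = 1 := by
  classical
  rw [C.mem_gu_iff]
  have hcomp : ∀ v, C.bar ∘ (g.1 *ᵥ v) = g.1.map C.bar *ᵥ (C.bar ∘ v) := fun v =>
    funext fun i => by simp [Matrix.mulVec, dotProduct, map_sum, map_mul]
  have key : ∀ u v, C.form (g.1 *ᵥ u) (g.1 *ᵥ v) = u ⬝ᵥ ((g.1ᵀ * g.1.map C.bar) *ᵥ (C.bar ∘ v)) := by
    intro u v
    rw [C.form_eq_dot, hcomp, Matrix.dotProduct_mulVec, ← Matrix.vecMul_transpose g.1 u,
      Matrix.vecMul_vecMul, ← Matrix.dotProduct_mulVec]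
  constructor
  · intro h
    ext a b
    have h1 := h (Pi.single a 1) (Pi.single b 1)
    rw [key, C.form_eq_dot] at h1
    have hb : (C.bar ∘ (Pi.single b (1 : F)) : Fin n → F) = Pi.single b 1 := funext fun i => by
      simp [Pi.single_apply, apply_ite C.bar]
    rw [hb] at h1
    simpa [Matrix.one_apply, Pi.single_apply, eq_comm] using h1
  · intro h u v
    rw [key, h, Matrix.one_mulVec, C.form_eq_dot]

/-- The elements of norm one. -/
def UCtx.unitOne : Subgroup Fˣ where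
  carrier := {u | (u : F) * C.bar u = 1}
  one_mem' := by simp
  mul_mem' {a b} (ha : (a : F) * C.bar a = 1) (hb : (b : F) * C.bar b = 1) := by
    show ((a * b : Fˣ) : F) * C.bar ((a * b : Fˣ) : F) = 1
    rw [Units.val_mul, map_mul, mul_mul_mul_comm, ha, hb, mul_one]
  inv_mem' {a} (ha : (a : F) * C.bar a = 1) := by
    show ((a⁻¹ : Fˣ) : F) * C.bar ((a⁻¹ : Fˣ) : F) = 1
    rw [Units.val_inv_eq_inv_val, map_inv₀, ← mul_inv, ha, inv_one]

theorem UCtx.mem_unitOne {u : Fˣ} : u ∈ C.unitOne ↔ (u : F) * C.bar u = 1 := Iff.rfl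

/-- The determinant on `GU`. -/
def UCtx.detHom : ↥(Cfsg.GU n F q) →* C.unitOne :=
  ((Matrix.GeneralLinearGroup.det).comp (Cfsg.GU n F q).subtype).codRestrict _ fun g => by
    rw [C.mem_unitOne]
    show g.1.1.det * C.bar g.1.1.det = 1
    have h := congrArg Matrix.det (C.mem_gu_iff_mat.1 g.2)
    rw [Matrix.det_mul, Matrix.det_transpose, Matrix.det_one] at h
    rwa [show C.bar g.1.1.det = (g.1.1.map C.bar).det from C.bar.toRingHom.map_det _]

theorem UCtx.detHom_val (g : ↥(Cfsg.GU n F q)) : (((C.detHom g : C.unitOne) : Fˣ) : F) = g.1.1.det :=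
  rfl

theorem UCtx.detHom_surjective (hn : 0 < n) : Function.Surjective (C.detHom (n := n)) := by
  classical
  rintro ⟨c, hc⟩
  set u : Fin n → F := Pi.single ⟨0, hn⟩ 1
  have huu : C.form u u = 1 := by simp [u, UCtx.form, Pi.single_apply, apply_ite C.bar]
  refine ⟨⟨Matrix.GeneralLinearGroup.mkOfDetNeZero (C.rmap u u ((c : F) - 1))
    (by rw [C.det_rmap, huu]; simp), C.mem_gu_iff.2 fun a b => ?_⟩, Subtype.ext (Units.ext ?_)⟩
  · show C.form (C.rmap u u _ *ᵥ a) (C.rmap u u _ *ᵥ b) = _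
    simp only [C.rmap_mulVec, C.form_add_left, C.form_add_right, C.form_smul_left,
      C.form_smul_right, huu, map_mul, map_sub, map_one, C.bar_form]
    linear_combination (C.form a u * C.form u b) * C.mem_unitOne.1 hc
  · rw [C.detHom_val]
    show (C.rmap u u _).det = (c : F)
    rw [C.det_rmap, huu]; ring

/-- Scalars as unitary matrices. -/
def UCtx.gscal : C.unitOne →* ↥(Cfsg.GU n F q) :=
  ((Units.map (Matrix.scalar (Fin n) : F →+* _).toMonoidHom).comp C.unitOne.subtype).codRestrict _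
    fun c => C.mem_gu_iff.2 fun u v => by
      have hc := C.mem_unitOne.1 c.2
      show C.form ((Matrix.scalar (Fin n) ((c : Fˣ) : F)) *ᵥ u)
        ((Matrix.scalar (Fin n) ((c : Fˣ) : F)) *ᵥ v) = _
      simp only [Matrix.scalar_apply, ← Matrix.smul_one_eq_diagonal, Matrix.smul_mulVec,
        Matrix.one_mulVec, C.form_smul_left, C.form_smul_right]
      linear_combination (C.form u v) * hc

theorem UCtx.gscal_val (c : C.unitOne) :
    ((C.gscal (n := n) c).1).1 = ((c : Fˣ) : F) • (1 : Matrix (Fin n) (Fin n) F) := by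
  simp [UCtx.gscal, Matrix.smul_one_eq_diagonal]

theorem UCtx.gscal_comm (c : C.unitOne) (X : GL (Fin n) F) :
    X * (C.gscal c).1 = (C.gscal c).1 * X :=
  Units.ext (by rw [Units.val_mul, Units.val_mul, C.gscal_val, smul_mul_assoc, one_mul,
    mul_smul_comm, mul_one])

theorem UCtx.suConj_gscal (c : C.unitOne) : suConj (C.gscal (n := n) c) = 1 := by
  refine MulEquiv.ext fun A => Subtype.ext (Subtype.ext ?_)
  rw [suConj_val, show ((C.gscal (n := n) c).1)⁻¹ = (C.gscal c⁻¹).1 by rw [map_inv]; rfl,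
    C.gscal_val, C.gscal_val, smul_mul_assoc, one_mul, mul_smul_comm, mul_one, smul_smul,
    show (((c⁻¹ : C.unitOne) : Fˣ) : F) = ((c : Fˣ) : F)⁻¹ from Units.val_inv_eq_inv_val _,
    inv_mul_cancel₀ (c : Fˣ).ne_zero, one_smul]
  rfl

variable [Finite F]

include C in
theorem UCtx.glMap_mem_gu (σ : RingAut F) {g : GL (Fin n) F} (hg : g ∈ Cfsg.GU n F q) :
    glMap σ g ∈ Cfsg.GU n F q := by
  refine C.mem_gu_iff.2 fun u v => ?_
  have hu : u = fun i => σ (σ.symm (u i)) := funext fun i => (σ.apply_symm_apply _).symm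
  have hv : v = fun i => σ (σ.symm (v i)) := funext fun i => (σ.apply_symm_apply _).symm
  rw [hu, hv, glMap_val, map_mulVec_sigma, map_mulVec_sigma, C.form_map, C.mem_gu_iff.1 hg,
    ← C.form_map σ]

/-- Entrywise action on unitary matrices. -/
def UCtx.guField (σ : RingAut F) : ↥(Cfsg.GU n F q) →* ↥(Cfsg.GU n F q) :=
  ((glMap σ).comp (Cfsg.GU n F q).subtype).codRestrict _ fun g => C.glMap_mem_gu σ g.2

@[simp] theorem UCtx.guField_val (σ : RingAut F) (g : ↥(Cfsg.GU n F q)) :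
    (C.guField σ g).1 = glMap σ g.1 := rfl

theorem UCtx.suField_suConj (σ : RingAut F) (g : ↥(Cfsg.GU n F q)) :
    C.suField σ * suConj g = suConj (C.guField σ g) * C.suField σ := by
  refine MulEquiv.ext fun s => Subtype.ext (Subtype.ext ?_)
  show (g.1.1 * s.1.1 * (g.1⁻¹).1).map σ.toRingHom =
    g.1.1.map σ.toRingHom * s.1.1.map σ.toRingHom * ((glMap σ g.1)⁻¹).1
  rw [← map_inv, Matrix.map_mul, Matrix.map_mul]
  rfl

theorem UCtx.ind_mul (g h : ↥(Cfsg.GU n F q)) (σ τ : RingAut F) :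
    C.ind g σ * C.ind h τ = C.ind (g * C.guField σ h) (σ * τ) := by
  rw [UCtx.ind, UCtx.ind, UCtx.ind, ← map_mul]
  congr 1
  rw [mul_assoc, ← mul_assoc (C.suField σ), C.suField_suConj, map_mul, map_mul]
  simp only [mul_assoc]

theorem UCtx.ind_one_one : C.ind (1 : ↥(Cfsg.GU n F q)) (1 : RingAut F) = 1 := by
  rw [UCtx.ind, map_one, map_one, mul_one, map_one]

/-- Unitary matrices acting on `PSU`. -/
def UCtx.indHom : ↥(Cfsg.GU n F q) →* MulAut (Cfsg.PSU n F q) where
  toFun g := C.ind g 1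
  map_one' := C.ind_one_one
  map_mul' g h := (C.ind_one_mul g h 1).symm

theorem UCtx.indHom_apply (g : ↥(Cfsg.GU n F q)) : C.indHom g = C.ind g 1 := rfl

/-- Field automorphisms acting on `PSU`. -/
def UCtx.fieldHom : RingAut F →* MulAut (Cfsg.PSU n F q) where
  toFun σ := C.ind (1 : ↥(Cfsg.GU n F q)) σ
  map_one' := C.ind_one_one
  map_mul' σ τ := by rw [C.ind_mul, map_one, mul_one]

theorem UCtx.ind_pow (A : ↥(Cfsg.GU n F q)) (σ : RingAut F) :
    ∀ k, ∃ B : ↥(Cfsg.GU n F q), B.1 = nprod σ A.1 k ∧ (C.ind A σ) ^ k = C.ind B (σ ^ k)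
  | 0 => ⟨1, rfl, by rw [pow_zero, pow_zero, C.ind_one_one]⟩
  | k + 1 => by
    obtain ⟨B, hB, he⟩ := UCtx.ind_pow A σ k
    refine ⟨A * C.guField σ B, ?_, ?_⟩
    · show A.1 * glMap σ B.1 = A.1 * glMap σ (nprod σ A.1 k)
      rw [hB]
    · rw [pow_succ', he, C.ind_mul, ← pow_succ']

theorem UCtx.ind_gscal_mul (c : C.unitOne) (g : ↥(Cfsg.GU n F q)) (σ : RingAut F) :
    C.ind (C.gscal c * g) σ = C.ind g σ := by
  rw [UCtx.ind, UCtx.ind, map_mul suConj, C.suConj_gscal, one_mul]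

/-- A field automorphism acting on the norm-one elements. -/
def UCtx.unitField (σ : RingAut F) : C.unitOne →* C.unitOne :=
  ((Units.map (σ : F →* F)).comp C.unitOne.subtype).codRestrict _ fun c => by
    rw [C.mem_unitOne]
    show σ ((c : Fˣ) : F) * C.bar (σ ((c : Fˣ) : F)) = 1
    rw [C.bar_apply_comm, ← map_mul, C.mem_unitOne.1 c.2, map_one]

theorem UCtx.unitField_val (σ : RingAut F) (c : C.unitOne) :
    (((C.unitField σ c : C.unitOne) : Fˣ) : F) = σ ((c : Fˣ) : F) := rfl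

theorem UCtx.guField_gscal (σ : RingAut F) (c : C.unitOne) :
    C.guField σ (C.gscal (n := n) c) = C.gscal (C.unitField σ c) := by
  apply Subtype.ext; apply Units.ext
  rw [C.guField_val, glMap_val, C.gscal_val, C.gscal_val, Matrix.map_smul' _ _ _ (map_mul σ),
    Matrix.map_one _ (map_zero σ) (map_one σ), C.unitField_val]

theorem UCtx.eq_one_of_ind_eq_one (hn : 3 ≤ n) {g : ↥(Cfsg.GU n F q)} {σ : RingAut F}
    (h : C.ind g σ = 1) : σ = 1 ∧ ∃ c : C.unitOne, g = C.gscal c := by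
  classical
  obtain ⟨δ, hδ0, hδ⟩ := C.exists_trace_zero
  have hact : ∀ v : Fin n → F, v ≠ 0 → C.form v v = 0 → ∃ a : F, act g.1 σ v = a • v := by
    intro v hv0 hv
    have he := C.ind_tv g σ v hv δ hδ
    rw [h, MulAut.one_apply] at he
    obtain ⟨a, ha⟩ := C.pT_par hn hv0 hδ0 he
    exact ⟨a⁻¹, by conv_rhs => rw [ha, inv_smul_smul₀ (fun h0 => hv0 (by rw [ha, h0, zero_smul]))]⟩
  obtain ⟨P⟩ := C.exists_pair (n := n) (by omega)
  obtain ⟨a, ha⟩ := hact P.e P.e_ne_zero P.ee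
  obtain ⟨b, hb⟩ := hact P.f P.f_ne_zero P.ff
  have hab : a * C.bar b = 1 := by
    have h1 := C.form_act g σ P.e P.f
    rwa [ha, hb, C.form_smul_left, C.form_smul_right, P.ef, map_one, mul_one] at h1
  have ha0 : a ≠ 0 := fun h0 => by rw [h0, zero_mul] at hab; exact zero_ne_one hab
  -- `a σ t = b t`
  have hpt : ∀ t : F, t + C.bar t ≠ 0 → a * σ t = b * t := by
    intro t ht
    obtain ⟨u, hu, huu, -⟩ := P.exists_basis
    have hu0 := hu ⟨0, by omega⟩
    set u₀ := u ⟨0, by omega⟩ with hu₀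
    obtain ⟨z, hz⟩ := C.exists_norm (c := -(t + C.bar t))
      (by rw [map_neg, map_add, C.bar_bar, add_comm])
    have hzu : C.form u₀ u₀ = 1 := by rw [huu, if_pos rfl]
    have hv : C.form (P.f + z • u₀ + t • P.e) (P.f + z • u₀ + t • P.e) = 0 := by
      simp only [C.form_add_left, C.form_add_right, C.form_smul_left, C.form_smul_right, P.ee, P.ff,
        P.ef, P.fe, hu0.1, hu0.2, C.form_swap_zero hu0.1, C.form_swap_zero hu0.2, hzu]
      linear_combination hz
    obtain ⟨k, hk⟩ := hact _ (fun h0 => by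
      have := congrArg (fun x => C.form x P.e) h0
      simp [C.form_add_left, C.form_smul_left, P.fe, P.ee, hu0.1, C.form_zero_left] at this) hv
    rw [act_add, act_add, act_smul, act_smul, hb, ha] at hk
    have hwe : C.form (act g.1 σ u₀) P.e = 0 := by
      have h1 := C.form_act g σ u₀ P.e
      rw [ha, C.form_smul_right, hu0.1, map_zero] at h1
      exact (mul_eq_zero.1 h1).resolve_left (by simpa using ha0)
    have hwf : C.form (act g.1 σ u₀) P.f = 0 := by
      have hb0 : b ≠ 0 := fun h0 => by simp [h0] at hab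
      have h1 := C.form_act g σ u₀ P.f
      rw [hb, C.form_smul_right, hu0.2, map_zero] at h1
      exact (mul_eq_zero.1 h1).resolve_left (by simpa using hb0)
    have e1 := congrArg (fun x => C.form x P.e) hk
    have e2 := congrArg (fun x => C.form x P.f) hk
    simp [C.form_add_left, C.form_smul_left, P.fe, P.ee, P.ef, P.ff, hu0.1, hu0.2, hwe, hwf] at e1 e2
    rw [e1]; linear_combination e2
  obtain ⟨y, -, hy⟩ := C.exists_trace_ne_zero
  have hall : ∀ t : F, a * σ t = b * t := by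
    intro t
    by_cases ht : t + C.bar t = 0
    · have h1 := hpt (t + y) (by
        rw [map_add, show t + y + (C.bar t + C.bar y) = y + C.bar y by linear_combination ht]
        exact hy)
      have h2 := hpt y hy
      rw [map_add] at h1
      linear_combination h1 - h2
    · exact hpt t ht
  have heq : a = b := by simpa using hall 1
  have hσ : σ = 1 := RingEquiv.ext fun t => mul_left_cancel₀ ha0 ((hall t).trans (by rw [heq]; rfl))
  subst hσ
  obtain ⟨c, hc⟩ := C.scalar_of_isotropic_eigen hn (M := g.1.1) (C.mem_gu_iff.1 g.2)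
    fun v hv0 hv => hact v hv0 hv
  have hca : c = a := by
    have h1 := congrArg (fun x => C.form x P.f) ha
    rw [show act g.1 (1 : RingAut F) P.e = g.1.1 *ᵥ P.e from rfl, hc] at h1
    simpa [Matrix.smul_mulVec, C.form_smul_left, P.ef] using h1
  refine ⟨rfl, ⟨Units.mk0 c (hca ▸ ha0), ?_⟩, ?_⟩
  · rw [C.mem_unitOne, Units.val_mk0, hca]
    rw [← heq] at hab
    exact hab
  · apply Subtype.ext; apply Units.ext
    rw [C.gscal_val, hc]
    rfl

theorem UCtx.orderOf_fieldHom (hn : 3 ≤ n) (σ : RingAut F) :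
    orderOf (C.ind (1 : ↥(Cfsg.GU n F q)) σ) = orderOf σ := by
  refine orderOf_injective C.fieldHom ((injective_iff_map_eq_one _).2 fun τ hτ => ?_) σ
  exact (C.eq_one_of_ind_eq_one hn hτ).1

theorem UCtx.inndiag_eq_range : Cfsg.inndiagPSU n F q = (C.indHom (n := n)).range := by
  apply le_antisymm
  · refine (Subgroup.closure_le _).2 fun β hβ => ?_
    obtain ⟨g, rfl⟩ := C.isInnerDiagonal_iff.1 hβ
    exact ⟨g, rfl⟩
  · rintro _ ⟨g, rfl⟩
    exact Subgroup.subset_closure (C.isInnerDiagonal_iff.2 ⟨g, rfl⟩)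

theorem UCtx.inn_eq_map :
    Cfsg.Inn (Cfsg.PSU n F q) = (C.detHom (n := n)).ker.map C.indHom := by
  apply le_antisymm
  · intro β hβ
    obtain ⟨x, rfl⟩ : ∃ x, MulAut.conj x = β := hβ
    obtain ⟨A, rfl⟩ := QuotientGroup.mk'_surjective _ x
    refine ⟨ofSU A, Subtype.ext (Units.ext ?_), C.ind_ofSU A⟩
    rw [C.detHom_val]
    exact A.1.2
  · rintro _ ⟨g, hg, rfl⟩
    have hdet : g.1.1.det = 1 := by
      rw [← C.detHom_val, show C.detHom g = 1 from hg]; rfl
    refine ⟨pr (C.mkSU g.1.1 hdet (C.mem_gu_iff.1 g.2)), ?_⟩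
    rw [← C.ind_ofSU]
    show C.ind _ 1 = C.ind g 1
    congr 1
    exact Subtype.ext (Units.ext rfl)

theorem UCtx.inndiag_normal
    (hcl : ∀ β : MulAut (Cfsg.PSU n F q), ∃ (g : ↥(Cfsg.GU n F q)) (σ : RingAut F), β = C.ind g σ) :
    (Cfsg.inndiagPSU n F q).Normal := by
  refine ⟨fun β hβ α => ?_⟩
  rw [C.inndiag_eq_range] at hβ ⊢
  obtain ⟨g, rfl⟩ := hβ
  obtain ⟨h, τ, rfl⟩ := hcl α
  refine ⟨h * C.guField τ g * h⁻¹, ?_⟩
  rw [eq_mul_inv_iff_mul_eq, C.indHom_apply, C.indHom_apply, C.ind_mul, C.ind_mul, one_mul, mul_one]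
  congr 1
  rw [show C.guField (1 : RingAut F) h = h from Subtype.ext (Units.ext (by ext i j; rfl)),
    inv_mul_cancel_right]

end CfsgLib.SU
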