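import Mathlib
import Cfsg.Agent.Lib.SU.Field
import Cfsg.Agent.Lib.Descent.Hermitian
import Cfsg.Agent.Lib.Descent.FixedField
import Cfsg.Agent.Lib.Descent.SplitCount

/-!
Field automorphisms of `PSU` of odd order: coset conjugacy, centralisers and class counts.
-/

set_option autoImplicit false

namespace CfsgLib.SU

open Matrix CfsgLib.Descent

/-- Powers of an odd degree act as the first power on a field with `q₀²` elements. -/
theorem pow_pow_odd {K : Type*} [Field K] [Fintype K] {q₀ : ℕ} (hK : Fintype.card K = q₀ ^ 2)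
    (x : K) : ∀ k : ℕ, x ^ q₀ ^ (2 * k + 1) = x ^ q₀
  | 0 => by rw [mul_zero, zero_add, pow_one]
  | k + 1 => by
    rw [show 2 * (k + 1) + 1 = 2 + (2 * k + 1) by ring, pow_add q₀, pow_mul, ← hK,
      FiniteField.pow_card, pow_pow_odd hK x k]

variable {F : Type*} [Field F] [Fintype F] {q : ℕ} (C : UCtx F q) {n : ℕ}

theorem UCtx.card_unitOne (hF : Fintype.card F = q ^ 2) : Nat.card C.unitOne = q + 1 := by
  classical
  have hker : C.unitOne = (Descent.normHom C.bar 2).ker := by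
    ext u
    rw [MonoidHom.mem_ker, C.mem_unitOne, Units.ext_iff, Descent.normHom_val, Finset.prod_range_succ,
      Finset.prod_range_one, pow_zero, pow_one, Units.val_one]
    rfl
  have h1 := Subgroup.card_mul_index (Descent.normHom C.bar 2).ker
  rw [Subgroup.index_ker, range_normHom C.order_two two_pos, card_fixedUnits, Nat.card_units,
    Nat.card_eq_fintype_card (α := F), hF, ← hker] at h1
  have h2 := card_fixedField_pow C.bar
  rw [C.order_two, hF] at h2
  rw [Nat.pow_left_injective two_ne_zero h2] at h1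
  have hq : 2 ≤ q := by
    have h3 : 1 < q ^ 2 := hF ▸ Fintype.one_lt_card
    rcases q with _ | _ | q
    · simp at h3
    · simp at h3
    · omega
  refine Nat.eq_of_mul_eq_mul_right (show 0 < q - 1 by omega) (h1.trans ?_)
  conv_lhs => rw [show (1 : ℕ) = 1 ^ 2 from rfl, Nat.sq_sub_sq]

/-- The partial norms on the norm-one elements. -/
def UCtx.normU (σ : RingAut F) (k : ℕ) : C.unitOne →* C.unitOne where
  toFun u := ∏ i ∈ Finset.range k, C.unitField (σ ^ i) u
  map_one' := by simp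
  map_mul' u v := by simp [Finset.prod_mul_distrib]

theorem UCtx.normU_succ (σ : RingAut F) (k : ℕ) (u : C.unitOne) :
    C.normU σ (k + 1) u = C.normU σ k u * C.unitField (σ ^ k) u := Finset.prod_range_succ _ _

theorem UCtx.normU_zero (σ : RingAut F) (u : C.unitOne) : C.normU σ 0 u = 1 := by
  simp [UCtx.normU]

theorem UCtx.unitField_one (u : C.unitOne) : C.unitField 1 u = u :=
  Subtype.ext (Units.ext rfl)

theorem UCtx.unitField_unitField (σ τ : RingAut F) (u : C.unitOne) :
    C.unitField σ (C.unitField τ u) = C.unitField (σ * τ) u := Subtype.ext (Units.ext rfl)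

theorem UCtx.normU_succ' (σ : RingAut F) (u : C.unitOne) :
    ∀ k, C.normU σ (k + 1) u = u * C.unitField σ (C.normU σ k u)
  | 0 => by rw [C.normU_succ, C.normU_zero, map_one, pow_zero, C.unitField_one, one_mul, mul_one]
  | k + 1 => by
    rw [C.normU_succ σ (k + 1)]
    conv_lhs => rw [UCtx.normU_succ' σ u k]
    rw [C.normU_succ σ k, map_mul, C.unitField_unitField, ← pow_succ', mul_assoc]

theorem UCtx.normU_val (σ : RingAut F) (k : ℕ) (u : C.unitOne) :
    ((C.normU σ k u : C.unitOne) : Fˣ) = Descent.normHom σ k (u : Fˣ) := by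
  show C.unitOne.subtype (∏ i ∈ Finset.range k, C.unitField (σ ^ i) u) = _
  rw [map_prod]
  rfl

/-- An element `b / b̄` of norm one. -/
def UCtx.quotBar (b : Fˣ) : C.unitOne :=
  ⟨b * (Units.map (C.bar : F →* F) b)⁻¹, by
    rw [C.mem_unitOne, Units.val_mul, Units.val_inv_eq_inv_val]
    show (b : F) * (C.bar b)⁻¹ * C.bar ((b : F) * (C.bar b)⁻¹) = 1
    have : C.bar (b : F) ≠ 0 := by simp
    rw [map_mul, map_inv₀, C.bar_bar]
    field_simp⟩

theorem UCtx.quotBar_val (b : Fˣ) :
    (((C.quotBar b : C.unitOne) : Fˣ) : F) = (b : F) / C.bar b := by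
  simp [UCtx.quotBar, div_eq_mul_inv]

section odd

variable {σ : RingAut F} {r : ℕ} (hr : orderOf σ = r) (hro : Odd r)

include hr hro

theorem UCtx.exists_normU_eq {c : C.unitOne} (hc : C.unitField σ c = c) :
    ∃ s : C.unitOne, C.normU σ r s = c := by
  obtain ⟨k, hk⟩ := hro
  have hcf : σ ((c : Fˣ) : F) = (c : Fˣ) := congrArg (fun u : C.unitOne => ((u : Fˣ) : F)) hc
  obtain ⟨a, ha0, ha⟩ := exists_norm_eq hr (by omega) (c : Fˣ).ne_zero hcf
  have h1 : C.normU σ r (C.quotBar (Units.mk0 a ha0)) = c ^ 2 := by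
    apply Subtype.ext; apply Units.ext
    have hc1 := C.mem_unitOne.1 c.2
    have hbar : ∏ i ∈ Finset.range r, (σ ^ i : RingAut F) (C.bar a) = C.bar ((c : Fˣ) : F) := by
      rw [← ha, map_prod]
      exact Finset.prod_congr rfl fun i _ => (C.bar_apply_comm _ a).symm
    rw [C.normU_val, Descent.normHom_val]
    simp only [C.quotBar_val, Units.val_mk0, map_div₀, Finset.prod_div_distrib, ha, hbar]
    push_cast
    rw [div_eq_iff (by simp : C.bar ((c : Fˣ) : F) ≠ 0)]
    linear_combination -(((c : Fˣ) : F)) * hc1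
  have h2 : C.normU σ r c = c ^ r := by
    have hci : ∀ i, C.unitField (σ ^ i) c = c := by
      intro i
      induction i with
      | zero => rw [pow_zero, C.unitField_one]
      | succ i ih => rw [pow_succ, ← C.unitField_unitField, hc, ih]
    show ∏ i ∈ Finset.range r, C.unitField (σ ^ i) c = _
    simp [hci]
  refine ⟨c * (C.quotBar (Units.mk0 a ha0) ^ k)⁻¹, ?_⟩
  rw [map_mul, map_inv, map_pow, h1, h2, ← pow_mul, hk, pow_succ, mul_assoc, mul_comm c,
    ← mul_assoc, mul_inv_cancel, one_mul]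

theorem UCtx.exists_coboundary {c : C.unitOne} (hc : C.normU σ r c = 1) :
    ∃ b : C.unitOne, c * C.unitField σ b = b := by
  obtain ⟨k, hk⟩ := hro
  obtain ⟨b, hb0, hb⟩ := exists_h90_units hr (by omega) (c := ((c : Fˣ) : F)) (by
    rw [← Descent.normHom_val, ← C.normU_val, hc]; rfl)
  set β := C.quotBar (Units.mk0 b hb0)
  have hβ : C.unitField σ β = β * (c ^ 2)⁻¹ := by
    rw [eq_mul_inv_iff_mul_eq]
    apply Subtype.ext; apply Units.ext
    have hc1 := C.mem_unitOne.1 c.2
    push_cast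
    simp only [β, C.unitField_val, C.quotBar_val, Units.val_mk0, map_div₀]
    conv_rhs => rw [← hb]
    have h1 : C.bar ((c : Fˣ) : F) ≠ 0 := by simp
    rw [map_mul, ← C.bar_apply_comm, div_mul_eq_mul_div,
      div_eq_div_iff (by simpa using hb0) (mul_ne_zero h1 (by simpa using hb0))]
    linear_combination (σ b * ((c : Fˣ) : F) * C.bar (σ b)) * hc1
  set γ := ∏ i ∈ Finset.range r, C.normU σ i c
  have hγ : C.unitField σ γ = γ * (c ^ r)⁻¹ := by
    have h1 : ∀ i, C.unitField σ (C.normU σ i c) = C.normU σ i c * C.unitField (σ ^ i) c * c⁻¹ := by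
      intro i
      rw [← C.normU_succ, C.normU_succ', mul_comm c, mul_inv_cancel_right]
    rw [map_prod, Finset.prod_congr rfl fun i _ => h1 i, Finset.prod_mul_distrib,
      Finset.prod_mul_distrib, show ∏ i ∈ Finset.range r, C.unitField (σ ^ i) c = 1 from hc, mul_one,
      Finset.prod_const, Finset.card_range, inv_pow]
  refine ⟨γ * (β ^ k)⁻¹, ?_⟩
  rw [map_mul, map_inv, map_pow, hβ, hγ, hk, mul_pow, inv_pow, ← pow_mul, pow_succ]
  simp only [_root_.mul_inv_rev, inv_inv]
  calc c * (γ * (c⁻¹ * (c ^ (2 * k))⁻¹) * (c ^ (2 * k) * (β ^ k)⁻¹))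
      = (c * c⁻¹) * ((c ^ (2 * k))⁻¹ * c ^ (2 * k)) * (γ * (β ^ k)⁻¹) := by ac_rfl
    _ = γ * (β ^ k)⁻¹ := by rw [mul_inv_cancel, inv_mul_cancel, one_mul, one_mul]

/-- Unitary matrices whose automorphism centralises a field automorphism of odd order. -/
theorem UCtx.centPre_decomp (hn : 3 ≤ n) {g : ↥(Cfsg.GU n F q)}
    (hg : g ∈ (Subgroup.centralizer {C.ind (1 : ↥(Cfsg.GU n F q)) σ}).comap C.indHom) :
    ∃ b : C.unitOne, C.guField σ (C.gscal b * g) = C.gscal b * g := by
  rw [Subgroup.mem_comap, Subgroup.mem_centralizer_iff] at hg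
  have he := hg _ rfl
  rw [C.indHom_apply, C.ind_mul, one_mul, mul_one, C.ind_one_mul, mul_one] at he
  have hsplit : ∀ X : ↥(Cfsg.GU n F q), C.ind X σ = C.indHom X * C.ind 1 σ := fun X => by
    rw [C.indHom_apply, C.ind_one_mul, mul_one]
  rw [hsplit (C.guField σ g), hsplit g] at he
  have h1 : C.indHom (g * (C.guField σ g)⁻¹) = 1 := by
    rw [map_mul, map_inv]
    exact mul_inv_eq_one.2 (mul_right_cancel he).symm
  obtain ⟨-, c, hc⟩ := C.eq_one_of_ind_eq_one hn h1
  have hcg : g = C.gscal c * C.guField σ g := by rw [← hc, inv_mul_cancel_right]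
  have hff : ∀ (τ ρ : RingAut F) (X : ↥(Cfsg.GU n F q)),
      C.guField τ (C.guField ρ X) = C.guField (τ * ρ) X := fun τ ρ X =>
    Subtype.ext (Units.ext (by ext i j; rfl))
  have hf1 : ∀ X : ↥(Cfsg.GU n F q), C.guField (1 : RingAut F) X = X := fun X =>
    Subtype.ext (Units.ext (by ext i j; rfl))
  have key : ∀ k, g = C.gscal (C.normU σ k c) * C.guField (σ ^ k) g := by
    intro k
    induction k with
    | zero => rw [C.normU_zero, map_one, pow_zero, hf1, one_mul]
    | succ k ih =>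
      conv_lhs => rw [ih, hcg]
      rw [map_mul, C.guField_gscal, hff, ← pow_succ, ← mul_assoc, ← map_mul, C.normU_succ]
  have h2 := key r
  rw [← hr, pow_orderOf_eq_one, hf1, hr] at h2
  have hN : C.normU σ r c = 1 := by
    have h3 : C.gscal (n := n) (C.normU σ r c) = 1 := mul_eq_right.1 h2.symm
    have h4 := congrArg (fun X : ↥(Cfsg.GU n F q) => X.1.1 ⟨0, by omega⟩ ⟨0, by omega⟩) h3
    apply Subtype.ext; apply Units.ext
    simpa [C.gscal_val] using h4
  obtain ⟨b, hb⟩ := C.exists_coboundary hr hro hN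
  refine ⟨b⁻¹, ?_⟩
  rw [map_mul, C.guField_gscal]
  conv_rhs => rw [hcg, ← mul_assoc, ← map_mul]
  congr 2
  rw [map_inv]
  nth_rewrite 2 [← hb]
  rw [_root_.mul_inv_rev, inv_mul_cancel_right]

end odd

variable {σ : RingAut F} {r : ℕ}
variable {F₀ : Type*} [Field F₀] [Fintype F₀] {q₀ : ℕ} (C₀ : UCtx F₀ q₀) (j : F₀ →+* F)

/-- The subfield data: `j` identifies `F₀` with the fixed field compatibly with the conjugations. -/
structure IsSub (σ : RingAut F) : Prop where
  fix : ∀ a, σ (j a) = j a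
  surj : ∀ y, σ y = y → ∃ a, j a = y
  bar : ∀ a, j (C₀.bar a) = C.bar (j a)

variable {C C₀ j}

theorem IsSub.mapGU_mem (hS : IsSub C C₀ j σ) {g : GL (Fin n) F₀} (hg : g ∈ Cfsg.GU n F₀ q₀) :
    Matrix.GeneralLinearGroup.map j g ∈ Cfsg.GU n F q := by
  have h := congrArg (fun X => X.map j) (C₀.mem_gu_iff_mat.1 hg)
  simp only [Matrix.map_mul, Matrix.transpose_map, Matrix.map_map,
    Matrix.map_one _ (map_zero j) (map_one j)] at h
  rw [C.mem_gu_iff_mat]
  rw [show (j ∘ C₀.bar : F₀ → F) = C.bar ∘ j from funext hS.bar, ← Matrix.map_map] at h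
  exact h

/-- Extension of scalars on unitary groups. -/
def IsSub.guMap (hS : IsSub C C₀ j σ) : ↥(Cfsg.GU n F₀ q₀) →* ↥(Cfsg.GU n F q) :=
  ((Matrix.GeneralLinearGroup.map j).comp (Cfsg.GU n F₀ q₀).subtype).codRestrict _
    fun g => hS.mapGU_mem g.2

theorem IsSub.guMap_val (hS : IsSub C C₀ j σ) (g : ↥(Cfsg.GU n F₀ q₀)) :
    ((hS.guMap g).1).1 = g.1.1.map j := rfl

theorem IsSub.exists_lift (hS : IsSub C C₀ j σ) {g : ↥(Cfsg.GU n F q)} (hg : C.guField σ g = g) :
    ∃ u : ↥(Cfsg.GU n F₀ q₀), hS.guMap u = g := by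
  classical
  have hg' : ∀ i k, σ (g.1.1 i k) = g.1.1 i k := fun i k =>
    congrArg (fun X : ↥(Cfsg.GU n F q) => X.1.1 i k) hg
  choose A hA using fun i k => hS.surj _ (hg' i k)
  set M : Matrix (Fin n) (Fin n) F₀ := Matrix.of A
  have hM : M.map j = g.1.1 := by ext i k; exact hA i k
  have hAdet : M.det ≠ 0 := by
    intro h0
    have h1 : j M.det = (M.map j).det := j.map_det M
    rw [h0, map_zero, hM] at h1
    exact (Matrix.GeneralLinearGroup.det g.1).ne_zero h1.symm
  refine ⟨⟨Matrix.GeneralLinearGroup.mkOfDetNeZero M hAdet, C₀.mem_gu_iff_mat.2 ?_⟩,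
    Subtype.ext (Units.ext hM)⟩
  refine Matrix.map_injective j.injective ?_
  show (Mᵀ * M.map C₀.bar).map j = (1 : Matrix (Fin n) (Fin n) F₀).map j
  rw [Matrix.map_mul, Matrix.transpose_map, hM, Matrix.map_map,
    show (j ∘ C₀.bar : F₀ → F) = C.bar ∘ j from funext hS.bar, ← Matrix.map_map, hM,
    Matrix.map_one _ (map_zero j) (map_one j)]
  exact C.mem_gu_iff_mat.1 g.2

theorem IsSub.guMap_mem_centPre (hS : IsSub C C₀ j σ) (u : ↥(Cfsg.GU n F₀ q₀)) :
    hS.guMap u ∈ (Subgroup.centralizer {C.ind (1 : ↥(Cfsg.GU n F q)) σ}).comap C.indHom := by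
  rw [Subgroup.mem_comap, Subgroup.mem_centralizer_iff]
  rintro x rfl
  rw [C.indHom_apply, C.ind_mul, one_mul, mul_one, C.ind_one_mul, mul_one,
    show C.guField σ (hS.guMap u) = hS.guMap u from
      Subtype.ext (Units.ext (by ext a b; exact hS.fix _))]

theorem IsSub.centralizer_equiv (hS : IsSub C C₀ j σ) (hr : orderOf σ = r) (hro : Odd r)
    (hn : 3 ≤ n) :
    Nonempty (Cfsg.PGU n F₀ q₀ ≃*
      (Cfsg.inndiagPSU n F q ⊓ Subgroup.centralizer {C.ind (1 : ↥(Cfsg.GU n F q)) σ} :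
        Subgroup (MulAut (Cfsg.PSU n F q)))) := by
  classical
  set N := (Cfsg.Geo.scalars (Fin n) F₀).subgroupOf (Cfsg.GU n F₀ q₀)
  set x := C.ind (1 : ↥(Cfsg.GU n F q)) σ with hx
  have hker : ((C.indHom).comp (hS.guMap (n := n))).ker = N := by
    ext u
    rw [MonoidHom.mem_ker, Subgroup.mem_subgroupOf, Cfsg.Geo.mem_scalars_iff]
    constructor
    · intro h
      obtain ⟨-, c, hc⟩ := C.eq_one_of_ind_eq_one hn (show C.ind (hS.guMap u) 1 = 1 from h)
      let z : Fin n := ⟨0, by omega⟩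
      have hent : ∀ a b, j (u.1.1 a b) = if a = b then ((c : Fˣ) : F) else 0 := fun a b => by
        show (u.1.1.map j) a b = _
        rw [← hS.guMap_val, hc, C.gscal_val, Matrix.smul_apply, Matrix.one_apply]; simp
      have hz : j (u.1.1 z z) = (c : Fˣ) := by rw [hent, if_pos rfl]
      have hz0 : u.1.1 z z ≠ 0 := fun h0 => (c : Fˣ).ne_zero (by rw [← hz, h0, map_zero])
      refine ⟨Units.mk0 _ hz0, ?_⟩
      ext a b
      apply j.injective
      rw [hent, Matrix.smul_apply, Matrix.one_apply, Units.val_mk0, smul_eq_mul, map_mul,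
        apply_ite j, map_one, map_zero, hz]
      simp
    · rintro ⟨c, hc⟩
      have hcm : Units.map (j : F₀ →* F) c ∈ C.unitOne := by
        have h1 := congrFun (congrFun (C.mem_gu_iff_mat.1 (hS.guMap u).2) ⟨0, by omega⟩) ⟨0, by omega⟩
        rw [hS.guMap_val, hc] at h1
        simpa [C.mem_unitOne, Matrix.mul_apply, Matrix.one_apply, apply_ite j, apply_ite C.bar] using h1
      have hu : hS.guMap u = C.gscal ⟨_, hcm⟩ := by
        apply Subtype.ext; apply Units.ext
        rw [hS.guMap_val, C.gscal_val, hc]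
        ext a b
        simp [Matrix.one_apply, apply_ite j]
      show C.indHom (hS.guMap u) = 1
      rw [hu, C.indHom_apply, ← mul_one (C.gscal _), C.ind_gscal_mul, C.ind_one_one]
  have hrange : ((C.indHom).comp (hS.guMap (n := n))).range =
      Cfsg.inndiagPSU n F q ⊓ Subgroup.centralizer {x} := by
    rw [C.inndiag_eq_range]
    apply le_antisymm
    · rintro _ ⟨u, rfl⟩
      exact ⟨⟨hS.guMap u, rfl⟩, hS.guMap_mem_centPre u⟩
    · rintro _ ⟨⟨g, rfl⟩, hg⟩
      obtain ⟨b, hb⟩ := C.centPre_decomp hr hro hn (g := g) hg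
      obtain ⟨u, hu⟩ := hS.exists_lift hb
      refine ⟨u, ?_⟩
      show C.ind (hS.guMap u) 1 = C.ind g 1
      rw [hu, C.ind_gscal_mul]
  exact ⟨(QuotientGroup.quotientMulEquivOfEq hker.symm).trans
    ((QuotientGroup.quotientKerEquivRange _).trans (MulEquiv.subgroupCongr hrange))⟩

/-- The determinants of the centraliser. -/
theorem IsSub.det_image (hS : IsSub C C₀ j σ) (hr : orderOf σ = r) (hro : Odd r) (hn : 3 ≤ n) :
    ((Subgroup.centralizer {C.ind (1 : ↥(Cfsg.GU n F q)) σ}).comap C.indHom).map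
        (C.detHom (n := n)) =
      (powMonoidHom n : C.unitOne →* C.unitOne).range ⊔
        MonoidHom.eqLocus (C.unitField σ) (MonoidHom.id _) := by
  classical
  have hsc : ∀ b : C.unitOne, C.detHom (C.gscal (n := n) b) = b ^ n := fun b => by
    apply Subtype.ext; apply Units.ext
    rw [C.detHom_val, C.gscal_val, Matrix.det_smul, Matrix.det_one, Fintype.card_fin, mul_one]
    push_cast; rfl
  apply le_antisymm
  · rintro _ ⟨g, hg, rfl⟩
    obtain ⟨b, hb⟩ := C.centPre_decomp hr hro hn hg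
    have h1 : C.detHom (C.gscal b * g) ∈ MonoidHom.eqLocus (C.unitField σ) (MonoidHom.id _) := by
      show C.unitField σ _ = _
      apply Subtype.ext; apply Units.ext
      rw [C.unitField_val]
      simp only [MonoidHom.id_apply, C.detHom_val]
      conv_rhs => rw [← hb, C.guField_val, glMap_val]
      exact σ.toRingHom.map_det _
    have h2 : C.detHom g = (b⁻¹) ^ n * C.detHom (C.gscal b * g) := by
      rw [map_mul, hsc, inv_pow, inv_mul_cancel_left]
    rw [h2]
    exact Subgroup.mul_mem_sup ⟨b⁻¹, rfl⟩ h1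
  · rw [sup_le_iff]
    constructor
    · rintro _ ⟨c, rfl⟩
      refine ⟨C.gscal c, ?_, hsc c⟩
      show C.indHom (C.gscal c) ∈ Subgroup.centralizer _
      rw [C.indHom_apply, ← mul_one (C.gscal c), C.ind_gscal_mul, C.ind_one_one]
      exact one_mem _
    · intro u hu
      have hu' : σ ((u : Fˣ) : F) = (u : Fˣ) := congrArg (fun v : C.unitOne => ((v : Fˣ) : F)) hu
      obtain ⟨a, ha⟩ := hS.surj _ hu'
      have ha0 : a ≠ 0 := fun h0 => (u : Fˣ).ne_zero (by rw [← ha, h0, map_zero])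
      obtain ⟨g, hg⟩ := C₀.detHom_surjective (n := n) (by omega) ⟨Units.mk0 a ha0, by
        rw [C₀.mem_unitOne]
        apply j.injective
        rw [map_mul, Units.val_mk0, hS.bar, ha, map_one]
        exact C.mem_unitOne.1 u.2⟩
      refine ⟨hS.guMap g, hS.guMap_mem_centPre g, ?_⟩
      apply Subtype.ext; apply Units.ext
      rw [C.detHom_val, hS.guMap_val]
      show (j.mapMatrix g.1.1).det = _
      rw [← j.map_det, ← C₀.detHom_val, hg]
      exact ha

theorem IsSub.card_fixed (hS : IsSub C C₀ j σ) (hF₀ : Fintype.card F₀ = q₀ ^ 2) :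
    Nat.card (MonoidHom.eqLocus (C.unitField σ) (MonoidHom.id C.unitOne)) = q₀ + 1 := by
  rw [← C₀.card_unitOne hF₀]
  refine (Nat.card_congr (Equiv.ofBijective (fun v : C₀.unitOne =>
    (⟨⟨Units.map (j : F₀ →* F) (v : F₀ˣ), by
      rw [C.mem_unitOne]
      show j ((v : F₀ˣ) : F₀) * C.bar (j ((v : F₀ˣ) : F₀)) = 1
      rw [← hS.bar, ← map_mul, C₀.mem_unitOne.1 v.2, map_one]⟩,
      Subtype.ext (Units.ext (hS.fix _))⟩ :
      MonoidHom.eqLocus (C.unitField σ) (MonoidHom.id C.unitOne))) ⟨?_, ?_⟩)).symm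
  · intro v w h
    apply Subtype.ext; apply Units.ext
    exact j.injective (congrArg (fun z : MonoidHom.eqLocus (C.unitField σ) (MonoidHom.id C.unitOne) =>
      ((z.1 : Fˣ) : F)) h)
  · rintro ⟨u, hu⟩
    have hu' : σ ((u : Fˣ) : F) = (u : Fˣ) := congrArg (fun v : C.unitOne => ((v : Fˣ) : F)) hu
    obtain ⟨a, ha⟩ := hS.surj _ hu'
    have ha0 : a ≠ 0 := fun h0 => (u : Fˣ).ne_zero (by rw [← ha, h0, map_zero])
    refine ⟨⟨Units.mk0 a ha0, ?_⟩, Subtype.ext (Subtype.ext (Units.ext ha))⟩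
    rw [C₀.mem_unitOne]
    apply j.injective
    rw [map_mul, Units.val_mk0, hS.bar, ha, map_one]
    exact C.mem_unitOne.1 u.2

/-- Elements of order `r` in the coset of a field automorphism are conjugate to it. -/
theorem IsSub.field_coset_conj (hS : IsSub C C₀ j σ) (hr : orderOf σ = r) (hro : Odd r) (hn : 3 ≤ n)
    (A : ↥(Cfsg.GU n F q)) (hA : C.ind A σ ^ r = 1) :
    ∃ B : ↥(Cfsg.GU n F q), C.ind A σ = C.ind B 1 * C.ind 1 σ * (C.ind B 1)⁻¹ := by
  classical
  have hr0 : 0 < r := hro.pos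
  have hσr : σ ^ r = 1 := hr ▸ pow_orderOf_eq_one σ
  obtain ⟨N, hNval, hN⟩ := C.ind_pow A σ r
  rw [hN, hσr] at hA
  obtain ⟨-, c, hc⟩ := C.eq_one_of_ind_eq_one hn hA
  have hfix : glMap σ (nprod σ A.1 r) = nprod σ A.1 r := by
    have h1 := nprod_succ' σ A.1 r
    rw [hσr, glMap_one, show nprod σ A.1 (r + 1) = A.1 * glMap σ (nprod σ A.1 r) from rfl, ← hNval,
      hc, ← C.gscal_comm c A.1] at h1
    rw [← hNval, hc]
    exact mul_left_cancel h1
  have hcfix : C.unitField σ c = c := by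
    rw [← hNval, hc] at hfix
    have h2 := congrArg (fun X : GL (Fin n) F => X.1 ⟨0, by omega⟩ ⟨0, by omega⟩) hfix
    exact Subtype.ext (Units.ext (by simpa [C.gscal_val, C.unitField_val] using h2))
  obtain ⟨a, ha⟩ := C.exists_normU_eq hr hro hcfix
  set s := a⁻¹ with hs
  have key : ∀ k, nprod σ (C.gscal s * A).1 k = (C.gscal (C.normU σ k s)).1 * nprod σ A.1 k := by
    intro k
    induction k with
    | zero => rw [C.normU_zero, map_one]; exact (one_mul _).symm
    | succ k ih =>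
      have hgs : glMap (σ ^ k) (C.gscal (n := n) s).1 = (C.gscal (C.unitField (σ ^ k) s)).1 :=
        congrArg Subtype.val (C.guField_gscal (n := n) (σ ^ k) s)
      rw [nprod_succ', ih, nprod_succ', Subgroup.coe_mul, map_mul, hgs, C.normU_succ, map_mul,
        Subgroup.coe_mul]
      simp only [mul_assoc]
      rw [← mul_assoc (nprod σ A.1 k), C.gscal_comm, mul_assoc]
  have hA' : nprod σ (C.gscal s * A).1 r = 1 := by
    rw [key, ← hNval, hc, ← Subgroup.coe_mul, ← map_mul, hs, map_inv, ha, inv_mul_cancel, map_one]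
    rfl
  obtain ⟨B, hB⟩ := exists_h90 hr hr0 hA'
  set A' := C.gscal s * A with hA'def
  -- the Gram matrix of the columns of `B`
  set M : Matrix (Fin n) (Fin n) F := B.1ᵀ * B.1.map C.bar with hM
  have hmm : ∀ X : Matrix (Fin n) (Fin n) F, (X.map C.bar).map σ = (X.map σ).map C.bar := fun X => by
    ext i k; exact (C.bar_apply_comm σ _).symm
  have hB' : A'.1.1 * B.1.map σ = B.1 := congrArg Units.val hB
  have hMσ : M.map σ = M := by
    have h1 : M.map σ = (B.1.map σ)ᵀ * (B.1.map σ).map C.bar := by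
      rw [hM, Matrix.map_mul, ← Matrix.transpose_map, hmm]
    rw [h1, hM]
    conv_rhs => rw [← hB']
    rw [Matrix.map_mul, Matrix.transpose_mul, mul_assoc, ← mul_assoc A'.1.1ᵀ,
      C.mem_gu_iff_mat.1 A'.2, one_mul]
  choose M₀ hM₀ using fun a b => hS.surj (M a b)
    (congrFun (congrFun hMσ a) b)
  have hMmap : (Matrix.of M₀).map j = M := by ext a b; exact hM₀ a b
  have hdet : (Matrix.of M₀).det ≠ 0 := by
    intro h0
    have h1 : j (Matrix.of M₀).det = ((Matrix.of M₀).map j).det := j.map_det _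
    rw [h0, map_zero, hMmap, hM, Matrix.det_mul, Matrix.det_transpose,
      show (B.1.map C.bar).det = C.bar B.1.det from (C.bar.toRingHom.map_det _).symm] at h1
    have hB0 : B.1.det ≠ 0 := (Matrix.GeneralLinearGroup.det B).ne_zero
    exact mul_ne_zero hB0 (by simpa using hB0) h1.symm
  have hherm : (((Matrix.GeneralLinearGroup.mkOfDetNeZero _ hdet).1).map C₀.bar)ᵀ =
      (Matrix.GeneralLinearGroup.mkOfDetNeZero _ hdet).1 := by
    ext a b
    apply j.injective
    show j (C₀.bar (M₀ b a)) = j (M₀ a b)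
    rw [hS.bar, hM₀, hM₀, hM, Matrix.mul_apply, Matrix.mul_apply, map_sum]
    exact Finset.sum_congr rfl fun i _ => by simp [C.bar_bar, mul_comm]
  obtain ⟨D, hD⟩ := exists_hermitian_decomp C₀.bar C₀.order_two _ hherm
  set DF : GL (Fin n) F := Matrix.GeneralLinearGroup.map j D with hDF
  have hMD : M = DF.1 * (DF.1.map C.bar)ᵀ := by
    rw [← hMmap]
    show ((Matrix.GeneralLinearGroup.mkOfDetNeZero _ hdet).1).map j = _
    rw [hD, Matrix.map_mul, ← Matrix.transpose_map, Matrix.map_map,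
      show (j ∘ C₀.bar : F₀ → F) = C.bar ∘ j from funext hS.bar, ← Matrix.map_map]
    rfl
  let E : GL (Fin n) F :=
    ⟨(DF⁻¹).1ᵀ, DF.1ᵀ, by rw [← Matrix.transpose_mul, Units.mul_inv, Matrix.transpose_one],
      by rw [← Matrix.transpose_mul, Units.inv_mul, Matrix.transpose_one]⟩
  have hEσ : glMap σ E = E := by
    have h1 : glMap σ DF⁻¹ = DF⁻¹ := by
      rw [map_inv]
      congr 1
      apply Units.ext; ext a b
      exact hS.fix _
    apply Units.ext
    show ((DF⁻¹).1ᵀ).map σ = (DF⁻¹).1ᵀ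
    rw [Matrix.transpose_map]
    exact congrArg (fun X : GL (Fin n) F => X.1ᵀ) h1
  have hBE : B * E ∈ Cfsg.GU n F q := by
    rw [C.mem_gu_iff_mat, Units.val_mul, Matrix.map_mul, Matrix.transpose_mul, mul_assoc,
      ← mul_assoc B.1ᵀ, ← hM, hMD]
    show (DF⁻¹).1ᵀᵀ * (DF.1 * (DF.1.map C.bar)ᵀ * ((DF⁻¹).1ᵀ).map C.bar) = 1
    rw [Matrix.transpose_transpose, ← mul_assoc, ← mul_assoc, Units.inv_mul, one_mul,
      Matrix.transpose_map, ← Matrix.transpose_mul, ← Matrix.map_mul, Units.inv_mul,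
      Matrix.map_one _ (map_zero C.bar) (map_one C.bar), Matrix.transpose_one]
  refine ⟨⟨B * E, hBE⟩, ?_⟩
  rw [eq_mul_inv_iff_mul_eq, C.ind_one_mul, C.ind_mul, mul_one, mul_one,
    ← C.ind_gscal_mul s (A * C.guField σ _), ← mul_assoc, ← hA'def]
  congr 1
  apply Subtype.ext
  show A'.1 * glMap σ (B * E) = B * E
  rw [map_mul, hEσ, ← mul_assoc, hB]

end CfsgLib.SU
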