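import Mathlib
import Cfsg.Agent.Lib.SU.Descent

/-!
The centre of `SU` and the order of the group of inner-diagonal automorphisms of `PSU`.
-/

set_option autoImplicit false

namespace CfsgLib.SU

variable {F : Type*} [Field F] [Fintype F] {q : ℕ} (C : UCtx F q) {n : ℕ}

theorem UCtx.scalar_of_mem_center (hn : 3 ≤ n) {A : ↥(Cfsg.SU n F q)}
    (hA : A ∈ Subgroup.center _) : ∃ c : C.unitOne, ofSU A = C.gscal c ∧ c ^ n = 1 := by
  have h : C.ind (ofSU A) 1 = 1 := by
    rw [C.ind_ofSU, show pr A = 1 from (QuotientGroup.eq_one_iff A).2 hA, map_one]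
  obtain ⟨c, hc⟩ := (C.eq_one_of_ind_eq_one hn h).2
  refine ⟨c, hc, ?_⟩
  have h1 := congrArg (fun g : ↥(Cfsg.GU n F q) => g.1.1.det) hc
  simp only [C.gscal_val, Matrix.det_smul, Matrix.det_one, mul_one, Fintype.card_fin] at h1
  apply Subtype.ext; apply Units.ext
  rw [SubgroupClass.coe_pow, Units.val_pow_eq_pow_val, ← h1]
  exact A.1.2

include C in
theorem UCtx.card_center_su (hF : Fintype.card F = q ^ 2) (hn : 3 ≤ n) :
    Nat.card (Subgroup.center ↥(Cfsg.SU n F q)) = Nat.gcd n (q + 1) := by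
  classical
  haveI : NeZero n := ⟨by omega⟩
  choose c hc hcn using fun A : Subgroup.center ↥(Cfsg.SU n F q) => C.scalar_of_mem_center hn A.2
  have hinj : Function.Injective (fun A => (⟨c A, hcn A⟩ : (powMonoidHom n : C.unitOne →* C.unitOne).ker)) := by
    intro A B h
    have h' : c A = c B := congrArg Subtype.val h
    have h2 : ofSU A.1 = ofSU B.1 := by rw [hc, hc, h']
    exact Subtype.ext (Subtype.ext (Matrix.SpecialLinearGroup.toGL_injective (congrArg Subtype.val h2)))
  rw [Nat.card_eq_of_bijective _ ⟨hinj, ?_⟩, IsCyclic.card_powMonoidHom_ker, C.card_unitOne hF,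
    Nat.gcd_comm]
  rintro ⟨d, hd⟩
  have hd' : ((d : Fˣ) : F) ^ n = 1 := congrArg (fun x : C.unitOne => ((x : Fˣ) : F)) hd
  have hdet : (((d : Fˣ) : F) • (1 : Matrix (Fin n) (Fin n) F)).det = 1 := by
    rw [Matrix.det_smul, Matrix.det_one, mul_one, Fintype.card_fin, hd']
  have hA : (⟨_, hdet⟩ : Matrix.SpecialLinearGroup (Fin n) F) ∈ Cfsg.SU n F q := by
    exact cast (congrArg (fun x => x ∈ Cfsg.GU n F q)
      (show (C.gscal (n := n) d).1 = Matrix.SpecialLinearGroup.toGL ⟨_, hdet⟩ from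
        Units.ext (C.gscal_val d))) (C.gscal (n := n) d).2
  refine ⟨⟨⟨_, hA⟩, Subgroup.mem_center_iff.2 (scalar_central rfl)⟩, Subtype.ext (Subtype.ext
    (Units.ext ?_))⟩
  · have h1 := congrArg (fun g : ↥(Cfsg.GU n F q) => g.1.1 0 0)
      (hc ⟨⟨_, hA⟩, Subgroup.mem_center_iff.2 (scalar_central rfl)⟩)
    simp only [C.gscal_val] at h1
    simp [ofSU] at h1
    refine h1.symm.trans ?_
    show (((d : Fˣ) : F) • (1 : Matrix (Fin n) (Fin n) F)) 0 0 = _
    simp

theorem UCtx.card_indHom_range (hF : Fintype.card F = q ^ 2) (hn : 3 ≤ n) :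
    Nat.card (C.indHom (n := n)).range = Nat.gcd n (q + 1) * Nat.card (Cfsg.PSU n F q) := by
  classical
  haveI : NeZero n := ⟨by omega⟩
  have hk : (C.indHom (n := n)).ker = (C.gscal (n := n)).range := by
    ext g
    rw [MonoidHom.mem_ker, C.indHom_apply]
    refine ⟨fun h => ?_, ?_⟩
    · obtain ⟨c, hc⟩ := (C.eq_one_of_ind_eq_one hn h).2
      exact ⟨c, hc.symm⟩
    · rintro ⟨c, rfl⟩
      rw [← mul_one (C.gscal c), C.ind_gscal_mul, C.ind_one_one]
  have hscal : Function.Injective (C.gscal (n := n)) := fun a b h => by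
    have := congrArg (fun g : ↥(Cfsg.GU n F q) => g.1.1 0 0) h
    simp only [C.gscal_val] at this
    exact Subtype.ext (Units.ext (by simpa using this))
  let e : ↥(Cfsg.SU n F q) ≃ (C.detHom (n := n)).ker :=
    { toFun := fun A => ⟨ofSU A, Subtype.ext (Units.ext A.1.2)⟩
      invFun := fun g => ⟨⟨g.1.1.1, congrArg (fun x : C.unitOne => ((x : Fˣ) : F)) g.2⟩, by
        exact cast (congrArg (fun x => x ∈ Cfsg.GU n F q)
          (show g.1.1 = Matrix.SpecialLinearGroup.toGL ⟨g.1.1.1, _⟩ from Units.ext rfl)) g.1.2⟩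
      left_inv := fun A => rfl
      right_inv := fun g => Subtype.ext (Subtype.ext (Units.ext rfl)) }
  have h1 := Subgroup.card_mul_index (C.detHom (n := n)).ker
  have h2 := Subgroup.card_mul_index (C.indHom (n := n)).ker
  rw [Subgroup.index_ker] at h1 h2
  rw [MonoidHom.range_eq_top.2 (C.detHom_surjective (by omega)), Subgroup.card_top,
    ← Nat.card_congr e, ← h2, hk,
    ← Nat.card_congr (MonoidHom.ofInjective hscal).toEquiv, mul_comm] at h1
  have h3 := Nat.eq_of_mul_eq_mul_left Nat.card_pos h1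
  rw [← h3, Subgroup.card_eq_card_quotient_mul_card_subgroup (Subgroup.center ↥(Cfsg.SU n F q)),
    C.card_center_su hF hn, mul_comm]

end CfsgLib.SU
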