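import Mathlib

/-!
# Involutive symmetries of the norm form of a quadratic extension in characteristic two

An additive involution `L` of `F` with `N (L a) = l (N a)` for an additive map `l` of the fixed
field can only occur with `l` trivial on the fixed field.
-/

set_option autoImplicit false

namespace CfsgLib.SU.HermAut

variable {F : Type*} [Field F] [CharP F 2] (bar : F →+* F)

/-- The norm. -/
def nm (x : F) : F := x * bar x

theorem nm_mul (x y : F) : nm bar (x * y) = nm bar x * nm bar y := by
  simp only [nm, map_mul]; ring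

theorem nm_ne_zero {x : F} (hx : x ≠ 0) : nm bar x ≠ 0 :=
  mul_ne_zero hx ((map_ne_zero_iff bar bar.injective).2 hx)

theorem nm_add (x y : F) :
    nm bar (x + y) = nm bar x + nm bar y + (x * bar y + bar x * y) := by
  simp only [nm, map_add]; ring

theorem eq_of_add_eq_zero' {x y : F} (h : x + y = 0) : x = y :=
  CharTwo.add_eq_zero.1 h

variable (hbb : ∀ x, bar (bar x) = x) (hne : ∃ x, bar x ≠ x)
include hbb hne

theorem bar_nm (x : F) : bar (nm bar x) = nm bar x := by
  simp only [nm, map_mul, hbb]; ring

theorem exists_trace_one : ∃ v, v + bar v = 1 := by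
  obtain ⟨e, he⟩ := hne
  have hd : e + bar e ≠ 0 := fun h => he (eq_of_add_eq_zero' h).symm
  refine ⟨e / (e + bar e), ?_⟩
  rw [map_div₀, map_add, hbb, add_comm (bar e) e, ← add_div, div_self hd]

variable [Finite F]

/-- Norms cover the fixed field. -/
theorem exists_nm {z : F} (hz : bar z = z) : ∃ x, nm bar x = z := by
  obtain ⟨x, rfl⟩ := (FiniteField.isSquare_of_char_two (ringChar.eq F 2) z)
  rw [map_mul, mul_self_eq_mul_self_iff] at hz
  refine ⟨x, ?_⟩
  rcases hz with h | h <;> simp [nm, h, CharTwo.neg_eq]

/-- The main statement. -/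
theorem eq_id_of_involution (L l : F → F) (hLadd : ∀ a b, L (a + b) = L a + L b)
    (hLL : ∀ a, L (L a) = a)
    (hladd : ∀ a b, bar a = a → bar b = b → l (a + b) = l a + l b)
    (hN : ∀ a, nm bar (L a) = l (nm bar a)) :
    ∀ z, bar z = z → l z = z := by
  classical
  have hL0 : L 0 = 0 := by
    have := hLadd 0 0
    rw [add_zero] at this
    exact (left_eq_add.1 this)
  -- a fixed point
  obtain ⟨a₀, ha₀, hfix⟩ : ∃ a, a ≠ 0 ∧ L a = a := by
    by_cases h : ∃ a, a + L a ≠ 0
    · obtain ⟨a, ha⟩ := h
      exact ⟨_, ha, by rw [hLadd, hLL, add_comm]⟩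
    · push Not at h
      exact ⟨1, one_ne_zero, (eq_of_add_eq_zero' (h 1)).symm⟩
  set c := nm bar a₀ with hcdef
  have hc : c ≠ 0 := nm_ne_zero bar ha₀
  have hbc : bar c = c := bar_nm bar hbb hne a₀
  -- normalisation
  let M : F → F := fun x => L (a₀ * x) / a₀
  let s : F → F := fun z => l (c * z) / c
  have hMadd : ∀ a b, M (a + b) = M a + M b := fun a b => by
    simp only [M, mul_add, hLadd, add_div]
  have hM1 : M 1 = 1 := by simp [M, hfix, ha₀]
  have hMM : ∀ a, M (M a) = a := fun a => by
    show L (a₀ * (L (a₀ * a) / a₀)) / a₀ = a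
    rw [mul_div_cancel₀ _ ha₀, hLL, mul_div_cancel_left₀ _ ha₀]
  have hMN : ∀ x, nm bar (M x) = s (nm bar x) := by
    intro x
    show nm bar (L (a₀ * x) / a₀) = l (c * nm bar x) / c
    rw [← nm_mul, ← hN, div_eq_mul_inv, nm_mul, div_eq_mul_inv]
    congr 1
    simp only [hcdef, nm, map_inv₀, mul_inv]
  have hsadd : ∀ a b, bar a = a → bar b = b → s (a + b) = s a + s b := fun a b ha hb => by
    simp only [s, mul_add, hladd (c * a) (c * b) (by rw [map_mul, hbc, ha]) (by rw [map_mul, hbc, hb]),
      add_div]
  have hsK : ∀ z, bar z = z → bar (s z) = s z := fun z hz => by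
    obtain ⟨x, rfl⟩ := exists_nm bar hbb hne hz
    rw [← hMN, bar_nm bar hbb hne]
  have hss : ∀ z, bar z = z → s (s z) = z := fun z hz => by
    obtain ⟨x, rfl⟩ := exists_nm bar hbb hne hz
    rw [← hMN, ← hMN, hMM]
  have hbN : ∀ x, bar (nm bar x) = nm bar x := bar_nm bar hbb hne
  have hB : ∀ x y, M x * bar (M y) + bar (M x) * M y = s (x * bar y + bar x * y) := by
    intro x y
    have hxy : bar (x * bar y + bar x * y) = x * bar y + bar x * y := by
      simp only [map_add, map_mul, hbb]; ring
    have h := hMN (x + y)
    rw [hMadd, nm_add, nm_add, hsadd _ _ (by rw [map_add, hbN, hbN]) hxy, hsadd _ _ (hbN x) (hbN y),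
      ← hMN, ← hMN] at h
    exact add_left_cancel h
  have htr : ∀ x, M x + bar (M x) = s (x + bar x) := fun x => by
    have := hB x 1
    simpa [hM1] using this
  have hs1 : s 1 = 1 := by
    have := hMN 1
    simpa [nm, hM1] using this.symm
  have hs0 : s 0 = 0 := by
    have := hsadd 0 0 (map_zero _) (map_zero _)
    rw [add_zero] at this
    exact left_eq_add.1 this
  have hMK : ∀ a, bar a = a → bar (M a) = M a := fun a ha => by
    have h := htr a
    rw [ha, CharTwo.add_self_eq_zero, hs0] at h
    exact (eq_of_add_eq_zero' h).symm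
  obtain ⟨w, hw⟩ := exists_trace_one bar hbb hne
  have hsmul : ∀ a b, bar a = a → bar b = b → M a * s b = s (a * b) := by
    intro a b ha hb
    have hwb : b * w + bar (b * w) = b := by rw [map_mul, hb, ← mul_add, hw, mul_one]
    have h := hB a (b * w)
    rw [hMK a ha, ha, ← mul_add, ← mul_add, add_comm (bar (M (b * w))), add_comm (bar (b * w)),
      htr, hwb] at h
    exact h
  have hMs : ∀ a, bar a = a → M a = s a := fun a ha => by
    have := hsmul a 1 ha (map_one _)
    rwa [hs1, mul_one, mul_one] at this
  have hmul : ∀ a b, bar a = a → bar b = b → s (a * b) = s a * s b := fun a b ha hb => by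
    rw [← hsmul a b ha hb, hMs a ha]
  have key : ∀ z, bar z = z → s z = z := by
    by_contra hno
    push Not at hno
    obtain ⟨e, he, hes⟩ := hno
    -- an element of relative trace one for `s`
    set d := e + s e with hd
    have hd0 : d ≠ 0 := fun h => hes (eq_of_add_eq_zero' h).symm
    have hdK : bar d = d := by rw [hd, map_add, he, hsK e he]
    have hsd : s d = d := by rw [hd, hsadd _ _ he (hsK e he), hss e he, add_comm]
    have hdiK : bar d⁻¹ = d⁻¹ := by rw [map_inv₀, hdK]
    have hsdi : s d⁻¹ = d⁻¹ := by
      have h := hmul d d⁻¹ hdK hdiK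
      rw [mul_inv_cancel₀ hd0, hs1, hsd] at h
      exact eq_inv_of_mul_eq_one_right h.symm
    set v := e * d⁻¹ with hv
    have hvK : bar v = v := by rw [hv, map_mul, he, hdiK]
    have hvs : v + s v = 1 := by
      rw [hv, hmul _ _ he hdiK, hsdi, ← add_mul, ← hd, mul_inv_cancel₀ hd0]
    -- the image of a trace one element
    set y := M w with hy
    have hyt : y + bar y = 1 := by rw [hy, htr, hw, hs1]
    set r := y + w with hr
    have hrK : bar r = r := by
      refine (eq_of_add_eq_zero' ?_).symm
      rw [hr, map_add, show y + w + (bar y + bar w) = (y + bar y) + (w + bar w) by ring, hyt, hw,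
        CharTwo.add_self_eq_zero]
    have hyr : y = r + w := by
      rw [hr, add_assoc, CharTwo.add_self_eq_zero, add_zero]
    have hsr : s r = r := by
      have h1 : M y = s r + y := by
        conv_lhs => rw [hyr]
        rw [hMadd, hMs r hrK, ← hy]
      rw [hy, hMM, ← hy, hyr, ← add_assoc] at h1
      have h2 : s r + r = 0 := by
        have := congrArg (fun t => t + w) h1
        simp only [CharTwo.add_self_eq_zero, add_assoc, add_zero] at this
        exact this.symm
      exact eq_of_add_eq_zero' h2
    have hnm1 : ∀ x, x + bar x = 1 → nm bar x = x * x + x := fun x hx => by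
      have : bar x = x + 1 := by
        rw [← hx, ← add_assoc, CharTwo.add_self_eq_zero, zero_add]
      rw [nm, this]; ring
    set S := nm bar w with hS
    have hSK : bar S = S := hbN w
    have hsS : s S = S + (r * r + r) := by
      rw [hS, ← hMN, hnm1 _ hw, hnm1 _ (by rw [← hy]; exact hyt), ← hy, hyr]
      linear_combination (r * w) * (CharTwo.two_eq_zero : (2 : F) = 0)
    -- move `S` into the fixed field of `s`
    set u := r * v with hu
    have huK : bar u = u := by rw [hu, map_mul, hrK, hvK]
    have hus : u + s u = r := by rw [hu, hmul _ _ hrK hvK, hsr, ← mul_add, hvs, mul_one]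
    have hqK : ∀ x, bar x = x → bar (x * x + x) = x * x + x := fun x hx => by simp [hx]
    have hqs : ∀ x, bar x = x → s (x * x + x) = s x * s x + s x := fun x hx => by
      rw [hsadd _ _ (by simp [hx]) hx, hmul _ _ hx hx]
    set S' := S + (u * u + u) with hS'
    have hS'K : bar S' = S' := by rw [hS', map_add, hSK, hqK u huK]
    have hsS' : s S' = S' := by
      have hsu : s u = u + r := by rw [← hus, ← add_assoc, CharTwo.add_self_eq_zero, zero_add]
      rw [hS', hsadd _ _ hSK (hqK u huK), hsS, hqs u huK, hsu]
      linear_combination (r * r + r + u * r) * (CharTwo.two_eq_zero : (2 : F) = 0)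
    -- the fixed field of `s` consists of values of `x ↦ x² + x`
    obtain ⟨x, hxK, hx⟩ : ∃ x, bar x = x ∧ x * x + x = S' := by
      letI := Fintype.ofFinite F
      let k₀ := {x : F // bar x = x ∧ s x = x}
      let D := k₀ × Bool
      let g : D → F := fun p => p.1.1 + if p.2 then v else 0
      have hgK : ∀ p, bar (g p) = g p := fun p => by
        simp only [g]; split <;> simp [p.1.2.1, hvK]
      have hsv : s v = v + 1 := by rw [← hvs, ← add_assoc, CharTwo.add_self_eq_zero, zero_add]
      have hgq : ∀ p, s (g p * g p + g p) = g p * g p + g p := by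
        intro p
        rw [hqs _ (hgK p)]
        simp only [g]
        rcases p.2
        · simp [p.1.2.2]
        · simp only [if_true, hsadd _ _ p.1.2.1 hvK, p.1.2.2, hsv]
          linear_combination (p.1.1 + v + 1) * (CharTwo.two_eq_zero : (2 : F) = 0)
      let Q : D → k₀ := fun p => ⟨g p * g p + g p, hqK _ (hgK p), hgq p⟩
      have hgi : Function.Injective g := by
        rintro ⟨a, i⟩ ⟨b, j⟩ h
        simp only [g] at h
        have h' : s (g ⟨a, i⟩) = s (g ⟨b, j⟩) := congrArg s h
        simp only [g] at h'
        cases i <;> cases j <;> simp only [if_true, Bool.false_eq_true, if_false, add_zero] at h h'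
        · exact Prod.ext (Subtype.ext h) rfl
        · exfalso
          rw [hsadd _ _ b.2.1 hvK, a.2.2, b.2.2, hsv, ← add_assoc, ← h] at h'
          exact one_ne_zero (left_eq_add.1 h')
        · exfalso
          rw [hsadd _ _ a.2.1 hvK, a.2.2, b.2.2, hsv, ← add_assoc, h] at h'
          exact one_ne_zero (left_eq_add.1 h'.symm)
        · exact Prod.ext (Subtype.ext (add_right_cancel h)) rfl
      have hfib : ∀ z : k₀, (Finset.univ.filter fun p => Q p = z).card ≤ 2 := by
        intro z
        by_cases hz : ∃ p, Q p = z
        · obtain ⟨p₀, hp₀⟩ := hz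
          have hsub : (Finset.univ.filter fun p => Q p = z).image g ⊆ {g p₀, g p₀ + 1} := by
            intro t ht
            obtain ⟨p, hp, rfl⟩ := Finset.mem_image.1 ht
            have h := (Finset.mem_filter.1 hp).2.trans hp₀.symm
            have h' : g p * g p + g p = g p₀ * g p₀ + g p₀ := congrArg Subtype.val h
            have hf : (g p + g p₀) * (g p + g p₀ + 1) = 0 := by
              linear_combination h' +
                (g p * g p₀ + g p₀ * g p₀ + g p₀) * (CharTwo.two_eq_zero : (2 : F) = 0)
            rcases mul_eq_zero.1 hf with e | e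
            · simp [eq_of_add_eq_zero' e]
            · rw [add_assoc] at e; simp [eq_of_add_eq_zero' e]
          have := (Finset.card_le_card hsub).trans Finset.card_le_two
          rwa [Finset.card_image_of_injective _ hgi] at this
        · push Not at hz
          simp [Finset.filter_eq_empty_iff.2 (fun p _ => hz p)]
      have hcard : Fintype.card k₀ ≤ (Finset.univ.image Q).card := by
        have h1 := Finset.card_le_mul_card_image (Finset.univ : Finset D) 2 (f := Q) fun z _ => hfib z
        rw [Finset.card_univ, Fintype.card_prod, Fintype.card_bool] at h1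
        omega
      have hsurj : Finset.univ.image Q = Finset.univ :=
        Finset.eq_univ_of_card _ (le_antisymm (Finset.card_le_univ _) hcard)
      obtain ⟨p, -, hp⟩ := Finset.mem_image.1 (hsurj ▸ Finset.mem_univ (⟨S', hS'K, hsS'⟩ : k₀))
      exact ⟨g p, hgK p, congrArg Subtype.val hp⟩
    -- contradiction
    have hf : (w + (x + u)) * (w + (x + u) + 1) = 0 := by
      have e1 : w * w + w = S := (hnm1 w hw).symm
      have e2 : x * x + x = S + (u * u + u) := hx
      linear_combination e1 + e2 + (w * x + w * u + x * u + u * u + u + S) *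
        (CharTwo.two_eq_zero : (2 : F) = 0)
    have hwK : bar w = w := by
      rcases mul_eq_zero.1 hf with h | h
      · rw [eq_of_add_eq_zero' h]; simp [hxK, huK]
      · rw [add_assoc] at h
        rw [eq_of_add_eq_zero' h]; simp [hxK, huK]
    rw [hwK, CharTwo.add_self_eq_zero] at hw
    exact zero_ne_one hw
  intro z hz
  have h := key (z / c) (by rw [map_div₀, hz, hbc])
  simp only [s, mul_div_cancel₀ _ hc] at h
  exact (div_left_inj' hc).1 h

/-- No symmetry of order three preserves the norm, when three is prime to `|k| + 1`. -/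
theorem eq_id_of_three (L : F → F) (hLadd : ∀ a b, L (a + b) = L a + L b)
    (hL3 : ∀ a, L (L (L a)) = a) (hN : ∀ a, nm bar (L a) = nm bar a)
    (hu : ∀ u : F, u ^ 3 = 1 → u * bar u = 1 → u = 1) : ∀ a, L a = a := by
  set u := L 1 with hudef
  have hu1 : u * bar u = 1 := by have := hN 1; simpa [nm] using this
  have hu0 : u ≠ 0 := left_ne_zero_of_mul_eq_one hu1
  let M : F → F := fun x => L x / u
  have hMN : ∀ x, nm bar (M x) = nm bar x := fun x => by
    show nm bar (L x / u) = nm bar x
    rw [div_eq_mul_inv, nm_mul, hN]
    have : nm bar u⁻¹ = 1 := by simp only [nm, map_inv₀, ← mul_inv, hu1, inv_one]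
    rw [this, mul_one]
  have hM1 : M 1 = 1 := div_self hu0
  have hMadd : ∀ a b, M (a + b) = M a + M b := fun a b => by simp only [M, hLadd, add_div]
  have hM : ∀ x, M x = x ∨ M x = bar x := by
    intro x
    have h1 := hMN (x + 1)
    rw [hMadd, hM1, nm_add, nm_add, hMN] at h1
    have h2 : M x + bar (M x) = x + bar x := by simpa using h1
    have hn : M x * bar (M x) = x * bar x := hMN x
    have h3 : (M x + x) * (M x + bar x) = 0 := by
      have h2' : bar (M x) = x + bar x + M x := by
        rw [← h2, add_comm (M x), add_assoc, CharTwo.add_self_eq_zero, add_zero]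
      rw [h2'] at hn
      linear_combination hn + (x * bar x) * (CharTwo.two_eq_zero : (2 : F) = 0)
    rcases mul_eq_zero.1 h3 with h | h
    · exact Or.inl (eq_of_add_eq_zero' h)
    · exact Or.inr (eq_of_add_eq_zero' h)
  have hall : (∀ x, M x = x) ∨ ∀ x, M x = bar x := by
    by_contra hno
    push Not at hno
    obtain ⟨⟨a, ha⟩, b, hb⟩ := hno
    have ha' := (hM a).resolve_left ha
    have hb' := (hM b).resolve_right hb
    have hab := hMadd a b
    rw [ha', hb'] at hab
    rcases hM (a + b) with h | h <;> rw [h] at hab
    · exact ha (ha'.trans (add_right_cancel hab).symm)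
    · rw [map_add] at hab
      exact hb (hb'.trans (add_left_cancel hab).symm)
  have hLM : ∀ x, L x = u * M x := fun x => (mul_div_cancel₀ _ hu0).symm
  rcases hall with h | h
  · intro a
    have h3 := hL3 1
    simp only [hLM, h, mul_one] at h3
    have : u = 1 := hu u (by rw [pow_succ, pow_two, mul_assoc]; exact h3) hu1
    rw [hLM, h, this, one_mul]
  · exfalso
    obtain ⟨x, hx⟩ := hne
    have h3 := hL3 1
    simp only [hLM, h, map_one, mul_one, map_mul, hbb, hu1] at h3
    have hx3 := hL3 x
    simp only [hLM, h, map_mul, hbb, h3] at hx3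
    apply hx
    simpa [h3] using hx3

end CfsgLib.SU.HermAut
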