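import Mathlib
import Cfsg.Agent.Lib.SU.HermAut
import Cfsg.Agent.Lib.Classical.HermOrder

/-!
# Coordinates on the Sylow 2-subgroups of `SU₃(2ⁿ)` and `PSU₃(2ⁿ)`
-/

set_option autoImplicit false
set_option linter.style.haveILetI false

open scoped commutatorElement

namespace CfsgLib.SU

open Matrix HermAut

/-- Coordinates `x ↦ (π x, τ x)` with `τ + bar τ + π (bar π) = 0`. -/
structure Unital (T : Type*) [Group T] (F : Type*) [Field F] where
  bar : F →+* F
  bar_bar : ∀ x, bar (bar x) = x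
  exists_ne : ∃ x, bar x ≠ x
  pi : T → F
  tau : T → F
  cond : ∀ x, tau x + bar (tau x) + nm bar (pi x) = 0
  pi_mul : ∀ x y, pi (x * y) = pi x + pi y
  tau_mul : ∀ x y, tau (x * y) = tau x + tau y + pi y * bar (pi x)
  coord_ext : ∀ x y, pi x = pi y → tau x = tau y → x = y
  exists_coord : ∀ a t, t + bar t + nm bar a = 0 → ∃ x, pi x = a ∧ tau x = t

namespace Unital

variable {T T' : Type*} [Group T] [Group T'] {F : Type*} [Field F] (U : Unital T F)

/-- Transport along an isomorphism. -/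
def congr (e : T' ≃* T) : Unital T' F where
  bar := U.bar
  bar_bar := U.bar_bar
  exists_ne := U.exists_ne
  pi x := U.pi (e x)
  tau x := U.tau (e x)
  cond x := U.cond (e x)
  pi_mul x y := by rw [map_mul, U.pi_mul]
  tau_mul x y := by rw [map_mul, U.tau_mul]
  coord_ext x y h h' := e.injective (U.coord_ext _ _ h h')
  exists_coord a t h := by
    obtain ⟨x, h1, h2⟩ := U.exists_coord a t h
    exact ⟨e.symm x, by simpa using h1, by simpa using h2⟩

theorem pi_one : U.pi 1 = 0 := by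
  have := U.pi_mul 1 1
  rw [mul_one] at this
  exact left_eq_add.1 this

theorem tau_one : U.tau 1 = 0 := by
  have := U.tau_mul 1 1
  rw [mul_one, U.pi_one, zero_mul, add_zero] at this
  exact left_eq_add.1 this

variable [CharP F 2]

theorem pi_inv (x : T) : U.pi x⁻¹ = U.pi x := by
  have h := U.pi_mul x⁻¹ x
  rw [inv_mul_cancel, U.pi_one] at h
  exact eq_of_add_eq_zero' h.symm

theorem pi_mul_self (x : T) : U.pi (x * x) = 0 := by
  rw [U.pi_mul, CharTwo.add_self_eq_zero]

theorem tau_mul_self (x : T) : U.tau (x * x) = nm U.bar (U.pi x) := by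
  rw [U.tau_mul, CharTwo.add_self_eq_zero, zero_add]; rfl

theorem pi_conj (s x : T) : U.pi (s * x * s⁻¹) = U.pi x := by
  rw [U.pi_mul, U.pi_mul, U.pi_inv, add_right_comm, CharTwo.add_self_eq_zero, zero_add]

theorem exists_pi (a : F) : ∃ x, U.pi x = a := by
  obtain ⟨v, hv⟩ := exists_trace_one U.bar U.bar_bar U.exists_ne
  obtain ⟨x, hx, -⟩ := U.exists_coord a (v * nm U.bar a) (by
    rw [map_mul, bar_nm U.bar U.bar_bar U.exists_ne, ← add_mul, hv, one_mul,
      CharTwo.add_self_eq_zero])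
  exact ⟨x, hx⟩

theorem tau_fixed {z : T} (hz : U.pi z = 0) : U.bar (U.tau z) = U.tau z := by
  have h := U.cond z
  rw [hz] at h
  simp only [nm, zero_mul, add_zero] at h
  exact (eq_of_add_eq_zero' h).symm

theorem exists_tau {k : F} (hk : U.bar k = k) : ∃ z, U.pi z = 0 ∧ U.tau z = k :=
  U.exists_coord 0 k (by rw [hk, CharTwo.add_self_eq_zero]; simp [nm])

theorem mem_center_iff {x : T} : x ∈ Subgroup.center T ↔ U.pi x = 0 := by
  rw [Subgroup.mem_center_iff]
  constructor
  · intro h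
    have key : ∀ b, U.pi x * U.bar b = b * U.bar (U.pi x) := fun b => by
      obtain ⟨y, rfl⟩ := U.exists_pi b
      have h1 := congrArg U.tau (h y)
      rw [U.tau_mul, U.tau_mul, add_comm (U.tau y) (U.tau x)] at h1
      exact add_left_cancel h1
    have h1 := key 1
    rw [map_one, mul_one, one_mul] at h1
    obtain ⟨b, hb⟩ := U.exists_ne
    have h2 := key b
    rw [← h1, mul_comm b] at h2
    by_contra hne
    exact hb (mul_left_cancel₀ hne h2)
  · intro hx y
    refine U.coord_ext _ _ (by rw [U.pi_mul, U.pi_mul, add_comm]) ?_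
    rw [U.tau_mul, U.tau_mul, hx, map_zero, mul_zero, zero_mul, add_comm (U.tau y)]

theorem mul_self_eq_one_iff {x : T} : x * x = 1 ↔ U.pi x = 0 := by
  constructor
  · intro h
    have h1 := U.tau_mul_self x
    rw [h, U.tau_one] at h1
    by_contra hne
    exact nm_ne_zero U.bar hne h1.symm
  · intro h
    refine U.coord_ext _ _ (by rw [U.pi_mul_self, U.pi_one]) ?_
    rw [U.tau_mul_self, h, U.tau_one]
    simp [nm]

theorem mem_commutator_iff {x : T} : x ∈ commutator T ↔ U.pi x = 0 := by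
  constructor
  · intro hx
    have : commutator T ≤ Subgroup.center T := by
      rw [_root_.commutator_def, Subgroup.commutator_le]
      intro a _ b _
      rw [U.mem_center_iff, commutatorElement_def, U.pi_mul, U.pi_mul, U.pi_mul, U.pi_inv, U.pi_inv]
      linear_combination (U.pi a + U.pi b) * (CharTwo.two_eq_zero : (2 : F) = 0)
    exact U.mem_center_iff.1 (this hx)
  · intro hx
    obtain ⟨v, hv⟩ := exists_trace_one U.bar U.bar_bar U.exists_ne
    obtain ⟨a, ha⟩ := U.exists_pi (U.tau x * v)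
    obtain ⟨b, hb⟩ := U.exists_pi 1
    have hmem : ⁅a, b⁆ ∈ commutator T := by
      rw [_root_.commutator_def]
      exact Subgroup.commutator_mem_commutator trivial trivial
    have hpc : U.pi ⁅a, b⁆ = 0 := by
      rw [commutatorElement_def, U.pi_mul, U.pi_mul, U.pi_mul, U.pi_inv, U.pi_inv]
      linear_combination (U.pi a + U.pi b) * (CharTwo.two_eq_zero : (2 : F) = 0)
    have heq : a * b = ⁅a, b⁆ * (b * a) := by rw [commutatorElement_def]; group
    have h1 := congrArg U.tau heq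
    rw [U.tau_mul, U.tau_mul ⁅a, b⁆, hpc, map_zero, mul_zero, add_zero, U.tau_mul, ha, hb, map_one,
      map_mul, U.tau_fixed hx, one_mul] at h1
    have h2 : U.tau ⁅a, b⁆ = U.tau x := by
      linear_combination -h1 + (U.tau x) * hv +
        (-(U.tau x * v)) * (CharTwo.two_eq_zero : (2 : F) = 0)
    rwa [← U.coord_ext _ _ (hpc.trans hx.symm) h2]

/-- The induced map on the first coordinate. -/
noncomputable def lmap (α : T ≃* T) (a : F) : F := U.pi (α (U.exists_pi a).choose)

theorem pi_apply (α : T ≃* T) (x : T) : U.pi (α x) = U.lmap α (U.pi x) := by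
  set y := (U.exists_pi (U.pi x)).choose
  have hy : U.pi y = U.pi x := (U.exists_pi (U.pi x)).choose_spec
  have hc : x * y⁻¹ ∈ Subgroup.center T := by
    rw [U.mem_center_iff, U.pi_mul, U.pi_inv, hy, CharTwo.add_self_eq_zero]
  have hc' : α (x * y⁻¹) ∈ Subgroup.center T := by
    rw [Subgroup.mem_center_iff] at hc ⊢
    intro g
    obtain ⟨g', rfl⟩ := α.surjective g
    rw [← map_mul, ← map_mul, hc g']
  have h := U.mem_center_iff.1 hc'
  rw [map_mul, map_inv, U.pi_mul, U.pi_inv] at h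
  exact eq_of_add_eq_zero' h

theorem pi_apply_zero (α : T ≃* T) {z : T} (hz : U.pi z = 0) : U.pi (α z) = 0 := by
  rw [← U.mem_center_iff] at hz ⊢
  rw [Subgroup.mem_center_iff] at hz ⊢
  intro g
  obtain ⟨g', rfl⟩ := α.surjective g
  rw [← map_mul, ← map_mul, hz g']

theorem lmap_add (α : T ≃* T) (a b : F) : U.lmap α (a + b) = U.lmap α a + U.lmap α b := by
  obtain ⟨x, rfl⟩ := U.exists_pi a
  obtain ⟨y, rfl⟩ := U.exists_pi b
  rw [← U.pi_mul, ← U.pi_apply, ← U.pi_apply, ← U.pi_apply, map_mul, U.pi_mul]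

open scoped _root_.Classical in
/-- The induced map on the centre. -/
noncomputable def zmap (α : T ≃* T) (k : F) : F :=
  if h : U.bar k = k then U.tau (α (U.exists_tau h).choose) else 0

theorem tau_apply (α : T ≃* T) {z : T} (hz : U.pi z = 0) :
    U.tau (α z) = U.zmap α (U.tau z) := by
  have hk := U.tau_fixed hz
  rw [zmap, dif_pos hk]
  have h := (U.exists_tau hk).choose_spec
  exact congrArg (fun y => U.tau (α y)) (U.coord_ext z _ (hz.trans h.1.symm) h.2.symm)

theorem zmap_add (α : T ≃* T) (a b : F) (ha : U.bar a = a) (hb : U.bar b = b) :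
    U.zmap α (a + b) = U.zmap α a + U.zmap α b := by
  obtain ⟨x, hx, rfl⟩ := U.exists_tau ha
  obtain ⟨y, hy, rfl⟩ := U.exists_tau hb
  have h1 : U.tau (x * y) = U.tau x + U.tau y := by rw [U.tau_mul, hy, zero_mul, add_zero]
  have h2 : U.pi (x * y) = 0 := by rw [U.pi_mul, hx, hy, add_zero]
  rw [← h1, ← U.tau_apply α h2, ← U.tau_apply α hx, ← U.tau_apply α hy, map_mul, U.tau_mul,
    U.pi_apply_zero α hy, zero_mul, add_zero]

theorem nm_lmap (α : T ≃* T) (a : F) : nm U.bar (U.lmap α a) = U.zmap α (nm U.bar a) := by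
  obtain ⟨x, rfl⟩ := U.exists_pi a
  rw [← U.pi_apply, ← U.tau_mul_self, ← U.tau_mul_self, ← U.tau_apply α (U.pi_mul_self x), map_mul]

variable [Finite F]

/-- An automorphism that squares to an inner automorphism fixes the centre. -/
theorem fix_center (α : T ≃* T) (h : ∀ x, U.pi (α (α x)) = U.pi x) {z : T}
    (hz : z ∈ Subgroup.center T) : α z = z := by
  rw [U.mem_center_iff] at hz
  refine U.coord_ext _ _ ((U.pi_apply_zero α hz).trans hz.symm) ?_
  rw [U.tau_apply α hz]
  refine eq_id_of_involution U.bar U.bar_bar U.exists_ne (U.lmap α) (U.zmap α) (U.lmap_add α)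
    (fun a => ?_) (U.zmap_add α) (U.nm_lmap α) _ (U.tau_fixed hz)
  obtain ⟨x, rfl⟩ := U.exists_pi a
  rw [← U.pi_apply, ← U.pi_apply, h]

/-- An automorphism of order three that is trivial on the centre. -/
theorem eq_refl_of_three (α : T ≃* T) (h3 : ∀ x, α (α (α x)) = x)
    (hu : ∀ u : F, u ^ 3 = 1 → u * U.bar u = 1 → u = 1)
    (hz : ∀ z ∈ Subgroup.center T, α z = z) (x : T) : α x = x := by
  have hl : ∀ k, U.bar k = k → U.zmap α k = k := fun k hk => by
    obtain ⟨z, h0, rfl⟩ := U.exists_tau hk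
    rw [← U.tau_apply α h0, hz z (U.mem_center_iff.2 h0)]
  have hpi : U.pi (α x) = U.pi x := by
    rw [U.pi_apply]
    refine eq_id_of_three U.bar U.bar_bar U.exists_ne (U.lmap α) (U.lmap_add α) (fun a => ?_)
      (fun a => ?_) hu _
    · obtain ⟨y, rfl⟩ := U.exists_pi a
      rw [← U.pi_apply, ← U.pi_apply, ← U.pi_apply, h3]
    · rw [U.nm_lmap, hl _ (bar_nm U.bar U.bar_bar U.exists_ne a)]
  set c := x⁻¹ * α x with hc
  have hc0 : U.pi c = 0 := by rw [hc, U.pi_mul, U.pi_inv, hpi, CharTwo.add_self_eq_zero]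
  have hcz : α c = c := hz c (U.mem_center_iff.2 hc0)
  have hx : α x = x * c := by rw [hc, mul_inv_cancel_left]
  have h := h3 x
  rw [hx, map_mul, hx, hcz, map_mul, map_mul, hx, hcz] at h
  have hcc : c * c = 1 := U.mul_self_eq_one_iff.2 hc0
  simp only [mul_assoc] at h
  rw [hcc, mul_one] at h
  rw [hx]
  exact h

end Unital

section cards

variable {T : Type*} [Group T] {F : Type*} [Field F] [CharP F 2] [Finite F] (U : Unital T F)

theorem card_fixed_sq {bar : F →+* F} (hbb : ∀ x, bar (bar x) = x) (hne : ∃ x, bar x ≠ x) :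
    Nat.card {k : F // bar k = k} ^ 2 = Nat.card F := by
  let g : F →+ F := AddMonoidHom.id F + bar.toAddMonoidHom
  have hker : ∀ x, x ∈ g.ker ↔ bar x = x := fun x => by
    rw [AddMonoidHom.mem_ker]
    exact ⟨fun h => (eq_of_add_eq_zero' h).symm, fun h => by
      show x + bar x = 0
      rw [h, CharTwo.add_self_eq_zero]⟩
  have hrange : ∀ x, x ∈ g.range ↔ bar x = x := fun x => by
    constructor
    · rintro ⟨y, rfl⟩
      show bar (y + bar y) = y + bar y
      rw [map_add, hbb, add_comm]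
    · intro h
      obtain ⟨v, hv⟩ := exists_trace_one bar hbb hne
      refine ⟨x * v, ?_⟩
      show x * v + bar (x * v) = x
      rw [map_mul, h, ← mul_add, hv, mul_one]
  have h1 := AddSubgroup.card_mul_index g.ker
  rw [AddSubgroup.index_ker, Nat.card_congr (Equiv.subtypeEquivRight hker),
    Nat.card_congr (Equiv.subtypeEquivRight hrange), ← sq] at h1
  exact h1

include U in
theorem Unital.card_center : Nat.card (Subgroup.center T) = Nat.card {k : F // U.bar k = k} := by
  refine Nat.card_eq_of_bijective (fun z => ⟨U.tau z.1, U.tau_fixed (U.mem_center_iff.1 z.2)⟩)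
    ⟨fun a b h => Subtype.ext (U.coord_ext _ _ ?_ (congrArg Subtype.val h)), fun k => ?_⟩
  · rw [U.mem_center_iff.1 a.2, U.mem_center_iff.1 b.2]
  · obtain ⟨z, hz, hk⟩ := U.exists_tau k.2
    exact ⟨⟨z, U.mem_center_iff.2 hz⟩, Subtype.ext hk⟩

include U in
theorem Unital.card_quotient : Nat.card (T ⧸ Subgroup.center T) = Nat.card F := by
  refine Nat.card_eq_of_bijective (Quotient.lift U.pi fun a b h => ?_) ⟨fun a b => ?_, fun a => ?_⟩
  · have := U.mem_center_iff.1 (QuotientGroup.leftRel_apply.1 h)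
    rw [U.pi_mul, U.pi_inv] at this
    exact eq_of_add_eq_zero' this
  · refine Quotient.inductionOn₂ a b fun a b h => Quotient.sound ?_
    show QuotientGroup.leftRel _ a b
    rw [QuotientGroup.leftRel_apply, U.mem_center_iff, U.pi_mul, U.pi_inv,
      show U.pi a = U.pi b from h, CharTwo.add_self_eq_zero]
  · obtain ⟨x, rfl⟩ := U.exists_pi a
    exact ⟨⟦x⟧, rfl⟩

include U in
theorem Unital.card_eq {q : ℕ} (hF : Nat.card F = q ^ 2) : Nat.card T = q ^ 3 := by
  have h := card_fixed_sq U.bar_bar U.exists_ne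
  rw [hF] at h
  rw [Subgroup.card_eq_card_quotient_mul_card_subgroup (Subgroup.center T), U.card_quotient,
    U.card_center, hF, Nat.pow_left_injective two_ne_zero h]
  ring

include U in
theorem Unital.card_center_eq {q : ℕ} (hF : Nat.card F = q ^ 2) :
    Nat.card (Subgroup.center T) = q := by
  rw [U.card_center]
  have h := card_fixed_sq U.bar_bar U.exists_ne
  rw [hF] at h
  exact Nat.pow_left_injective two_ne_zero h

end cards

section sylow

variable {F : Type*} [Field F] [Fintype F] [CharP F 2] {q : ℕ} (C : UCtx F q)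

theorem UPair.exists_unital (P : UPair C 3) :
    ∃ U : Unital P.eichGroup F, ∀ x, U.bar x = x ^ q := by
  obtain ⟨u, hu, huu, hub⟩ := P.exists_basis
  haveI : Subsingleton (Fin (3 - 2)) := inferInstanceAs (Subsingleton (Fin 1))
  set u₀ := u 0 with hu₀
  have h00 : C.form u₀ u₀ = 1 := by rw [hu₀, huu, if_pos rfl]
  have hperp : ∀ w ∈ P.perp, w = C.form w u₀ • u₀ := fun w hw => by
    conv_lhs => rw [hub w hw]
    exact Fintype.sum_subsingleton _ _
  have hform : ∀ w ∈ P.perp, ∀ w' ∈ P.perp,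
      C.form w w' = C.form w u₀ * C.bar (C.form w' u₀) := fun w hw w' hw' => by
    conv_lhs => rw [hperp w hw, hperp w' hw']
    rw [C.form_smul_left, C.form_smul_right, h00, mul_one]
  let pi : P.eichGroup → F := fun X => C.form (X.1.1.1 *ᵥ P.f) u₀
  let tau : P.eichGroup → F := fun X => C.form (X.1.1.1 *ᵥ P.f) P.f
  have hval : ∀ w hw t ht, pi ⟨P.eich w hw t ht, P.eich_mem w hw t ht⟩ = C.form w u₀ ∧
      tau ⟨P.eich w hw t ht, P.eich_mem w hw t ht⟩ = t := fun w hw t ht => by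
    constructor
    · show C.form ((P.eich w hw t ht).1.1 *ᵥ P.f) u₀ = _
      rw [P.eich_f, C.form_add_left, C.form_add_left, C.form_smul_left,
        C.form_swap_zero (hu 0).2, C.form_swap_zero (hu 0).1]
      simp
    · show C.form ((P.eich w hw t ht).1.1 *ᵥ P.f) P.f = _
      rw [P.eich_f, C.form_add_left, C.form_add_left, C.form_smul_left, P.ff, P.ef, hw.2]
      simp
  refine ⟨⟨C.bar.toRingHom, C.bar_bar, C.exists_not_fixed, pi, tau, ?_, ?_, ?_, ?_, ?_⟩, C.bar_eq⟩
  · rintro ⟨_, w, hw, t, ht, rfl⟩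
    rw [(hval w hw t ht).1, (hval w hw t ht).2]
    exact (congrArg (t + C.bar t + ·) (hform w hw w hw).symm).trans ht
  · rintro ⟨_, w, hw, t, ht, rfl⟩ ⟨_, w', hw', t', ht', rfl⟩
    rw [(hval w hw t ht).1, (hval w' hw' t' ht').1,
      show (⟨P.eich w hw t ht, P.eich_mem w hw t ht⟩ : P.eichGroup) *
          ⟨P.eich w' hw' t' ht', P.eich_mem w' hw' t' ht'⟩ =
        ⟨_, P.eich_mem _ (P.perp.add_mem hw hw') _ (P.eich_cond_mul ht ht')⟩ from
          Subtype.ext (P.eich_mul w w' hw hw' t t' ht ht'), (hval _ _ _ _).1, C.form_add_left]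
  · rintro ⟨_, w, hw, t, ht, rfl⟩ ⟨_, w', hw', t', ht', rfl⟩
    rw [(hval w hw t ht).1, (hval w' hw' t' ht').1, (hval w hw t ht).2, (hval w' hw' t' ht').2,
      show (⟨P.eich w hw t ht, P.eich_mem w hw t ht⟩ : P.eichGroup) *
          ⟨P.eich w' hw' t' ht', P.eich_mem w' hw' t' ht'⟩ =
        ⟨_, P.eich_mem _ (P.perp.add_mem hw hw') _ (P.eich_cond_mul ht ht')⟩ from
          Subtype.ext (P.eich_mul w w' hw hw' t t' ht ht'), (hval _ _ _ _).2, hform w' hw' w hw]
    exact CharTwo.sub_eq_add _ _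
  · rintro ⟨_, w, hw, t, ht, rfl⟩ ⟨_, w', hw', t', ht', rfl⟩ h1 h2
    rw [(hval w hw t ht).1, (hval w' hw' t' ht').1] at h1
    rw [(hval w hw t ht).2, (hval w' hw' t' ht').2] at h2
    exact Subtype.ext (P.eich_congr (hw := hw) (hw' := hw') (ht := ht) (ht' := ht')
      (by rw [hperp w hw, hperp w' hw', h1]) h2)
  · intro a t ht
    have hm : a • u₀ ∈ P.perp := P.perp.smul_mem a (hu 0)
    have ha : C.form (a • u₀) u₀ = a := by rw [C.form_smul_left, h00, mul_one]
    have ht' : t + C.bar t + C.form (a • u₀) (a • u₀) = 0 := by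
      rw [hform _ hm _ hm, ha]
      exact ht
    exact ⟨⟨_, P.eich_mem _ hm t ht'⟩, (hval _ hm t ht').1.trans ha, (hval _ hm t ht').2⟩

include C in
theorem card_su_three (hF : Fintype.card F = q ^ 2) :
    Nat.card ↥(Cfsg.SU 3 F q) = q ^ 3 * ((q ^ 2 - 1) * (q ^ 3 + 1)) := by
  have h := CfsgLib.Classical.card_su_mul C hF (n := 3) (by norm_num)
  rw [CfsgLib.Classical.card_gu_formula C hF 3] at h
  simp only [Finset.prod_range_succ, Finset.prod_range_zero, one_mul, Nat.zero_add, pow_one,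
    show (3 * (3 - 1) / 2 : ℕ) = 3 from rfl, if_pos (Even.zero (α := ℕ)), if_neg Nat.not_even_one,
    if_pos even_two] at h
  refine Nat.eq_of_mul_eq_mul_left (show 0 < q + 1 by omega) (h.trans ?_)
  rw [show (q : ℕ) ^ (1 + 1) = q ^ 2 from rfl, show (q : ℕ) ^ (2 + 1) = q ^ 3 from rfl]
  ring

end sylow

/-- The Sylow 2-subgroups of a group of order `2ᵏ` times an odd number. -/
theorem card_sylow_two {G : Type*} [Group G] [Finite G] {k m : ℕ} (h : Nat.card G = 2 ^ k * m)
    (hm : Odd m) (S : Sylow 2 G) : Nat.card S = 2 ^ k := by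
  haveI : Fact (Nat.Prime 2) := ⟨Nat.prime_two⟩
  have hm0 : m ≠ 0 := by rintro rfl; simp at hm
  rw [S.card_eq_multiplicity, h, Nat.factorization_mul (by positivity) hm0, Finsupp.add_apply,
    Nat.Prime.factorization_pow Nat.prime_two, Finsupp.single_eq_same,
    Nat.factorization_eq_zero_of_not_dvd (fun hd => hm.not_two_dvd_nat hd), add_zero]

theorem odd_cofactor {q : ℕ} (hq : Even q) (h0 : q ≠ 0) : Odd ((q ^ 2 - 1) * (q ^ 3 + 1)) := by
  refine Odd.mul ?_ ?_
  · exact Nat.Even.sub_odd (Nat.one_le_pow _ _ (Nat.pos_of_ne_zero h0)) (hq.pow_of_ne_zero two_ne_zero) odd_one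
  · exact (hq.pow_of_ne_zero three_ne_zero).add_one

variable {F : Type*} [Field F] [Fintype F] [CharP F 2] {n : ℕ}

theorem unital_sylow_su (hn : 1 ≤ n) (hF : Fintype.card F = (2 ^ n) ^ 2)
    (S : Sylow 2 ↥(Cfsg.SU 3 F (2 ^ n))) :
    ∃ U : Unital ↥(S : Subgroup ↥(Cfsg.SU 3 F (2 ^ n))) F, ∀ x, U.bar x = x ^ 2 ^ n := by
  haveI : Fact (Nat.Prime 2) := ⟨Nat.prime_two⟩
  obtain ⟨C⟩ := CfsgLib.Classical.uctx_exists hF
  obtain ⟨P⟩ := C.exists_pair (n := 3) (by norm_num)
  obtain ⟨U, hU⟩ := P.exists_unital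
  have hcard : Nat.card P.eichGroup = 2 ^ (3 * n) := by
    rw [U.card_eq (q := 2 ^ n) (by rw [Nat.card_eq_fintype_card, hF]), ← pow_mul, mul_comm]
  have hsu : Nat.card ↥(Cfsg.SU 3 F (2 ^ n)) =
      2 ^ (3 * n) * (((2 ^ n) ^ 2 - 1) * ((2 ^ n) ^ 3 + 1)) := by
    rw [card_su_three C hF, ← pow_mul 2 n 3, mul_comm n 3]
  have hodd := odd_cofactor (q := 2 ^ n) (Nat.even_pow.2 ⟨even_two, by omega⟩) (by positivity)
  let P₀ : Sylow 2 ↥(Cfsg.SU 3 F (2 ^ n)) := Sylow.ofCard P.eichGroup (by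
    rw [hcard, hsu, Nat.factorization_mul (by positivity) (by
        intro h0; rw [h0] at hodd; simp at hodd), Finsupp.add_apply,
      Nat.Prime.factorization_pow Nat.prime_two, Finsupp.single_eq_same,
      Nat.factorization_eq_zero_of_not_dvd hodd.not_two_dvd_nat, add_zero])
  exact ⟨U.congr (S.equiv P₀), hU⟩

theorem unital_sylow_psu (hn : 1 ≤ n) (hF : Fintype.card F = (2 ^ n) ^ 2)
    (S : Sylow 2 (Cfsg.PSU 3 F (2 ^ n))) :
    ∃ U : Unital ↥(S : Subgroup (Cfsg.PSU 3 F (2 ^ n))) F, ∀ x, U.bar x = x ^ 2 ^ n := by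
  haveI : Fact (Nat.Prime 2) := ⟨Nat.prime_two⟩
  obtain ⟨C⟩ := CfsgLib.Classical.uctx_exists hF
  obtain ⟨P₀⟩ := (inferInstance : Nonempty (Sylow 2 ↥(Cfsg.SU 3 F (2 ^ n))))
  obtain ⟨U, hU⟩ := unital_sylow_su hn hF P₀
  let f := QuotientGroup.mk' (Subgroup.center ↥(Cfsg.SU 3 F (2 ^ n)))
  let P₁ : Sylow 2 (Cfsg.PSU 3 F (2 ^ n)) :=
    P₀.mapSurjective (f := f) (QuotientGroup.mk'_surjective _)
  have hinj : Function.Injective (f.subgroupMap P₀.1) := by
    rw [← MonoidHom.ker_eq_bot_iff, eq_bot_iff]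
    rintro ⟨x, hx⟩ hk
    have hxz : x ∈ Subgroup.center ↥(Cfsg.SU 3 F (2 ^ n)) :=
      (QuotientGroup.eq_one_iff x).1 (congrArg Subtype.val hk)
    have hcop : (Nat.card (Subgroup.center ↥(Cfsg.SU 3 F (2 ^ n)))).Coprime 2 := by
      rw [C.card_center_su hF le_rfl]
      exact (Nat.Coprime.coprime_dvd_left (Nat.gcd_dvd_left _ _) (by norm_num))
    obtain ⟨k, hk2⟩ := IsPGroup.iff_card.1 P₀.2
    have h1 : orderOf x ∣ 2 ^ k := by
      rw [← hk2, ← Subgroup.orderOf_mk x hx]
      exact orderOf_dvd_natCard _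
    have h2 : orderOf x ∣ Nat.card (Subgroup.center ↥(Cfsg.SU 3 F (2 ^ n))) := by
      rw [← Subgroup.orderOf_mk x hxz]
      exact orderOf_dvd_natCard _
    have h3 := orderOf_eq_one_iff.1 (Nat.eq_one_of_dvd_coprimes (hcop.pow_right k) h2 h1)
    exact Subtype.ext h3
  let e : ↥(P₀ : Subgroup ↥(Cfsg.SU 3 F (2 ^ n))) ≃* ↥(P₁ : Subgroup (Cfsg.PSU 3 F (2 ^ n))) :=
    MulEquiv.ofBijective (f.subgroupMap P₀.1) ⟨hinj, f.subgroupMap_surjective P₀.1⟩
  exact ⟨U.congr ((S.equiv P₁).trans e.symm), hU⟩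

end CfsgLib.SU
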