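import Cfsg.Agent.Lib.Classical.HermOrder

/-!
# Orders of semisimple unitary matrices commuting with a nontrivial unipotent one
-/

set_option autoImplicit false
set_option linter.all false

namespace CfsgLib.SU.SemisimpleCentral

open Matrix

section spectral

variable {L : Type*} [Field L] {n : ℕ} {r : ℕ} [Fact r.Prime]

variable (M : Matrix (Fin n) (Fin n) L) (ψ : AddChar (ZMod r) L)

/-- eigenspace -/
def eig (i : ZMod r) : Submodule L (Fin n → L) := LinearMap.ker (M - ψ i • (1 : Matrix (Fin n) (Fin n) L)).mulVecLin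

theorem mem_eig {i : ZMod r} {v : Fin n → L} : v ∈ eig M ψ i ↔ M *ᵥ v = ψ i • v := by
  rw [eig, LinearMap.mem_ker, Matrix.mulVecLin_apply, Matrix.sub_mulVec, Matrix.smul_mulVec, Matrix.one_mulVec, sub_eq_zero]

/-- projection on the eigenspace -/
def proj (i : ZMod r) : (Fin n → L) →ₗ[L] (Fin n → L) :=
  (r : L)⁻¹ • ∑ j : ZMod r, ψ (-(i * j)) • (M ^ (ZMod.val (j : ZMod r))).mulVecLin

theorem proj_apply (i : ZMod r) (v : Fin n → L) :
    proj M ψ i v = (r : L)⁻¹ • ∑ j : ZMod r, ψ (-(i * j)) • (M ^ j.val *ᵥ v) := by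
  simp [proj, LinearMap.sum_apply]

theorem proj_mem (hM : M ^ r = 1) (i : ZMod r) (v : Fin n → L) : proj M ψ i v ∈ eig M ψ i := by
  rw [mem_eig, proj_apply, Matrix.mulVec_smul, smul_comm (ψ i)]
  congr 1
  rw [Matrix.mulVec_sum, Finset.smul_sum]
  refine Fintype.sum_equiv (M := Fin n → L) (Equiv.addRight (1 : ZMod r)) _ _ fun j => ?_
  rw [Matrix.mulVec_smul, Matrix.mulVec_mulVec, ← pow_succ', smul_smul, ← AddChar.map_add_eq_mul, Equiv.coe_addRight]
  congr 1
  · congr 1; ring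
  · rw [ZMod.val_add, ← pow_eq_pow_mod _ hM, ZMod.val_one]

theorem sum_proj (hr : (r : L) ≠ 0) (hψ : ψ.IsPrimitive) (v : Fin n → L) : ∑ i : ZMod r, proj M ψ i v = v := by
  classical
  simp only [proj_apply]
  rw [← Finset.smul_sum, Finset.sum_comm]
  have h : ∀ j : ZMod r, ∑ i : ZMod r, ψ (-(i * j)) = if j = 0 then (r : L) else 0 := fun j => by
    rw [Finset.sum_congr rfl (fun i _ => by rw [← mul_neg]), AddChar.sum_mulShift (-j) hψ]
    simp [ZMod.card]
  simp only [← Finset.sum_smul, h]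
  simp [hr]

theorem proj_eig (hr : (r : L) ≠ 0) (hψ : ψ.IsPrimitive) {k : ZMod r} {x : Fin n → L} (hx : x ∈ eig M ψ k)
    (i : ZMod r) : proj M ψ i x = if i = k then x else 0 := by
  classical
  rw [mem_eig] at hx
  have hp : ∀ m : ℕ, M ^ m *ᵥ x = ψ ((m : ZMod r) * k) • x := fun m => by
    induction m with
    | zero => simp
    | succ m ih =>
      rw [pow_succ, ← Matrix.mulVec_mulVec, hx, Matrix.mulVec_smul, ih, smul_smul, ← AddChar.map_add_eq_mul]
      congr 2; push_cast; ring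
  simp only [proj_apply, hp, smul_smul, ← AddChar.map_add_eq_mul, ← Finset.sum_smul]
  rw [Finset.sum_congr rfl (fun j _ => by rw [ZMod.natCast_rightInverse j, show -(i * j) + j * k = j * (k - i) by ring]),
    AddChar.sum_mulShift (k - i) hψ]
  by_cases hik : i = k
  · simp [hik, ZMod.card, hr]
  · simp [hik, sub_eq_zero, Ne.symm hik]

theorem finrank_sum_le (hr : (r : L) ≠ 0) (hψ : ψ.IsPrimitive) (hM : M ^ r = 1) :
    ∑ i : ZMod r, Module.finrank L (eig M ψ i) ≤ n := by
  classical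
  let Φ : (Fin n → L) →ₗ[L] (∀ i : ZMod r, eig M ψ i) :=
    LinearMap.pi fun i => (proj M ψ i).codRestrict (eig M ψ i) (proj_mem M ψ hM i)
  have hΦ : Function.Surjective Φ := fun f => by
    refine ⟨∑ k : ZMod r, (f k : Fin n → L), funext fun i => Subtype.ext ?_⟩
    show proj M ψ i (∑ k : ZMod r, (f k : Fin n → L)) = f i
    rw [map_sum, Finset.sum_congr rfl (fun k _ => proj_eig M ψ hr hψ (f k).2 i), Finset.sum_ite_eq, if_pos (Finset.mem_univ _)]
  have h1 := Φ.finrank_range_add_finrank_ker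
  rw [LinearMap.range_eq_top.2 hΦ, finrank_top, Module.finrank_pi_fintype, Module.finrank_fin_fun] at h1
  omega

theorem exists_two (hr : (r : L) ≠ 0) (hψ : ψ.IsPrimitive) (hM : M ^ r = 1) (p : ℕ) [Fact p.Prime] [CharP L p]
    {U : Matrix (Fin n) (Fin n) L} (hU : U ≠ 1) (hUp : U ^ p = 1) (hc : Commute U M) :
    ∃ i : ZMod r, 2 ≤ Module.finrank L (eig M ψ i) := by
  by_contra hall
  push Not at hall
  refine hU (Matrix.ext_of_mulVec_single fun l => ?_)
  have hfix : ∀ i, ∀ x ∈ eig M ψ i, U *ᵥ x = x := by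
    intro i x hx
    by_cases hx0 : x = 0
    · rw [hx0, Matrix.mulVec_zero]
    have hUx : U *ᵥ x ∈ eig M ψ i := by
      rw [mem_eig] at hx ⊢
      rw [Matrix.mulVec_mulVec, ← hc.eq, ← Matrix.mulVec_mulVec, hx, Matrix.mulVec_smul]
    have h1 : Module.finrank L (eig M ψ i) ≤ 1 := Nat.lt_succ_iff.1 (hall i)
    haveI : Nontrivial (eig M ψ i) := ⟨⟨⟨x, hx⟩, 0, fun e => hx0 (congrArg Subtype.val e)⟩⟩
    have h1' : Module.finrank L (eig M ψ i) = 1 := le_antisymm h1 Module.finrank_pos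
    obtain ⟨c, hcx⟩ := (finrank_eq_one_iff_of_nonzero' (⟨x, hx⟩ : eig M ψ i) (fun e => hx0 (congrArg Subtype.val e))).1 h1' ⟨_, hUx⟩
    have hcx' : c • x = U *ᵥ x := congrArg Subtype.val hcx
    have hpow : ∀ m : ℕ, U ^ m *ᵥ x = c ^ m • x := fun m => by
      induction m with
      | zero => simp
      | succ m ih => rw [pow_succ, ← Matrix.mulVec_mulVec, ← hcx', Matrix.mulVec_smul, ih, smul_smul, pow_succ, mul_comm]
    have hp := hpow p
    rw [hUp, Matrix.one_mulVec] at hp
    have hc1 : c ^ p = 1 := by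
      by_contra hne
      exact hx0 ((smul_eq_zero.1 (show (c ^ p - 1) • x = 0 by rw [sub_smul, one_smul, ← hp, sub_self])).resolve_left (sub_ne_zero.2 hne))
    have : (c - 1) ^ p = 0 := by rw [sub_pow_char, one_pow, hc1, sub_self]
    rw [← hcx', sub_eq_zero.1 (pow_eq_zero_iff (Fact.out : p.Prime).ne_zero |>.1 this), one_smul]
  rw [Matrix.one_mulVec, ← sum_proj M ψ hr hψ (Pi.single l 1), Matrix.mulVec_sum]
  exact Finset.sum_congr rfl fun i _ => hfix i _ (proj_mem M ψ hM i _)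

theorem exists_ne_zero (hr : (r : L) ≠ 0) (hψ : ψ.IsPrimitive) (hM : M ^ r = 1) (hM1 : M ≠ 1) :
    ∃ i : ZMod r, i ≠ 0 ∧ 1 ≤ Module.finrank L (eig M ψ i) := by
  classical
  by_contra hall
  push Not at hall
  refine hM1 (Matrix.ext_of_mulVec_single fun l => ?_)
  have h0 : ∀ i : ZMod r, i ≠ 0 → proj M ψ i (Pi.single l 1) = 0 := fun i hi => by
    have hb : eig M ψ i = ⊥ := Submodule.finrank_eq_zero.1 (Nat.lt_one_iff.1 (hall i hi))
    have := proj_mem M ψ hM i (Pi.single l 1)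
    rwa [hb, Submodule.mem_bot] at this
  have h := sum_proj M ψ hr hψ (Pi.single l 1)
  rw [Finset.sum_eq_single (0 : ZMod r) (fun i _ hi => h0 i hi) (fun hh => absurd (Finset.mem_univ _) hh)] at h
  rw [Matrix.one_mulVec, ← h, (mem_eig M ψ).1 (proj_mem M ψ hM 0 _), AddChar.map_zero_eq_one, one_smul]

theorem eig_invariant (φ : L ≃+* L) (s : ZMod r) (hs : ∀ i, φ (ψ i) * ψ (s * i) = 1)
    (hM : Mᵀ * M.map φ = 1) (i : ZMod r) :
    Module.finrank L (eig M ψ (s * i)) = Module.finrank L (eig M ψ i) := by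
  have hT : Module.finrank L (LinearMap.ker (Mᵀ - ψ (s * i) • (1 : Matrix (Fin n) (Fin n) L)).mulVecLin) =
      Module.finrank L (eig M ψ (s * i)) := by
    have h1 := (Mᵀ - ψ (s * i) • (1 : Matrix (Fin n) (Fin n) L)).mulVecLin.finrank_range_add_finrank_ker
    have h2 := (M - ψ (s * i) • (1 : Matrix (Fin n) (Fin n) L)).mulVecLin.finrank_range_add_finrank_ker
    have h3 : (Mᵀ - ψ (s * i) • (1 : Matrix (Fin n) (Fin n) L)).rank = (M - ψ (s * i) • (1 : Matrix (Fin n) (Fin n) L)).rank := by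
      rw [← Matrix.rank_transpose (M - _), Matrix.transpose_sub, Matrix.transpose_smul, Matrix.transpose_one]
    unfold Matrix.rank at h3
    rw [eig]
    omega
  rw [← hT]
  obtain ⟨N, hN⟩ : ∃ N, N = LinearMap.ker (Mᵀ - ψ (s * i) • (1 : Matrix (Fin n) (Fin n) L)).mulVecLin := ⟨_, rfl⟩
  have hNm : ∀ y, y ∈ N ↔ Mᵀ *ᵥ y = ψ (s * i) • y := fun y => by
    rw [hN, LinearMap.mem_ker, Matrix.mulVecLin_apply, Matrix.sub_mulVec, Matrix.smul_mulVec, Matrix.one_mulVec, sub_eq_zero]
  rw [← hN]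
  have hM' : M.map φ * Mᵀ = 1 := mul_eq_one_comm.1 hM
  have hmap : ∀ x : Fin n → L, M.map φ *ᵥ (φ ∘ x) = φ ∘ (M *ᵥ x) := fun x => funext fun k =>
    (RingHom.map_mulVec (φ : L →+* L) M x k).symm
  have hmem : ∀ x, x ∈ eig M ψ i ↔ φ ∘ x ∈ N := fun x => by
    rw [mem_eig, hNm]
    have hs1 : φ (ψ i) * ψ (s * i) = 1 := hs i
    constructor
    · intro h
      have h1 : M.map φ *ᵥ (φ ∘ x) = φ (ψ i) • (φ ∘ x) := by
        rw [hmap, h]; funext k; simp
      have h2 := congrArg (fun y => Mᵀ *ᵥ y) h1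
      simp only [Matrix.mulVec_mulVec, hM, Matrix.one_mulVec, Matrix.mulVec_smul] at h2
      conv_rhs => rw [h2, smul_smul, mul_comm (ψ (s * i)), hs1, one_smul]
    · intro h
      have h1 := congrArg (fun y => M.map φ *ᵥ y) h
      simp only [Matrix.mulVec_mulVec, hM', Matrix.one_mulVec, Matrix.mulVec_smul, hmap] at h1
      funext k
      apply φ.injective
      have hk := congrFun h1 k
      simp only [Function.comp, Pi.smul_apply, smul_eq_mul] at hk
      rw [Pi.smul_apply, smul_eq_mul, map_mul, hk, ← mul_assoc, hs1, one_mul]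
  let e : eig M ψ i ≃+ N :=
    { toFun := fun x => ⟨φ ∘ x.1, (hmem x.1).1 x.2⟩
      invFun := fun y => ⟨φ.symm ∘ y.1, (hmem _).2 (by
        rw [show φ ∘ (φ.symm ∘ y.1) = y.1 from funext fun k => φ.apply_symm_apply _]; exact y.2)⟩
      left_inv := fun x => Subtype.ext (funext fun k => φ.symm_apply_apply _)
      right_inv := fun y => Subtype.ext (funext fun k => φ.apply_symm_apply _)
      map_add' := fun x y => Subtype.ext (funext fun k => map_add φ _ _) }
  have h := rank_eq_of_equiv_equiv (φ : L → L) e φ.bijective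
    (fun a x => Subtype.ext (funext fun k => map_mul φ a (x.1 k)))
  simpa [Module.finrank] using congrArg Cardinal.toNat h.symm

end spectral

section order

variable {F : Type*} [Field F] [Fintype F] {q : ℕ} (C : UCtx F q)

include C in
theorem card_su (hF : Fintype.card F = q ^ 2) {n : ℕ} (hn : 1 ≤ n) :
    Nat.card ↥(Cfsg.SU n F q) = q ^ (n * (n - 1) / 2) *
      ∏ i ∈ Finset.range (n - 1), (if Even (i + 1) then q ^ (i + 2) + 1 else q ^ (i + 2) - 1) := by
  have h := CfsgLib.Classical.card_su_mul C hF hn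
  rw [CfsgLib.Classical.card_gu_formula C hF n] at h
  conv_rhs at h => arg 2; rw [show n = (n - 1) + 1 by omega, Finset.prod_range_succ']
  simp only [if_pos (Even.zero (α := ℕ)), Nat.zero_add, pow_one] at h
  refine Nat.eq_of_mul_eq_mul_left (show 0 < q + 1 by omega) (h.trans ?_)
  ring

include C in
theorem dvd_card_of_order {r : ℕ} [Fact r.Prime] (hF : Fintype.card F = q ^ 2) {n j : ℕ} (hn : 2 ≤ n) (hj : 1 ≤ j)
    (hjn : j ≤ n) (h : (-(q : ZMod r)) ^ j = 1) : r ∣ Nat.card ↥(Cfsg.SU n F q) := by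
  rw [card_su C hF (by omega : 1 ≤ n)]
  refine dvd_mul_of_dvd_right ?_ _
  have hq : 1 ≤ q := Nat.one_le_iff_ne_zero.2 C.q_ne_zero
  rcases (by omega : j = 1 ∨ 2 ≤ j) with rfl | hj2
  · refine Dvd.dvd.trans ?_ (Finset.dvd_prod_of_mem _ (Finset.mem_range.2 (show 0 < n - 1 by omega)))
    simp only [Nat.zero_add, if_neg Nat.not_even_one]
    rw [← ZMod.natCast_eq_zero_iff, Nat.cast_sub (Nat.one_le_pow _ _ hq)]
    rw [pow_one] at h
    push_cast
    linear_combination (-(q : ZMod r) + 1) * h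
  · refine Dvd.dvd.trans ?_ (Finset.dvd_prod_of_mem _ (Finset.mem_range.2 (show j - 2 < n - 1 by omega)))
    rw [show j - 2 + 1 = j - 1 by omega, show j - 2 + 2 = j by omega, ← ZMod.natCast_eq_zero_iff]
    rw [neg_pow] at h
    split_ifs with he
    · have ho : Odd j := by rw [show j = j - 1 + 1 by omega]; exact he.add_one
      rw [ho.neg_one_pow] at h
      push_cast
      linear_combination -h
    · have he' : Even j := by rw [show j = j - 1 + 1 by omega]; exact (Nat.not_even_iff_odd.1 he).add_one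
      rw [he'.neg_one_pow] at h
      rw [Nat.cast_sub (Nat.one_le_pow _ _ hq)]
      push_cast
      linear_combination h

include C in
theorem dvd_card_of_commute (hF : Fintype.card F = q ^ 2) (p : ℕ) [Fact p.Prime] [CharP F p] {m : ℕ} (hm : 4 ≤ m)
    {A B : ↥(Cfsg.SU m F q)} (hA : A ≠ 1) (hAp : A ^ p = 1) (hAB : Commute A B) {r : ℕ} [Fact r.Prime]
    (hrp : r ≠ p) (hB : B ≠ 1) (hBr : B ^ r = 1) : r ∣ Nat.card ↥(Cfsg.SU (m - 2) F q) := by
  classical
  obtain ⟨k, hpp, hk⟩ := FiniteField.card F p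
  rw [hF] at hk
  obtain ⟨f, -, hq⟩ := (Nat.dvd_prime_pow hpp).1 (hk ▸ dvd_pow_self q two_ne_zero)
  haveI : Fact (1 < r) := ⟨(Fact.out : r.Prime).one_lt⟩
  let L := AlgebraicClosure F
  haveI : CharP L p := charP_of_injective_algebraMap (algebraMap F L).injective p
  haveI : ExpChar L p := ExpChar.prime hpp
  haveI : PerfectRing L p := inferInstance
  have hrL : (r : L) ≠ 0 := fun h0 => hrp ((Nat.prime_dvd_prime_iff_eq hpp Fact.out).1
    ((CharP.cast_eq_zero_iff L p r).1 h0)).symm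
  haveI : NeZero (r : L) := ⟨hrL⟩
  obtain ⟨ζ, hζ⟩ := HasEnoughRootsOfUnity.exists_primitiveRoot L r
  obtain ⟨ψ, hψdef⟩ : ∃ ψ : AddChar (ZMod r) L, ψ = AddChar.zmodChar r hζ.pow_eq_one := ⟨_, rfl⟩
  have hψ : ψ.IsPrimitive := hψdef ▸ AddChar.zmodChar_primitive_of_primitive_root r hζ
  let φ : L ≃+* L := iterateFrobeniusEquiv L p f
  have hφ : ∀ x : L, φ x = x ^ q := fun x => by
    show iterateFrobeniusEquiv L p f x = _
    rw [iterateFrobeniusEquiv_def, hq]
  let ι : Matrix (Fin m) (Fin m) F →+* Matrix (Fin m) (Fin m) L := (algebraMap F L).mapMatrix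
  have hι : Function.Injective ι := Matrix.map_injective (algebraMap F L).injective
  let π : ↥(Cfsg.SU m F q) →* Matrix (Fin m) (Fin m) L :=
    { toFun := fun g => ι g.1.1
      map_one' := by simp
      map_mul' := fun g h => by simp }
  have hπ : Function.Injective π := fun g h e => Subtype.ext (Subtype.ext (hι e))
  have hgr : B.1.1ᵀ * B.1.1.map C.bar = 1 := by
    ext i j
    have h := C.form_su B (Pi.single i 1) (Pi.single j 1)
    simp only [UCtx.form, Matrix.mulVec_single_one, Matrix.col_apply] at h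
    rw [Matrix.mul_apply, Matrix.one_apply]
    simp only [Matrix.transpose_apply, Matrix.map_apply]
    rw [h]
    simp [Pi.single_apply, apply_ite C.bar, eq_comm]
  have hMT : (π B)ᵀ * (π B).map φ = 1 := by
    have h := congrArg ι hgr
    rw [map_mul, map_one] at h
    refine Eq.trans ?_ h
    congr 1
    ext i j
    show φ (algebraMap F L (B.1.1 i j)) = algebraMap F L (C.bar (B.1.1 i j))
    rw [hφ, C.bar_eq, map_pow]
  have hMr : π B ^ r = 1 := by rw [← map_pow, hBr, map_one]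
  obtain ⟨s, hsdef⟩ : ∃ s : ZMod r, s = -(q : ZMod r) := ⟨_, rfl⟩
  have hq0 : (q : ZMod r) ≠ 0 := fun h0 => by
    rw [ZMod.natCast_eq_zero_iff, hq] at h0
    exact hrp ((Nat.prime_dvd_prime_iff_eq Fact.out hpp).1 ((Fact.out : r.Prime).dvd_of_dvd_pow h0))
  have hs : ∀ i, φ (ψ i) * ψ (s * i) = 1 := fun i => by
    rw [hφ, ← AddChar.map_nsmul_eq_pow, ← AddChar.map_add_eq_mul, hsdef, nsmul_eq_mul, neg_mul, add_neg_cancel,
      AddChar.map_zero_eq_one]
  obtain ⟨i0, h0⟩ := exists_two (π B) ψ hrL hψ hMr p (U := π A) (fun e => hA (hπ (e.trans (map_one π).symm)))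
    (by rw [← map_pow, hAp, map_one]) (hAB.map π)
  obtain ⟨i1, hi1, h1⟩ := exists_ne_zero (π B) ψ hrL hψ hMr (fun e => hB (hπ (e.trans (map_one π).symm)))
  have hs0 : s ≠ 0 := by rw [hsdef]; exact neg_ne_zero.2 hq0
  have hj0 : 0 < orderOf s := by
    rw [orderOf_pos_iff, isOfFinOrder_iff_pow_eq_one]
    exact ⟨r - 1, Nat.sub_pos_of_lt (Fact.out : r.Prime).one_lt, ZMod.pow_card_sub_one_eq_one hs0⟩
  obtain ⟨j, hj⟩ : ∃ j, j = orderOf s := ⟨_, rfl⟩
  rw [← hj] at hj0
  have hinv : ∀ k : ℕ, Module.finrank L (eig (π B) ψ (s ^ k * i1)) = Module.finrank L (eig (π B) ψ i1) := fun k => by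
    induction k with
    | zero => rw [pow_zero, one_mul]
    | succ k ih => rw [pow_succ', mul_assoc, eig_invariant (π B) ψ φ s hs hMT, ih]
  obtain ⟨O, hO⟩ : ∃ O, O = (Finset.range j).image (fun k => s ^ k * i1) := ⟨_, rfl⟩
  have hOcard : O.card = j := by
    rw [hO, Finset.card_image_of_injOn, Finset.card_range]
    intro a ha b hb hab
    refine pow_injOn_Iio_orderOf ?_ ?_ (mul_right_cancel₀ hi1 hab)
    · rw [Set.mem_Iio, ← hj]; exact Finset.mem_range.1 ha
    · rw [Set.mem_Iio, ← hj]; exact Finset.mem_range.1 hb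
  have hsum : ∑ i ∈ O, Module.finrank L (eig (π B) ψ i) = j * Module.finrank L (eig (π B) ψ i1) := by
    rw [Finset.sum_eq_card_nsmul (b := Module.finrank L (eig (π B) ψ i1)), hOcard, smul_eq_mul]
    intro i hi
    rw [hO, Finset.mem_image] at hi
    obtain ⟨k, -, rfl⟩ := hi
    exact hinv k
  have htot := finrank_sum_le (π B) ψ hrL hψ hMr
  have hjm : j ≤ m - 2 := by
    by_cases hin : i0 ∈ O
    · have h2 : 2 ≤ Module.finrank L (eig (π B) ψ i1) := by
        rw [hO, Finset.mem_image] at hin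
        obtain ⟨k, -, e⟩ := hin
        rwa [← hinv k, e]
      have := (Finset.sum_le_sum_of_subset (Finset.subset_univ O)).trans htot
      rw [hsum] at this
      have : j * 2 ≤ j * Module.finrank L (eig (π B) ψ i1) := Nat.mul_le_mul_left _ h2
      omega
    · have := (Finset.sum_le_sum_of_subset (Finset.subset_univ (insert i0 O))).trans htot
      rw [Finset.sum_insert hin, hsum] at this
      have : j * 1 ≤ j * Module.finrank L (eig (π B) ψ i1) := Nat.mul_le_mul_left _ h1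
      omega
  exact dvd_card_of_order C hF (by omega) hj0 hjm (by rw [← hsdef, hj, pow_orderOf_eq_one])

end order

end CfsgLib.SU.SemisimpleCentral
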