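import Cfsg.Agent.Lib.SU.Field
import Cfsg.Agent.Lib.Coprime.BalanceSet
import Cfsg.Agent.Lib.Classical.SignScalar

/-!
# Lifting points of `PSU` to unitary matrices
-/

set_option autoImplicit false
set_option linter.all false

namespace CfsgLib.SU

open Matrix CfsgLib.Descent

variable {F : Type*} [Field F] [Finite F] {q : ℕ} (C : UCtx F q) {n : ℕ}

omit [Finite F] in
/-- special unitary matrices in the unitary group -/
def toGU (s : ↥(Cfsg.SU n F q)) : ↥(Cfsg.GU n F q) := ⟨Matrix.SpecialLinearGroup.toGL s.1, s.2⟩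

omit [Finite F] in
theorem toGU_mul (s t : ↥(Cfsg.SU n F q)) : toGU (s * t) = toGU s * toGU t :=
  Subtype.ext (map_mul Matrix.SpecialLinearGroup.toGL _ _)

omit [Finite F] in
theorem toGU_val (s : ↥(Cfsg.SU n F q)) : (toGU s).1.1 = s.1.1 := rfl

omit [Finite F] in
theorem mem_su_iff (s : Matrix.SpecialLinearGroup (Fin n) F) : s ∈ Cfsg.SU n F q ↔ s.1ᵀ * s.1.map C.bar = 1 :=
  (show s ∈ Cfsg.SU n F q ↔ Matrix.SpecialLinearGroup.toGL s ∈ Cfsg.GU n F q from Iff.rfl).trans C.mem_gu_iff_mat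

omit [Finite F] in
theorem exists_su (M : Matrix (Fin n) (Fin n) F) (hd : M.det = 1) (hM : Mᵀ * M.map C.bar = 1) :
    ∃ s : ↥(Cfsg.SU n F q), s.1.1 = M := by
  obtain ⟨t, ht⟩ : ∃ t : Matrix.SpecialLinearGroup (Fin n) F, t.1 = M := ⟨⟨M, hd⟩, rfl⟩
  exact ⟨⟨t, (mem_su_iff C t).2 (by rw [ht]; exact hM)⟩, ht⟩

theorem conj_pr (s : ↥(Cfsg.SU n F q)) : MulAut.conj (pr s) = C.indHom (toGU s) := by
  refine MulEquiv.ext fun y => ?_
  obtain ⟨t, rfl⟩ := QuotientGroup.mk'_surjective _ y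
  show pr s * pr t * (pr s)⁻¹ = pr (suConj (toGU s) (C.suField 1 t))
  rw [← map_mul, ← map_inv, ← map_mul]
  refine congrArg pr (Subtype.ext (Subtype.ext ?_))
  rw [suConj_val]
  rfl

omit [Finite F] in
theorem pr_eq_one_of_scalar (hn : 3 ≤ n) {s : ↥(Cfsg.SU n F q)} {c : F} (h : s.1.1 = c • 1) : pr s = 1 := by
  refine (QuotientGroup.eq_one_iff _).2 (Subgroup.mem_center_iff.2 fun t => Subtype.ext (Subtype.ext ?_))
  show t.1.1 * s.1.1 = s.1.1 * t.1.1
  rw [h, Matrix.mul_smul, Matrix.smul_mul, Matrix.mul_one, Matrix.one_mul]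

include C in
theorem scalar_of_indHom (hn : 3 ≤ n) {g : ↥(Cfsg.GU n F q)} (h : C.indHom g = 1) : ∃ c : F, g.1.1 = c • 1 := by
  obtain ⟨-, c, hc⟩ := C.eq_one_of_ind_eq_one hn (show C.ind g 1 = 1 from h)
  exact ⟨_, by rw [hc, C.gscal_val]⟩

theorem indHom_scalar (hn : 3 ≤ n) {g : ↥(Cfsg.GU n F q)} {c : F} (h : g.1.1 = c • 1) : C.indHom g = 1 := by
  haveI : NeZero n := ⟨by omega⟩
  have h1 := C.mem_gu_iff_mat.1 g.2
  rw [h] at h1
  have h2 := congrFun (congrFun h1 0) 0
  simp [Matrix.mul_apply, Matrix.one_apply, apply_ite C.bar] at h2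
  have hc : c ≠ 0 := fun e => by rw [e, zero_mul] at h2; exact zero_ne_one h2
  have hg : g = C.gscal ⟨Units.mk0 c hc, C.mem_unitOne.2 h2⟩ * 1 := by
    rw [mul_one]
    exact Subtype.ext (Units.ext (by rw [C.gscal_val]; exact h))
  rw [hg, C.indHom_apply, C.ind_gscal_mul, C.ind_one_one]

include C in
theorem conj_injective (hn : 3 ≤ n) : Function.Injective (MulAut.conj : Cfsg.PSU n F q →* _) := by
  rw [injective_iff_map_eq_one]
  intro k hk
  obtain ⟨s, rfl⟩ := QuotientGroup.mk'_surjective _ k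
  obtain ⟨c, hc⟩ := scalar_of_indHom C hn ((conj_pr C s).symm.trans hk)
  exact pr_eq_one_of_scalar hn hc

include C in
theorem scalar_of_central (hn : 3 ≤ n) {z : ↥(Cfsg.SU n F q)} (hz : z ∈ Subgroup.center ↥(Cfsg.SU n F q)) :
    ∃ c : F, z.1.1 = c • 1 :=
  scalar_of_indHom C hn (g := toGU z) (by rw [← conj_pr, show pr z = 1 from (QuotientGroup.eq_one_iff z).2 hz, map_one])

include C in
theorem pr_eq_imp (hn : 3 ≤ n) {A B : ↥(Cfsg.SU n F q)} (h : pr A = pr B) : ∃ c : F, A.1.1 = c • B.1.1 := by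
  obtain ⟨c, hc⟩ := scalar_of_central C hn (QuotientGroup.eq.1 h.symm)
  refine ⟨c, ?_⟩
  conv_lhs => rw [← mul_inv_cancel_left B A]
  show B.1.1 * (B⁻¹ * A).1.1 = _
  rw [hc, Matrix.mul_smul, Matrix.mul_one]

omit [Finite F] in
/-- conjugation by a representative of a fixed point preserves the fixed matrices -/
theorem lift_normal (θ : MulAut ↥(Cfsg.SU n F q)) {s u : ↥(Cfsg.SU n F q)} (hs : pr (θ s) = pr s) (hu : θ u = u) :
    θ (s * u * s⁻¹) = s * u * s⁻¹ := by
  have hz : s⁻¹ * θ s ∈ Subgroup.center ↥(Cfsg.SU n F q) := QuotientGroup.eq.1 hs.symm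
  have := Subgroup.mem_center_iff.1 hz u
  rw [map_mul, map_mul, map_inv, hu, show θ s * u * (θ s)⁻¹ = s * ((s⁻¹ * θ s) * u * (s⁻¹ * θ s)⁻¹) * s⁻¹ by group,
    ← this, mul_inv_cancel_right]

theorem field_pr (σ : RingAut F) (s : ↥(Cfsg.SU n F q)) :
    C.ind (1 : ↥(Cfsg.GU n F q)) σ (pr s) = pr (C.suField σ s) := by
  rw [C.ind_pr, map_one]; rfl

include C in
/-- signed transpositions are special unitary -/
theorem exists_srot {i j : Fin n} (hij : i ≠ j) :
    ∃ s : ↥(Cfsg.SU n F q), s.1.1 = SignScalar.srot F i j := by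
  refine exists_su C _ (by rw [← SignScalar.srotSL_val hij]; exact (SignScalar.srotSL hij F).2) ?_
  rw [show (SignScalar.srot F i j).map C.bar = SignScalar.srot F i j from SignScalar.srot_map C.bar.toRingHom i j,
    SignScalar.srot_transpose, SignScalar.srot_mul_transpose hij]

include C in
/-- diagonal pairs of norm one are special unitary -/
theorem exists_diag {i j : Fin n} (hij : i ≠ j) {t : F} (ht : t * C.bar t = 1) :
    ∃ s : ↥(Cfsg.SU n F q),
      s.1.1 = Matrix.diagonal (fun k => if k = i then t else if k = j then t⁻¹ else 1) := by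
  have ht0 : t ≠ 0 := fun e => by rw [e, zero_mul] at ht; exact zero_ne_one ht
  refine exists_su C _ ?_ ?_
  · rw [Matrix.det_diagonal, ← Finset.prod_subset (Finset.subset_univ ({i, j} : Finset (Fin n)))]
    · rw [Finset.prod_pair hij]; simp [hij.symm, ht0]
    · intro k _ hk
      simp only [Finset.mem_insert, Finset.mem_singleton, not_or] at hk
      simp [hk.1, hk.2]
  · rw [Matrix.diagonal_transpose, Matrix.diagonal_map (map_zero C.bar), Matrix.diagonal_mul_diagonal,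
      ← Matrix.diagonal_one]
    refine congrArg _ (funext fun k => ?_)
    try simp only [Function.comp_apply]
    have hb : C.bar t = t⁻¹ := eq_inv_of_mul_eq_one_right ht
    split_ifs <;> simp [hb, ht0]

omit [Finite F] in
/-- the scalar of a unitary scalar matrix has norm one -/
theorem norm_of_scalar (hn : 0 < n) {g : ↥(Cfsg.GU n F q)} {c : F} (h : g.1.1 = c • 1) : c * C.bar c = 1 := by
  have h1 := C.mem_gu_iff_mat.1 g.2
  rw [h] at h1
  have h2 := congrFun (congrFun h1 ⟨0, hn⟩) ⟨0, hn⟩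
  simpa [Matrix.mul_apply, Matrix.one_apply, apply_ite C.bar] using h2

theorem ind_scalar (hn : 3 ≤ n) {g : ↥(Cfsg.GU n F q)} {c : F} (h : g.1.1 = c • 1) (τ : RingAut F) :
    C.ind g τ = C.ind 1 τ := by
  have h1 : C.ind g τ = C.indHom g * C.ind 1 τ := by rw [C.indHom_apply, C.ind_one_mul, mul_one]
  rw [h1, indHom_scalar C hn h, one_mul]

end CfsgLib.SU
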