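import Mathlib
import Cfsg.Agent.Lib.SU.Descent

/-!
The fixed field of an automorphism of odd order of a field with `q²` elements.
-/

set_option autoImplicit false

namespace CfsgLib.SU

open CfsgLib.Descent

theorem dvd_of_orderOf {F : Type*} [Field F] [Fintype F] {p f q r : ℕ} [Fact p.Prime]
    (hq : q = p ^ f) (hF : Fintype.card F = q ^ 2) {σ : RingAut F} (hr : orderOf σ = r)
    (hro : Odd r) : r ∣ f := by
  rw [hq, ← pow_mul] at hF
  obtain ⟨h, -⟩ := card_fixedField (Fact.out : p.Prime) hF hr hro.pos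
  exact Nat.Coprime.dvd_of_dvd_mul_right
    ((Nat.prime_two.coprime_iff_not_dvd).2 hro.not_two_dvd_nat).symm h

theorem exists_isSub {F : Type*} [Field F] [Fintype F] {p f q r : ℕ} [Fact p.Prime] (hq : q = p ^ f)
    (hf : 1 ≤ f) (hF : Fintype.card F = q ^ 2) (C : UCtx F q) {σ : RingAut F} (hr : orderOf σ = r)
    (hro : Odd r) (F₀ : Type*) [Field F₀] [Fintype F₀]
    (hF₀ : Fintype.card F₀ = p ^ (2 * (f / r))) :
    ∃ (C₀ : UCtx F₀ (p ^ (f / r))) (j : F₀ →+* F), IsSub C C₀ j σ := by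
  classical
  have hrf := dvd_of_orderOf hq hF hr hro
  have hd : 1 ≤ f / r := Nat.div_pos (Nat.le_of_dvd hf hrf) hro.pos
  have hF₀' : Fintype.card F₀ = (p ^ (f / r)) ^ 2 := by rw [hF₀, ← pow_mul, mul_comm]
  obtain ⟨C₀⟩ := exists_ctx (F := F₀) rfl hd hF₀'
  haveI : Fintype (fixedField σ) := Fintype.ofFinite _
  have hF' : Fintype.card F = p ^ (f * 2) := by rw [hF, hq, pow_mul]
  obtain ⟨-, hc⟩ := card_fixedField (Fact.out : p.Prime) hF' hr hro.pos
  rw [Nat.card_eq_fintype_card, Nat.mul_comm f 2, Nat.mul_div_assoc 2 hrf] at hc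
  let e : F₀ ≃+* fixedField σ := FiniteField.ringEquivOfCardEq (hF₀.trans hc.symm)
  refine ⟨C₀, (fixedField σ).subtype.comp e.toRingHom, fun a => (e a).2,
    fun y hy => ⟨e.symm ⟨y, hy⟩, by simp⟩, fun a => ?_⟩
  rw [C.bar_eq, C₀.bar_eq, ← map_pow]
  congr 1
  obtain ⟨k, hk⟩ := hro
  rw [hq, show f = f / r * (2 * k + 1) by rw [← hk, Nat.div_mul_cancel hrf], pow_mul,
    pow_pow_odd hF₀' a k, ← hk, Nat.mul_div_cancel _ (show 0 < r by omega)]

end CfsgLib.SU
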