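import Cfsg.Agent.Lib.SU.BalanceBase
import Cfsg.Agent.Lib.SU.Sub
import Cfsg.Agent.Lib.Classical.PSUSimple
import Cfsg.Agent.Lib.Classical.HermOrder
import Cfsg.Agent.Lib.AutPSL.BalanceField
import Cfsg.Agent.Lib.FormClass.NoOdd

/-!
# Cores of centralisers of field automorphisms of odd prime order of `PSU_n`
-/

set_option autoImplicit false
set_option linter.all false

namespace CfsgLib.SU

open Matrix CfsgLib.Descent
open scoped LinearAlgebra.Projectivization

variable {F : Type*} [Field F] [Finite F] {q : ℕ} (C : UCtx F q) {n : ℕ}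

/-- the images of fixed special unitary matrices -/
def fixPSU (σ : RingAut F) : Subgroup (Cfsg.PSU n F q) :=
  ((C.suField (n := n) σ).toMonoidHom.eqLocus (MonoidHom.id _)).map pr

theorem fixPSU_fix (σ : RingAut F) : ∀ k ∈ fixPSU (n := n) C σ, C.ind (1 : ↥(Cfsg.GU n F q)) σ k = k := by
  rintro _ ⟨s, hs, rfl⟩
  rw [field_pr, show C.suField σ s = s from hs]

theorem mem_fixPSU {σ : RingAut F} {s : ↥(Cfsg.SU n F q)} (hs : s.1.1.map σ = s.1.1) : pr s ∈ fixPSU C σ :=
  Subgroup.mem_map_of_mem _ (show C.suField σ s = s from Subtype.ext (Subtype.ext (by rw [C.suField_val, hs])))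

variable {σ : RingAut F} {p : ℕ}

/-- a fixed element of norm one with square different from one -/
theorem exists_unit (hodd : Odd (orderOf σ)) : ∃ t : F, t ≠ 0 ∧ σ t = t ∧ t * C.bar t = 1 ∧ t * t ≠ 1 := by
  obtain ⟨x, hx, hxb⟩ : ∃ x, σ x = x ∧ C.bar x ≠ x := by
    by_contra hc
    simp only [not_exists, not_and, not_not] at hc
    haveI : Finite (RingAut F) := Finite.of_injective (fun τ : RingAut F => (τ : F → F)) DFunLike.coe_injective
    have h1 := orderOf_dvd_of_mem_zpowers (AutPSL.zpowers_of_fixed σ C.bar hc)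
    rw [C.order_two] at h1
    exact (Nat.not_even_iff_odd.2 hodd) (even_iff_two_dvd.2 h1)
  have key : ∀ y, σ y = y → C.bar y ≠ y → y + C.bar y ≠ 0 →
      ∃ t : F, t ≠ 0 ∧ σ t = t ∧ t * C.bar t = 1 ∧ t * t ≠ 1 := by
    intro y hy hyb hyt
    have hy0 : y ≠ 0 := fun e => hyb (by rw [e, map_zero])
    have hb0 : C.bar y ≠ 0 := fun e => hy0 (C.bar.injective (by rw [e, map_zero]))
    refine ⟨y / C.bar y, div_ne_zero hy0 hb0, by rw [map_div₀, hy, ← C.bar_apply_comm, hy], ?_, fun e => ?_⟩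
    · rw [map_div₀, C.bar_bar]; field_simp
    · have h1 : (y - C.bar y) * (y + C.bar y) = 0 := by
        field_simp at e
        linear_combination e
      rcases mul_eq_zero.1 h1 with h2 | h2
      · exact hyb (sub_eq_zero.1 h2).symm
      · exact hyt h2
  by_cases h : x + C.bar x = 0
  · refine key (x + 1) (by rw [map_add, map_one, hx]) (by simpa using hxb) fun e => hxb ?_
    rw [map_add, map_one] at e
    have h3 : (2 : F) = 0 := by linear_combination e - h
    linear_combination h - x * h3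
  · exact key x hx hxb h

theorem srot_map_self (τ : RingAut F) (i j : Fin n) : (SignScalar.srot F i j).map τ = SignScalar.srot F i j :=
  SignScalar.srot_map τ.toRingHom i j

/-- the fixed matrices detect the powers of a field automorphism of odd order -/
theorem fix_cent (hn : 3 ≤ n) (hodd : Odd (orderOf σ)) (g : ↥(Cfsg.GU n F q)) (τ : RingAut F)
    (h : ∀ k ∈ fixPSU (n := n) C σ, C.ind g τ k = k) :
    C.ind g τ ∈ Subgroup.zpowers (C.ind (1 : ↥(Cfsg.GU n F q)) σ) := by
  classical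
  set i0 : Fin n := ⟨0, by omega⟩
  set i1 : Fin n := ⟨1, by omega⟩
  have h01 : i0 ≠ i1 := by simp [i0, i1, Fin.ext_iff]
  have act : ∀ s : ↥(Cfsg.SU n F q), s.1.1.map σ = s.1.1 →
      ∃ c : F, g.1.1 * s.1.1.map τ = c • (s.1.1 * g.1.1) := by
    intro s hs
    obtain ⟨c, hc⟩ := pr_eq_imp C hn (show pr (suConj g (C.suField τ s)) = pr s from h _ (mem_fixPSU C hs))
    rw [suConj_val, C.suField_val] at hc
    refine ⟨c, ?_⟩
    have := congrArg (· * g.1.1) hc
    simp only [Matrix.mul_assoc, ← Units.val_mul, inv_mul_cancel, Units.val_one, Matrix.mul_one, Matrix.smul_mul] at this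
    exact this
  have hdiag : ∀ t, σ t = t → t * C.bar t = 1 → ∃ c : F,
      g.1.1 * Matrix.diagonal (fun k => if k = i0 then τ t else if k = i1 then (τ t)⁻¹ else 1) =
        c • (Matrix.diagonal (fun k => if k = i0 then t else if k = i1 then t⁻¹ else 1) * g.1.1) := by
    intro t ht htb
    obtain ⟨s, hs⟩ := exists_diag C h01 htb
    obtain ⟨c, hc⟩ := act s (by
      rw [hs, Matrix.diagonal_map (map_zero σ)]
      refine congrArg _ (funext fun k => ?_)
      split_ifs <;> simp [*])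
    refine ⟨c, ?_⟩
    rw [hs, Matrix.diagonal_map (map_zero τ)] at hc
    rw [← hc]
    refine congrArg (g.1.1 * ·) (congrArg _ (funext fun k => ?_))
    split_ifs <;> simp [*]
  obtain ⟨l, hl⟩ : ∃ l : F, g.1.1 = l • 1 := by
    refine SignScalar.scalar_of_srot_diag hn g.1.1 ((Matrix.isUnit_iff_isUnit_det _).1 g.1.isUnit).ne_zero
      (fun i j hij => ?_) h01 ?_
    · obtain ⟨s, hs⟩ := exists_srot C (F := F) hij
      obtain ⟨c, hc⟩ := act s (by rw [hs, srot_map_self])
      rw [hs, srot_map_self] at hc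
      exact ⟨c, hc⟩
    · obtain ⟨t, ht0, ht, htb, htt⟩ := exists_unit C hodd
      obtain ⟨c, hc⟩ := hdiag t ht htb
      exact ⟨t, τ t, c, ht0, htt, hc⟩
  have hl0 : l ≠ 0 := fun e => by have := norm_of_scalar C (by omega) hl; rw [e, zero_mul] at this; exact zero_ne_one this
  have hτt : ∀ t, σ t = t → t * C.bar t = 1 → τ t = t := by
    intro t ht htb
    obtain ⟨c, hc⟩ := hdiag t ht htb
    rw [hl, Matrix.smul_mul, Matrix.one_mul, Matrix.mul_smul, Matrix.mul_one, smul_smul] at hc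
    have e2 := congrFun (congrFun hc ⟨2, by omega⟩) ⟨2, by omega⟩
    have e0 := congrFun (congrFun hc i0) i0
    simp only [Matrix.smul_apply, Matrix.diagonal_apply_eq, smul_eq_mul, if_true,
      if_neg (show (⟨2, by omega⟩ : Fin n) ≠ i0 by simp [i0, Fin.ext_iff]),
      if_neg (show (⟨2, by omega⟩ : Fin n) ≠ i1 by simp [i1, Fin.ext_iff]), mul_one] at e2 e0
    rw [← e2] at e0
    exact mul_left_cancel₀ hl0 e0
  -- restrict to the fixed field
  have hmem : ∀ (ρ : RingAut F) (x : F), x ∈ fixedField σ → ρ x ∈ fixedField σ := fun ρ x hx => by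
    show σ (ρ x) = ρ x
    rw [← RingAut.mul_apply, ringAut_commute σ ρ, RingAut.mul_apply, show σ x = x from hx]
  let res : RingAut F → RingAut (fixedField σ) := fun ρ => RingEquiv.ofBijective
    ((ρ.toRingHom.comp (fixedField σ).subtype).codRestrict (fixedField σ) fun x => hmem ρ x.1 x.2)
    (Finite.injective_iff_bijective.1 fun a b e => Subtype.ext (ρ.injective (congrArg Subtype.val e)))
  have hres : ∀ ρ (x : fixedField σ), ((res ρ x : fixedField σ) : F) = ρ x.1 := fun ρ x => rfl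
  have hτ0 : res τ = 1 := by
    refine SignScalar.eq_one_of_norm_one (res C.bar) (res τ) (fun e => ?_)
      (fun x => Subtype.ext (by rw [hres, hres, C.bar_bar])) (fun t ht => Subtype.ext ?_)
      (fun x => Subtype.ext (by rw [hres, hres, hres, hres, C.bar_apply_comm]))
    · obtain ⟨t, -, ht, htb, htt⟩ := exists_unit C hodd
      have h1 : C.bar t = t := by
        have := congrArg (fun ρ : RingAut (fixedField σ) => ((ρ ⟨t, ht⟩ : fixedField σ) : F)) e
        exact this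
      exact htt (by rw [h1] at htb; exact htb)
    · rw [hres]
      exact hτt t.1 t.2 (congrArg Subtype.val ht)
  have hτ : ∀ x, σ x = x → τ x = x := fun x hx => by
    have := congrArg (fun ρ : RingAut (fixedField σ) => ((ρ ⟨x, hx⟩ : fixedField σ) : F)) hτ0
    exact this
  obtain ⟨k, hk⟩ := Subgroup.mem_zpowers_iff.1 (AutPSL.zpowers_of_fixed σ τ hτ)
  refine Subgroup.mem_zpowers_iff.2 ⟨k, ?_⟩
  rw [ind_scalar C hn hl, ← hk]
  exact (map_zpow C.fieldHom σ k).symm

/-- matrices of fixed points -/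
theorem exists_fixed_lift (hn : 3 ≤ n) {r : ℕ} (hr : orderOf σ = r) (hro : Odd r) {k : Cfsg.PSU n F q}
    (hk : C.ind (1 : ↥(Cfsg.GU n F q)) σ k = k) :
    ∃ g : ↥(Cfsg.GU n F q), C.guField σ g = g ∧ C.indHom g = MulAut.conj k := by
  cases nonempty_fintype F
  obtain ⟨s, rfl⟩ := QuotientGroup.mk'_surjective _ k
  have hc : toGU s ∈ (Subgroup.centralizer {C.ind (1 : ↥(Cfsg.GU n F q)) σ}).comap C.indHom := by
    rw [Subgroup.mem_comap, Subgroup.mem_centralizer_iff]
    rintro x rfl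
    rw [← conj_pr]
    conv_rhs => rw [← hk]
    rw [← BalanceSet.conj_smul]
    group
  obtain ⟨b, hb⟩ := C.centPre_decomp hr hro hn hc
  exact ⟨_, hb, by rw [C.indHom_apply, C.ind_gscal_mul, ← C.indHom_apply]; exact (conj_pr C s).symm⟩

theorem fixPSU_normal {k u : Cfsg.PSU n F q} (hk : C.ind (1 : ↥(Cfsg.GU n F q)) σ k = k) (hu : u ∈ fixPSU C σ) :
    k * u * k⁻¹ ∈ fixPSU C σ := by
  obtain ⟨s, rfl⟩ := QuotientGroup.mk'_surjective _ k
  obtain ⟨v, hv, rfl⟩ := hu
  refine ⟨s * v * s⁻¹, lift_normal _ ((field_pr C σ s).symm.trans hk) hv, ?_⟩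
  rw [map_mul, map_mul, map_inv]

variable {F₀ : Type*} [Field F₀] [Fintype F₀] {q₀ : ℕ} {C₀ : UCtx F₀ q₀} {j : F₀ →+* F}

theorem fixPSU_simple (hn : 3 ≤ n) (hodd : Odd (orderOf σ)) (hS : IsSub C C₀ j σ) (hF₀ : Fintype.card F₀ = q₀ ^ 2)
    (hsmall : ¬ (n = 3 ∧ q₀ = 2)) : IsSimpleGroup (fixPSU (n := n) C σ) := by
  classical
  cases nonempty_fintype F
  haveI : IsSimpleGroup (Cfsg.PSU n F₀ q₀) := CfsgLib.Classical.psu_isSimple hF₀ hn hsmall
  let f1 : ↥(Cfsg.SU n F₀ q₀) →* Matrix.SpecialLinearGroup (Fin n) F :=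
    (Matrix.SpecialLinearGroup.map j).comp (Cfsg.SU n F₀ q₀).subtype
  have hf1 : ∀ u, f1 u ∈ Cfsg.SU n F q := fun u => by
    rw [mem_su_iff C]
    exact C.mem_gu_iff_mat.1 (hS.mapGU_mem (g := Matrix.SpecialLinearGroup.toGL u.1) u.2)
  let f : ↥(Cfsg.SU n F₀ q₀) →* Cfsg.PSU n F q := pr.comp (f1.codRestrict _ hf1)
  have hf : f.range = fixPSU C σ := by
    ext k
    constructor
    · rintro ⟨u, rfl⟩
      refine mem_fixPSU C (s := (f1.codRestrict _ hf1) u) ?_
      ext a b
      exact hS.fix _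
    · rintro ⟨s, hs, rfl⟩
      obtain ⟨u, hu⟩ := hS.exists_lift (g := toGU s) (Subtype.ext (Units.ext
        (congrArg (fun X : ↥(Cfsg.SU n F q) => X.1.1) (show C.suField σ s = s from hs))))
      have hv : u.1.1.map j = s.1.1 := congrArg (fun X : ↥(Cfsg.GU n F q) => X.1.1) hu
      have hd : u.1.1.det = 1 := j.injective (by
        rw [map_one, ← s.1.2, ← hv]; exact RingHom.map_det j u.1.1)
      obtain ⟨v, hv'⟩ := exists_su C₀ u.1.1 hd (C₀.mem_gu_iff_mat.1 u.2)
      refine ⟨v, congrArg pr (Subtype.ext (Subtype.ext ?_))⟩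
      show v.1.1.map j = s.1.1
      rw [hv', hv]
  have hker : Subgroup.center ↥(Cfsg.SU n F₀ q₀) ≤ f.ker := fun z hz => by
    obtain ⟨c, hc⟩ := scalar_of_central C₀ hn hz
    refine pr_eq_one_of_scalar hn (c := j c) ?_
    show z.1.1.map j = _
    rw [hc]
    ext a b
    simp [Matrix.one_apply, apply_ite j]
  haveI : Nontrivial (fixPSU (n := n) C σ) := by
    obtain ⟨t, ht0, ht, htb, htt⟩ := exists_unit C hodd
    have h01 : (⟨0, by omega⟩ : Fin n) ≠ ⟨1, by omega⟩ := by simp [Fin.ext_iff]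
    obtain ⟨s, hs⟩ := exists_diag C h01 htb
    refine ⟨⟨⟨pr s, mem_fixPSU C ?_⟩, 1, fun e => ?_⟩⟩
    · rw [hs, Matrix.diagonal_map (map_zero σ)]
      refine congrArg _ (funext fun k => ?_)
      split_ifs <;> simp [*]
    · obtain ⟨c, hc⟩ := pr_eq_imp C hn (B := 1) ((congrArg Subtype.val e).trans (map_one _).symm)
      have e0 := congrFun (congrFun hc ⟨0, by omega⟩) ⟨0, by omega⟩
      have e2 := congrFun (congrFun hc ⟨2, by omega⟩) ⟨2, by omega⟩
      rw [hs] at e0 e2
      simp [Fin.ext_iff] at e0 e2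
      rw [← e2] at e0
      exact htt (by rw [e0, mul_one])
  refine IsSimpleGroup.isSimpleGroup_of_surjective
    (f := QuotientGroup.lift _ (f.codRestrict (fixPSU C σ) fun u => hf ▸ ⟨u, rfl⟩)
      fun u hu => Subtype.ext (hker hu)) ?_
  rintro ⟨k, hk⟩
  rw [← hf] at hk
  obtain ⟨u, rfl⟩ := hk
  exact ⟨QuotientGroup.mk u, rfl⟩

/-- an element of order `p` among the fixed matrices -/
theorem exists_order_p (hn : 3 ≤ n) [hp : Fact p.Prime] {r : ℕ} (hr : orderOf σ = r) (hro : Odd r)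
    (hd : p ∣ Nat.card ↥(MonoidHom.eqLocus (C.ind (1 : ↥(Cfsg.GU n F q)) σ).toMonoidHom
      (MonoidHom.id (Cfsg.PSU n F q)))) :
    ∃ u ∈ fixPSU (n := n) C σ, orderOf u = p := by
  classical
  set U0 : Subgroup C.unitOne := (C.unitField σ).eqLocus (MonoidHom.id _)
  by_cases hpU : p ∣ Nat.card U0
  · obtain ⟨⟨t, ht⟩, htp⟩ := exists_prime_orderOf_dvd_card' p hpU
    rw [Subgroup.orderOf_mk] at htp
    obtain ⟨t0, ht0, htb, htf, htpow, ht1⟩ : ∃ t0 : F, t0 ≠ 0 ∧ t0 * C.bar t0 = 1 ∧ σ t0 = t0 ∧ t0 ^ p = 1 ∧ t0 ≠ 1 := by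
      refine ⟨((t : Fˣ) : F), (t : Fˣ).ne_zero, C.mem_unitOne.1 t.2,
        congrArg (fun u : C.unitOne => ((u : Fˣ) : F)) (show C.unitField σ t = t from ht), ?_, fun e => ?_⟩
      · have := congrArg (fun u : C.unitOne => ((u : Fˣ) : F)) (htp ▸ pow_orderOf_eq_one t)
        simpa using this
      · rw [show t = 1 from Subtype.ext (Units.ext e), orderOf_one] at htp
        exact hp.out.one_lt.ne htp
    have h01 : (⟨0, by omega⟩ : Fin n) ≠ ⟨1, by omega⟩ := by simp [Fin.ext_iff]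
    obtain ⟨s, hs⟩ := exists_diag C h01 htb
    refine ⟨pr s, mem_fixPSU C ?_, orderOf_eq_prime ?_ fun e => ?_⟩
    · rw [hs, Matrix.diagonal_map (map_zero σ)]
      refine congrArg _ (funext fun k => ?_)
      split_ifs <;> simp [*]
    · rw [← map_pow]
      refine pr_eq_one_of_scalar hn (c := 1) ?_
      rw [SubmonoidClass.coe_pow, Matrix.SpecialLinearGroup.coe_pow, hs, Matrix.diagonal_pow, one_smul,
        ← Matrix.diagonal_one]
      refine congrArg _ (funext fun k => ?_)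
      simp only [Pi.pow_apply]
      split_ifs <;> simp [htpow]
    · obtain ⟨c, hc⟩ := pr_eq_imp C hn (B := 1) (e.trans (map_one _).symm)
      have e0 := congrFun (congrFun hc ⟨0, by omega⟩) ⟨0, by omega⟩
      have e2 := congrFun (congrFun hc ⟨2, by omega⟩) ⟨2, by omega⟩
      rw [hs] at e0 e2
      simp [Fin.ext_iff] at e0 e2
      exact ht1 (e0.trans e2.symm)
  · obtain ⟨⟨k, hk⟩, hkp⟩ := exists_prime_orderOf_dvd_card' p hd
    rw [Subgroup.orderOf_mk] at hkp
    obtain ⟨g, hg, hgk⟩ := exists_fixed_lift C hn hr hro (show C.ind (1 : ↥(Cfsg.GU n F q)) σ k = k from hk)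
    have hgdet : C.detHom g ∈ U0 := by
      refine Subtype.ext (Units.ext ?_)
      show σ ((C.detHom g : Fˣ) : F) = ((C.detHom g : Fˣ) : F)
      rw [C.detHom_val]
      exact (RingHom.map_det σ.toRingHom g.1.1).trans
        (congrArg Matrix.det (congrArg (fun X : ↥(Cfsg.GU n F q) => X.1.1) hg))
    have hd1 : (g ^ Nat.card U0).1.1.det = 1 := by
      rw [← C.detHom_val, map_pow]
      have := congrArg Subtype.val (pow_card_eq_one' (x := (⟨C.detHom g, hgdet⟩ : U0)))
      rw [SubmonoidClass.coe_pow, OneMemClass.coe_one] at this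
      rw [this]; rfl
    obtain ⟨s, hs⟩ := exists_su C _ hd1 (C.mem_gu_iff_mat.1 (g ^ Nat.card U0).2)
    have hsk : pr s = k ^ Nat.card U0 := by
      apply conj_injective C hn
      rw [conj_pr, map_pow, ← hgk, ← map_pow]
      exact congrArg C.indHom (Subtype.ext (Units.ext hs))
    refine ⟨pr s, mem_fixPSU C ?_, ?_⟩
    · rw [hs]
      exact congrArg (fun X : ↥(Cfsg.GU n F q) => X.1.1)
        (show C.guField σ (g ^ Nat.card U0) = g ^ Nat.card U0 by rw [map_pow, hg])
    · rw [hsk]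
      refine orderOf_eq_prime (by rw [← pow_mul, mul_comm, pow_mul, ← hkp, pow_orderOf_eq_one, one_pow]) fun e => hpU ?_
      exact hkp ▸ orderOf_dvd_of_pow_eq_one e

/-- the action on points -/
noncomputable def ptAct (hn : 3 ≤ n) : Cfsg.PSU n F q →* Equiv.Perm (ℙ F (Fin n → F)) :=
  QuotientGroup.lift _ (FormCl.pperm.comp (Matrix.SpecialLinearGroup.toGL.comp (Cfsg.SU n F q).subtype))
    fun z hz => by
      obtain ⟨c, hc⟩ := scalar_of_central C hn hz
      rw [MonoidHom.mem_ker]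
      refine Equiv.ext fun P => ?_
      obtain ⟨v, hv, rfl⟩ : ∃ v hv, P = Projectivization.mk F v hv := ⟨P.rep, P.rep_nonzero, P.mk_rep.symm⟩
      show FormCl.pperm (Matrix.SpecialLinearGroup.toGL z.1) _ = _
      rw [FormCl.pperm_mk, Equiv.Perm.one_apply, Projectivization.mk_eq_mk_iff']
      exact ⟨c, by rw [show (Matrix.SpecialLinearGroup.toGL z.1).1 = z.1.1 from rfl, hc, smul_mulVec, one_mulVec]⟩

theorem ptAct_lift (hn : 3 ≤ n) {g : ↥(Cfsg.GU n F q)} {k : Cfsg.PSU n F q} (h : C.indHom g = MulAut.conj k) :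
    ptAct C hn k = FormCl.pperm g.1 := by
  obtain ⟨s, rfl⟩ := QuotientGroup.mk'_surjective _ k
  have h1 : C.indHom (g * (toGU s)⁻¹) = 1 := by
    rw [map_mul, map_inv, ← conj_pr, h, mul_inv_cancel]
  obtain ⟨c, hc⟩ := scalar_of_indHom C hn h1
  have hg : g.1.1 = c • s.1.1 := by
    conv_lhs => rw [← inv_mul_cancel_right g (toGU s)]
    show (g * (toGU s)⁻¹).1.1 * s.1.1 = _
    rw [hc, Matrix.smul_mul, Matrix.one_mul]
  refine Equiv.ext fun P => ?_
  obtain ⟨v, hv, rfl⟩ : ∃ v hv, P = Projectivization.mk F v hv := ⟨P.rep, P.rep_nonzero, P.mk_rep.symm⟩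
  show FormCl.pperm (Matrix.SpecialLinearGroup.toGL s.1) _ = _
  rw [FormCl.pperm_mk, FormCl.pperm_mk, Projectivization.mk_eq_mk_iff']
  haveI : Nonempty (Fin n) := ⟨⟨0, by omega⟩⟩
  have hc0 : c ≠ 0 := fun e => g.1.ne_zero (by rw [hg, e, zero_smul])
  refine ⟨c⁻¹, ?_⟩
  rw [hg, smul_mulVec, smul_smul, inv_mul_cancel₀ hc0, one_smul]
  rfl

theorem fin3_cases : ∀ a b : Fin 3, b = a ∨ b = a + 1 ∨ b = a + 2 := by decide

theorem fin3_succ : ∀ i : Fin 3, i + 1 + 1 = i + 2 ∧ i + 1 + 2 = i := by decide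

/-- in `PSU_3(2)` a normal `2`-group of fixed points is trivial -/
theorem small_trivial {C : UCtx F q} (hodd : Odd (orderOf σ)) (hq : Nat.card (fixedField σ) = 4)
    (Y : Subgroup (Cfsg.PSU 3 F q))
    (hYf : ∀ y ∈ Y, C.ind (1 : ↥(Cfsg.GU 3 F q)) σ y = y)
    (hYn : ∀ k, C.ind (1 : ↥(Cfsg.GU 3 F q)) σ k = k → ∀ y ∈ Y, k * y * k⁻¹ ∈ Y) (hY2 : IsPGroup 2 Y) :
    ∀ y ∈ Y, y = 1 := by
  classical
  have hn : 3 ≤ 3 := le_rfl
  haveI : Fintype (fixedField σ) := Fintype.ofFinite _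
  have hq' : Fintype.card (fixedField σ) = 4 := by rw [← Nat.card_eq_fintype_card]; exact hq
  have h2 : (2 : F) = 0 := by
    have h := congrArg (fixedField σ).subtype (FiniteField.cast_card_eq_zero (fixedField σ))
    rw [hq', map_natCast, map_zero] at h
    have h' : (4 : F) = 0 := by simpa using h
    exact mul_self_eq_zero.1 (show (2 : F) * 2 = 0 by linear_combination h')
  -- fixed elements have norm one
  have hnorm1 : ∀ x : F, σ x = x → x ≠ 0 → x * C.bar x = 1 := by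
    intro x hx hx0
    have h3 : x ^ 3 = 1 := by
      have hne : (⟨x, hx⟩ : fixedField σ) ≠ 0 := fun e => hx0 (congrArg Subtype.val e)
      have := congrArg Subtype.val (FiniteField.pow_card_sub_one_eq_one _ hne)
      rw [hq'] at this
      simpa using this
    obtain ⟨N, hN⟩ : ∃ N, N = x * C.bar x := ⟨_, rfl⟩
    have hNb : C.bar N = N := by rw [hN, map_mul, C.bar_bar, mul_comm]
    have hNf : σ N = N := by rw [hN, map_mul, ← C.bar_apply_comm, hx]
    have hN3 : N ^ 3 = 1 := by rw [hN, mul_pow, ← map_pow, h3, map_one, mul_one]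
    by_contra hne
    rw [← hN] at hne
    -- `N` generates the fixed field, which then is fixed by the conjugation
    obtain ⟨t, -, ht, htb, htt⟩ := exists_unit C hodd
    have hroots : ∀ y : F, σ y = y → y = 0 ∨ y = 1 ∨ y = N ∨ y = N * N := by
      intro y hy
      by_contra hcon
      simp only [not_or] at hcon
      have hN0 : N ≠ 0 := fun e => by rw [e, zero_pow (by norm_num)] at hN3; exact zero_ne_one hN3
      have hNN : N * N ≠ N := fun e => hne (mul_left_cancel₀ hN0 (by rw [e, mul_one]))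
      have hNN1 : N * N ≠ 1 := fun e => hne (by linear_combination hN3 - N * e)
      have h5 : 5 ≤ Fintype.card (fixedField σ) := by
        refine le_trans ?_ (Finset.card_le_univ ({0, 1, ⟨N, hNf⟩, ⟨N * N, by show σ _ = _; rw [map_mul, hNf]⟩,
          ⟨y, hy⟩} : Finset (fixedField σ)))
        rw [Finset.card_insert_of_notMem, Finset.card_insert_of_notMem, Finset.card_insert_of_notMem,
          Finset.card_pair]
        · exact fun e => hcon.2.2.2 (congrArg Subtype.val e).symm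
        · simp only [Finset.mem_insert, Finset.mem_singleton, not_or]
          exact ⟨fun e => hNN (congrArg Subtype.val e).symm, fun e => hcon.2.2.1 (congrArg Subtype.val e).symm⟩
        · simp only [Finset.mem_insert, Finset.mem_singleton, not_or]
          exact ⟨fun e => hne (congrArg Subtype.val e).symm, fun e => hNN1 (congrArg Subtype.val e).symm,
            fun e => hcon.2.1 (congrArg Subtype.val e).symm⟩
        · simp only [Finset.mem_insert, Finset.mem_singleton, not_or]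
          exact ⟨fun e => zero_ne_one (congrArg Subtype.val e), fun e => hN0 (congrArg Subtype.val e).symm,
            fun e => mul_ne_zero hN0 hN0 (congrArg Subtype.val e).symm, fun e => hcon.1 (congrArg Subtype.val e).symm⟩
      omega
    have hbt : C.bar t = t := by
      rcases hroots t ht with e | e | e | e <;> simp [e, hNb]
    exact htt (by rw [hbt] at htb; exact htb)
  have hab : ∀ i : Fin 3, i + 1 ≠ i + 2 ∧ i + 1 ≠ i ∧ i + 2 ≠ i := by decide
  let vec : Fin 3 → F → (Fin 3 → F) := fun i w => Pi.single (i + 1) 1 + w • Pi.single (i + 2) 1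
  have hvec : ∀ i w, vec i w i = 0 ∧ vec i w (i + 1) = 1 ∧ vec i w (i + 2) = w := fun i w => by
    obtain ⟨h1, h3, h4⟩ := hab i
    simp [vec, h1, h1.symm, h3.symm, h4.symm]
  have hvec0 : ∀ i w, vec i w ≠ 0 := fun i w e => one_ne_zero (α := F) (by
    rw [← (hvec i w).2.1, e, Pi.zero_apply])
  let ψ : Fin 3 × (fixedField σ)ˣ → ℙ F (Fin 3 → F) := fun x =>
    Projectivization.mk F (vec x.1 ((x.2 : fixedField σ) : F)) (hvec0 _ _)
  have hψ : Function.Injective ψ := by
    rintro ⟨i, w⟩ ⟨i', w'⟩ e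
    obtain ⟨l, hl⟩ := (Projectivization.mk_eq_mk_iff' F _ _ _ _).1 e
    have hw0 : ((w : fixedField σ) : F) ≠ 0 := fun e1 => w.ne_zero (Subtype.ext e1)
    have hl0 : l ≠ 0 := fun e1 => hvec0 i ((w : fixedField σ) : F) (by rw [← hl, e1, zero_smul])
    have hii : i = i' := by
      by_contra hne
      have h1 := congrFun hl i'
      rw [Pi.smul_apply, (hvec i' _).1, smul_zero] at h1
      rcases (fin3_cases i i').resolve_left (Ne.symm hne) with e1 | e1
      · rw [e1, (hvec i _).2.1] at h1; exact zero_ne_one h1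
      · rw [e1, (hvec i _).2.2] at h1; exact hw0 h1.symm
    subst hii
    have h1 := congrFun hl (i + 1)
    have h3 := congrFun hl (i + 2)
    rw [Pi.smul_apply, (hvec i _).2.1, (hvec i _).2.1, smul_eq_mul, mul_one] at h1
    rw [Pi.smul_apply, (hvec i _).2.2, (hvec i _).2.2, smul_eq_mul, h1, one_mul] at h3
    rw [Units.ext (Subtype.ext h3.symm : (w : fixedField σ) = w')]
  set Ω : Set (ℙ F (Fin 3 → F)) := Set.range ψ
  have hΩcard : Nat.card Ω = 9 := by
    rw [Nat.card_range_of_injective hψ, Nat.card_prod, Nat.card_units, hq, Nat.card_eq_fintype_card, Fintype.card_fin]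
  -- invariance under fixed unitary matrices
  have hinv : ∀ g : ↥(Cfsg.GU 3 F q), C.guField σ g = g → ∀ P ∈ Ω, FormCl.pperm g.1 P ∈ Ω := by
    rintro g hg _ ⟨⟨i, w⟩, rfl⟩
    have hwf : σ ((w : fixedField σ) : F) = ((w : fixedField σ) : F) := (w : fixedField σ).2
    have hw0 : ((w : fixedField σ) : F) ≠ 0 := fun e1 => w.ne_zero (Subtype.ext e1)
    obtain ⟨u, hudef⟩ : ∃ u, u = g.1.1 *ᵥ vec i ((w : fixedField σ) : F) := ⟨_, rfl⟩
    have hfix : ∀ a, σ (u a) = u a := fun a => by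
      rw [hudef, mulVec, dotProduct, map_sum]
      refine Finset.sum_congr rfl fun b _ => ?_
      rw [map_mul, show σ (g.1.1 a b) = g.1.1 a b from congrArg (fun X : ↥(Cfsg.GU 3 F q) => X.1.1 a b) hg]
      congr 1
      simp only [vec, Pi.add_apply, Pi.smul_apply, Pi.single_apply, smul_eq_mul]
      split_ifs <;> simp [hwf]
    have hiso : C.form u u = 0 := by
      rw [hudef, C.mem_gu_iff.1 g.2]
      obtain ⟨h1, h3, h4⟩ := hab i
      rw [UCtx.form, ← Finset.sum_subset (Finset.subset_univ ({i + 1, i + 2} : Finset (Fin 3))) fun b _ hb => ?_,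
        Finset.sum_pair h1, (hvec i _).2.1, (hvec i _).2.2, map_one, one_mul, hnorm1 _ hwf hw0]
      · linear_combination h2
      · simp only [Finset.mem_insert, Finset.mem_singleton, not_or] at hb
        simp [vec, hb.1, hb.2]
    have hu0 : u ≠ 0 := hudef ▸ FormCl.gl_mulVec_ne g.1 (hvec0 _ _)
    have hterm : ∀ a, u a * C.bar (u a) = if u a = 0 then 0 else 1 := fun a => by
      split_ifs with h
      · rw [h, zero_mul]
      · exact hnorm1 _ (hfix a) h
    rw [UCtx.form, Finset.sum_congr rfl fun a _ => hterm a, Fin.sum_univ_three] at hiso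
    -- exactly two coordinates are non-zero
    obtain ⟨a, ha, ha1, ha2⟩ : ∃ a, u a = 0 ∧ u (a + 1) ≠ 0 ∧ u (a + 2) ≠ 0 := by
      by_cases e0 : u 0 = 0 <;> by_cases e1 : u 1 = 0 <;> by_cases e2 : u 2 = 0 <;>
        simp [e0, e1, e2] at hiso
      · exact absurd (funext fun b => by fin_cases b <;> assumption) hu0
      · exact ⟨0, e0, e1, e2⟩
      · exact ⟨1, e1, e2, e0⟩
      · exact ⟨2, e2, e0, e1⟩
      · exact absurd hiso (by rw [one_add_one_eq_two, h2, zero_add]; exact one_ne_zero)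
    refine ⟨⟨a, Units.mk0 ⟨u (a + 2) / u (a + 1), by show σ _ = _; rw [map_div₀, hfix, hfix]⟩
      (fun e => div_ne_zero ha2 ha1 (congrArg Subtype.val e))⟩, ?_⟩
    show Projectivization.mk F _ _ = FormCl.pperm g.1 (Projectivization.mk F _ _)
    rw [FormCl.pperm_mk, Projectivization.mk_eq_mk_iff']
    refine ⟨(u (a + 1))⁻¹, ?_⟩
    rw [← hudef]
    funext b
    obtain ⟨k1, k2, k3⟩ := hvec a (u (a + 2) / u (a + 1))
    rcases fin3_cases a b with rfl | rfl | rfl
    · rw [Pi.smul_apply, ha, smul_zero]; exact k1.symm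
    · rw [Pi.smul_apply, smul_eq_mul, inv_mul_cancel₀ ha1]; exact k2.symm
    · rw [Pi.smul_apply, smul_eq_mul, inv_mul_eq_div]; exact k3.symm
  let act : Cfsg.PSU 3 F q →* Equiv.Perm (ℙ F (Fin 3 → F)) := ptAct C hn
  have hactY : ∀ k, C.ind (1 : ↥(Cfsg.GU 3 F q)) σ k = k → ∀ P ∈ Ω, act k P ∈ Ω := fun k hk P hP => by
    obtain ⟨g, hg, hgk⟩ := exists_fixed_lift C hn rfl hodd hk
    show ptAct C hn k P ∈ Ω
    rw [ptAct_lift C hn hgk]
    exact hinv g hg P hP
  letI : MulAction Y Ω :=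
    { smul := fun y P => ⟨act y.1 P.1, hactY y.1 (hYf y.1 y.2) P.1 P.2⟩
      one_smul := fun P => Subtype.ext (show act (1 : Cfsg.PSU 3 F q) P.1 = P.1 by rw [map_one]; rfl)
      mul_smul := fun y z P => Subtype.ext (show act (y.1 * z.1) P.1 = act y.1 (act z.1 P.1) by rw [map_mul]; rfl) }
  haveI : Fact (Nat.Prime 2) := ⟨Nat.prime_two⟩
  obtain ⟨P0, hP0⟩ := hY2.nonempty_fixed_point_of_prime_not_dvd_card Ω (by rw [hΩcard]; norm_num)
  let Fixd : Set (ℙ F (Fin 3 → F)) := {P | ∀ y ∈ Y, act y P = P}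
  have hF0 : P0.1 ∈ Fixd := fun y hy => congrArg Subtype.val (hP0 ⟨y, hy⟩)
  -- the fixed set is invariant
  have hFinv : ∀ s : ↥(Cfsg.SU 3 F q), s.1.1.map σ = s.1.1 → ∀ P ∈ Fixd, act (pr s) P ∈ Fixd := by
    intro s hs P hP y hy
    have hk := fixPSU_fix C σ _ (mem_fixPSU C hs)
    have h1 := hP _ (hYn ((pr s)⁻¹) (by rw [map_inv, hk]) y hy)
    rw [inv_inv, map_mul, map_mul, map_inv, Equiv.Perm.mul_apply, Equiv.Perm.mul_apply, Equiv.Perm.inv_eq_iff_eq] at h1
    exact h1
  have hΩF : ∀ x, ψ x ∈ Fixd := by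
    obtain ⟨⟨i, w⟩, hx0⟩ := P0.2
    rw [← hx0] at hF0
    -- change the ratio
    have ratio : ∀ (i : Fin 3) (w w' : (fixedField σ)ˣ), ψ (i, w) ∈ Fixd → ψ (i, w') ∈ Fixd := by
      intro i w w' hw
      obtain ⟨t, htdef⟩ : ∃ t : F, t = (((w' / w : (fixedField σ)ˣ) : fixedField σ) : F) := ⟨_, rfl⟩
      have htf : σ t = t := htdef ▸ (((w' / w : (fixedField σ)ˣ) : fixedField σ)).2
      have ht0 : t ≠ 0 := htdef ▸ fun e => (w' / w).ne_zero (Subtype.ext e)
      obtain ⟨h1, h3, h4⟩ := hab i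
      obtain ⟨s, hs⟩ := exists_diag C (i := i + 2) (j := i) h4 (hnorm1 t htf ht0)
      have h5 := hFinv s (by
        rw [hs, Matrix.diagonal_map (map_zero σ)]
        refine congrArg _ (funext fun k => ?_)
        split_ifs <;> simp [htf]) _ hw
      convert h5 using 1
      show Projectivization.mk F _ _ = FormCl.pperm (Matrix.SpecialLinearGroup.toGL s.1) _
      rw [FormCl.pperm_mk, Projectivization.mk_eq_mk_iff']
      refine ⟨1, ?_⟩
      rw [one_smul]
      funext b
      show (s.1.1 *ᵥ _) b = _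
      rw [hs, mulVec_diagonal]
      obtain ⟨k1, k2, k3⟩ := hvec i ((w : fixedField σ) : F)
      obtain ⟨k1', k2', k3'⟩ := hvec i ((w' : fixedField σ) : F)
      rcases fin3_cases i b with rfl | rfl | rfl
      · rw [k1, k1', mul_zero]
      · rw [k2, k2', if_neg h1, if_neg h3, one_mul]
      · rw [k3, k3', if_pos rfl, htdef]
        rw [← Subfield.coe_mul, ← Units.val_mul, div_mul_cancel]
    -- change the support
    have supp : ∀ i, ψ (i, 1) ∈ Fixd → ψ (i + 1, 1) ∈ Fixd := by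
      intro i hi
      obtain ⟨h1, h3, h4⟩ := hab i
      obtain ⟨s, hs⟩ := exists_srot C (i := i + 1) (j := i) h3
      have h5 := hFinv s (by rw [hs, srot_map_self]) _ hi
      convert h5 using 1
      show Projectivization.mk F _ _ = FormCl.pperm (Matrix.SpecialLinearGroup.toGL s.1) _
      rw [FormCl.pperm_mk, Projectivization.mk_eq_mk_iff']
      refine ⟨1, ?_⟩
      rw [one_smul]
      show s.1.1 *ᵥ _ = _
      rw [hs, SignScalar.srot_eq_swap h2 h3]
      funext b
      obtain ⟨k1, k2, k3⟩ := hvec i (((1 : (fixedField σ)ˣ) : fixedField σ) : F)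
      obtain ⟨k1', k2', k3'⟩ := hvec (i + 1) (((1 : (fixedField σ)ˣ) : fixedField σ) : F)
      rw [(fin3_succ i).1] at k2'
      rw [(fin3_succ i).2] at k3'
      show (Matrix.swap F (i + 1) i *ᵥ vec i (((1 : (fixedField σ)ˣ) : fixedField σ) : F)) b =
        vec (i + 1) (((1 : (fixedField σ)ˣ) : fixedField σ) : F) b
      rw [Matrix.swap_mulVec, Function.comp_apply]
      rcases fin3_cases i b with rfl | rfl | rfl
      · rw [Equiv.swap_apply_right, k2, k3']; rfl
      · rw [Equiv.swap_apply_left, k1, k1']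
      · rw [Equiv.swap_apply_of_ne_of_ne h1.symm h4, k3, k2']; rfl
    have all : ∀ i, ψ (i, 1) ∈ Fixd := by
      have e0 := ratio i w 1 hF0
      have e1 := supp _ e0
      have e2 := supp _ e1
      intro b
      rcases (show b = i ∨ b = i + 1 ∨ b = i + 1 + 1 by rw [(fin3_succ i).1]; exact fin3_cases i b) with rfl | rfl | rfl <;> assumption
    exact fun x => ratio x.1 1 x.2 (all x.1)
  -- a matrix fixing these points is scalar
  intro y hy
  obtain ⟨s, rfl⟩ := QuotientGroup.mk'_surjective _ y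
  have heig : ∀ (i : Fin 3) (w : (fixedField σ)ˣ), ∃ l : F,
      s.1.1 *ᵥ vec i ((w : fixedField σ) : F) = l • vec i ((w : fixedField σ) : F) := fun i w => by
    have h1 : FormCl.pperm (Matrix.SpecialLinearGroup.toGL s.1) (ψ (i, w)) = ψ (i, w) := hΩF (i, w) _ hy
    obtain ⟨l, hl⟩ := (Projectivization.mk_eq_mk_iff' F _ _ _ _).1
      ((FormCl.pperm_mk (Matrix.SpecialLinearGroup.toGL s.1) (hvec0 i ((w : fixedField σ) : F))).symm.trans h1)
    exact ⟨l, hl.symm⟩
  obtain ⟨t, ht0, ht, -, htt⟩ := exists_unit C hodd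
  have ht1 : t ≠ 1 := fun e => htt (by rw [e, mul_one])
  obtain ⟨wt, hwt⟩ : ∃ wt : (fixedField σ)ˣ, ((wt : fixedField σ) : F) = t :=
    ⟨Units.mk0 ⟨t, ht⟩ (fun e => ht0 (congrArg Subtype.val e)), rfl⟩
  have key : ∀ i : Fin 3, s.1.1 i (i + 1) = 0 ∧ s.1.1 i (i + 2) = 0 ∧
      s.1.1 (i + 1) (i + 1) + s.1.1 (i + 1) (i + 2) = s.1.1 (i + 2) (i + 1) + s.1.1 (i + 2) (i + 2) := by
    intro i
    obtain ⟨l, hl⟩ := heig i 1
    obtain ⟨l', hl'⟩ := heig i wt
    rw [hwt] at hl'
    have e1 := congrFun hl i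
    have e2 := congrFun hl' i
    have e3 := congrFun hl (i + 1)
    have e4 := congrFun hl (i + 2)
    obtain ⟨k1, k2, k3⟩ := hvec i (1 : F)
    obtain ⟨k1', k2', k3'⟩ := hvec i t
    simp only [Units.val_one, OneMemClass.coe_one] at e1 e3 e4
    simp only [vec, mulVec_add, mulVec_smul, mulVec_single_one, Pi.add_apply, Pi.smul_apply, Matrix.col_apply,
      smul_eq_mul, one_mul, mul_one] at e1 e2 e3 e4 k1 k2 k3 k1' k2' k3'
    rw [k1, mul_zero] at e1
    rw [k1', mul_zero] at e2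
    rw [k2, mul_one] at e3
    rw [k3, mul_one] at e4
    have h5 : s.1.1 i (i + 2) = 0 := mul_left_cancel₀ (sub_ne_zero.2 ht1) (by linear_combination e2 - e1)
    refine ⟨by linear_combination e1 - h5, h5, by rw [e3, e4]⟩
  obtain ⟨a1, a2, a3⟩ := key 0
  obtain ⟨b1, b2, b3⟩ := key 1
  obtain ⟨c1, c2, c3⟩ := key 2
  simp only [Fin.reduceAdd, zero_add] at a1 a2 a3 b1 b2 b3 c1 c2 c3
  rw [b1, c2, add_zero, zero_add] at a3
  rw [c1, a2, add_zero, zero_add] at b3
  refine pr_eq_one_of_scalar hn (c := s.1.1 0 0) ?_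
  ext a b
  fin_cases a <;> fin_cases b <;> simp [a1, a2, b1, b2, c1, c2, a3, b3]

theorem fix_ne (hn : 3 ≤ n) (hodd : Odd (orderOf σ)) :
    ∃ k : Cfsg.PSU n F q, C.ind (1 : ↥(Cfsg.GU n F q)) σ k = k ∧ k ≠ 1 := by
  obtain ⟨t, ht0, ht, htb, htt⟩ := exists_unit C hodd
  have h01 : (⟨0, by omega⟩ : Fin n) ≠ ⟨1, by omega⟩ := by simp [Fin.ext_iff]
  obtain ⟨s, hs⟩ := exists_diag C h01 htb
  refine ⟨pr s, fixPSU_fix C σ _ (mem_fixPSU C ?_), fun e => ?_⟩
  · rw [hs, Matrix.diagonal_map (map_zero σ)]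
    refine congrArg _ (funext fun k => ?_)
    split_ifs <;> simp [*]
  · obtain ⟨c, hc⟩ := pr_eq_imp C hn (B := 1) (e.trans (map_one _).symm)
    have e0 := congrFun (congrFun hc ⟨0, by omega⟩) ⟨0, by omega⟩
    have e2 := congrFun (congrFun hc ⟨2, by omega⟩) ⟨2, by omega⟩
    rw [hs] at e0 e2
    simp [Fin.ext_iff] at e0 e2
    rw [← e2] at e0
    exact htt (by rw [e0, mul_one])

/-- cores of centralisers of standard field automorphisms of odd order -/
theorem field_core [Fintype F] {r f : ℕ} [Fact r.Prime] (hq : q = r ^ f) (hf : 1 ≤ f) (hF : Fintype.card F = q ^ 2)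
    (hC : ∀ β : MulAut (Cfsg.PSU n F q), ∃ g τ, β = C.ind g τ) (hn : 3 ≤ n) [hp : Fact p.Prime] (hodd : Odd p)
    (hpr : p ≠ r) (hσ : orderOf σ = p) (A : Subgroup (MulAut (Cfsg.PSU n F q))) (hinn : ∀ k, MulAut.conj k ∈ A) :
    Cfsg.pPrimeCore p ↥(A ⊓ Subgroup.centralizer {C.ind (1 : ↥(Cfsg.GU n F q)) σ}) ≠ ⊥ ↔
      Nat.Coprime p (Nat.card ↥(MonoidHom.eqLocus (C.ind (1 : ↥(Cfsg.GU n F q)) σ).toMonoidHom
        (MonoidHom.id (Cfsg.PSU n F q)))) := by
  classical
  haveI : Finite (Cfsg.PSU n F q) := Quotient.finite _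
  have hσodd : Odd (orderOf σ) := hσ ▸ hodd
  refine BalanceSet.core_ne_bot_iff (conj_injective C hn) A hinn _ (by rw [C.orderOf_fieldHom hn, hσ]) (fun k hk => ?_)
    (fixPSU (n := n) C σ : Set (Cfsg.PSU n F q)) (fixPSU_fix C σ) (fix_ne C hn hσodd) (fun a _ h => ?_) ?_
  · obtain ⟨s, rfl⟩ := QuotientGroup.mk'_surjective _ k
    have h1 : C.ind (toGU s) 1 = C.ind (1 : ↥(Cfsg.GU n F q)) σ := (conj_pr C s).symm.trans hk
    have h2 : C.ind (toGU s)⁻¹ 1 * C.ind (1 : ↥(Cfsg.GU n F q)) σ = 1 := by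
      rw [← h1, ← C.indHom_apply, ← C.indHom_apply, ← map_mul, inv_mul_cancel, map_one]
    rw [C.ind_mul, one_mul] at h2
    obtain ⟨rfl, -⟩ := C.eq_one_of_ind_eq_one hn h2
    rw [orderOf_one] at hσ
    exact hp.out.one_lt.ne hσ
  · obtain ⟨g, τ, rfl⟩ := hC a
    exact fix_cent C hn hσodd g τ h
  intro hd Y hYf hYn hYp y hy k hk
  haveI : Fintype (fixedField σ) := Fintype.ofFinite _
  have hrf := dvd_of_orderOf hq hF hσ hodd
  have hc : Fintype.card (fixedField σ) = r ^ (2 * (f / p)) := by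
    have hF' : Fintype.card F = r ^ (2 * f) := by rw [hF, hq, ← pow_mul, mul_comm]
    rw [← Nat.card_eq_fintype_card, (card_fixedField (Fact.out : r.Prime) hF' hσ hp.out.pos).2,
      Nat.mul_div_assoc 2 hrf]
  obtain ⟨C₀, j, hS⟩ := exists_isSub hq hf hF C hσ hodd (fixedField σ) hc
  have hF₀ : Fintype.card (fixedField σ) = (r ^ (f / p)) ^ 2 := by rw [hc, ← pow_mul, mul_comm]
  by_cases hsmall : n = 3 ∧ r ^ (f / p) = 2
  · obtain ⟨rfl, h2⟩ := hsmall
    revert hS C₀
    rw [h2]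
    intro C₀ hS
    have hF4 : Fintype.card (fixedField σ) = 2 ^ 2 := by rw [hF₀, h2]
    -- the fixed points embed in `PGU_3(2)`
    have hH : Nat.card ↥(MonoidHom.eqLocus (C.ind (1 : ↥(Cfsg.GU 3 F q)) σ).toMonoidHom
        (MonoidHom.id (Cfsg.PSU 3 F q))) ∣ 2 ^ 3 * 3 ^ 4 := by
      have hcard : Nat.card ↥(Cfsg.GU 3 (fixedField σ) 2) = 2 ^ 3 * 3 ^ 4 := by
        rw [CfsgLib.Classical.card_gu_formula C₀ hF4 3]
        simp [Finset.prod_range_succ]
      refine hcard ▸ dvd_trans ?_ (Subgroup.card_range_dvd (C.indHom.comp (hS.guMap (n := 3))))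
      refine Subgroup.card_dvd_of_injective
        ((MulAut.conj.comp (Subgroup.subtype _)).codRestrict (C.indHom.comp (hS.guMap (n := 3))).range fun k => ?_)
        fun a b hab => Subtype.ext (conj_injective C hn (congrArg Subtype.val hab))
      obtain ⟨g, hg, hgk⟩ := exists_fixed_lift C hn hσ hodd (show C.ind (1 : ↥(Cfsg.GU 3 F q)) σ k.1 = k.1 from k.2)
      obtain ⟨u, hu⟩ := hS.exists_lift hg
      exact ⟨u, by rw [MonoidHom.comp_apply, hu, hgk]; rfl⟩
    have hp3 : p = 3 := by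
      rcases hp.out.dvd_mul.1 (hd.trans hH) with h | h
      · exact absurd ((Nat.prime_dvd_prime_iff_eq hp.out Nat.prime_two).1 (hp.out.dvd_of_dvd_pow h))
          (fun e => by rw [e] at hodd; exact absurd hodd (by decide))
      · exact (Nat.prime_dvd_prime_iff_eq hp.out Nat.prime_three).1 (hp.out.dvd_of_dvd_pow h)
    subst hp3
    have hY8 : Nat.card Y ∣ 2 ^ 3 :=
      ((Nat.prime_three.coprime_iff_not_dvd.2 hYp).symm.pow_right 4).dvd_of_dvd_mul_right
        ((Subgroup.card_dvd_of_le fun y hy => hYf y hy).trans hH)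
    haveI : Fact (Nat.Prime 2) := ⟨Nat.prime_two⟩
    obtain ⟨e, -, he⟩ := (Nat.dvd_prime_pow Nat.prime_two).1 hY8
    rw [small_trivial (C := C) hσodd (by rw [Nat.card_eq_fintype_card, hF4]; norm_num) Y hYf hYn
      (IsPGroup.of_card he) y hy, one_mul, mul_one]
  · haveI := fixPSU_simple C hn hσodd hS hF₀ hsmall
    set N := fixPSU (n := n) C σ
    haveI : (Y.subgroupOf N).Normal := ⟨fun u hu c => by
      rw [Subgroup.mem_subgroupOf] at hu ⊢
      exact hYn c.1 (fixPSU_fix C σ _ c.2) _ hu⟩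
    rcases IsSimpleGroup.eq_bot_or_eq_top_of_normal (Y.subgroupOf N) inferInstance with h | h
    · have hm : y * k * y⁻¹ * k⁻¹ ∈ Y ⊓ N := by
        refine Subgroup.mem_inf.2 ⟨?_, mul_mem (fixPSU_normal C (hYf y hy) hk) (inv_mem hk)⟩
        rw [show y * k * y⁻¹ * k⁻¹ = y * (k * y⁻¹ * k⁻¹) by group]
        exact mul_mem hy (hYn k (fixPSU_fix C σ k hk) _ (inv_mem hy))
      have h1 : (⟨_, hm.2⟩ : N) ∈ Y.subgroupOf N := hm.1
      rw [h, Subgroup.mem_bot] at h1
      have h5 : y * k * y⁻¹ * k⁻¹ = 1 := congrArg Subtype.val h1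
      rwa [mul_inv_eq_one, mul_inv_eq_iff_eq_mul] at h5
    · exfalso
      obtain ⟨u, hu, hup⟩ := exists_order_p C hn hσ hodd hd
      refine hYp (dvd_trans ?_ (Subgroup.card_dvd_of_le (Subgroup.subgroupOf_eq_top.1 h)))
      rw [← hup, ← Subgroup.orderOf_mk u hu]
      exact orderOf_dvd_natCard _

end CfsgLib.SU
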