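import Cfsg.Agent.Lib.SU.BalanceBase
import Cfsg.Agent.Lib.FormClass.PSU
import Cfsg.Agent.Lib.FormClass.NoOdd
import Cfsg.Agent.Lib.AutPSL.BalanceField

/-!
# Cores of centralisers of graph involutions of `PSU_n`
-/

set_option autoImplicit false
set_option linter.all false

namespace CfsgLib.SU

open Matrix CfsgLib.Descent

variable {F : Type*} [Field F] [Finite F] {q : ℕ} {C : UCtx F q} {n : ℕ}
variable {F₀ : Type*} [Field F₀] (S : FormCl.SubF C F₀)

omit [Finite F] in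
theorem lift_mul {X : GL (Fin n) F} {k k' : Matrix (Fin n) (Fin n) F₀} {g g' : Matrix (Fin n) (Fin n) F}
    (h : FormCl.Lift S X X k g) (h' : FormCl.Lift S X X k' g') : FormCl.Lift S X X (k * k') (g * g') := by
  obtain ⟨r, hr, h1⟩ := h
  obtain ⟨r', hr', h2⟩ := h'
  refine ⟨r * r', mul_ne_zero hr hr', ?_⟩
  rw [Matrix.mul_assoc, h2, Matrix.mul_smul, ← Matrix.mul_assoc, h1, Matrix.smul_mul, smul_smul, Matrix.mul_assoc,
    ← FormCl.jmat_mul, mul_comm r]

omit [Finite F] in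
theorem lift_inv {X : GL (Fin n) F} {k : GL (Fin n) F₀} {g : GL (Fin n) F}
    (h : FormCl.Lift S X X k.1 g.1) : FormCl.Lift S X X (k⁻¹).1 (g⁻¹).1 := by
  obtain ⟨r, hr, h1⟩ := h
  refine ⟨r⁻¹, inv_ne_zero hr, ?_⟩
  have h2 : X.1 = r • ((g⁻¹).1 * X.1 * FormCl.jmat S k.1) := by
    have : (g⁻¹).1 * (g.1 * X.1) = (g⁻¹).1 * (r • (X.1 * FormCl.jmat S k.1)) := congrArg ((g⁻¹).1 * ·) h1
    rwa [← Matrix.mul_assoc, ← Units.val_mul, inv_mul_cancel, Units.val_one, Matrix.one_mul, Matrix.mul_smul,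
      ← Matrix.mul_assoc] at this
  conv_rhs => rw [h2]
  rw [Matrix.smul_mul, smul_smul, inv_mul_cancel₀ hr, one_smul, Matrix.mul_assoc _ (FormCl.jmat S k.1),
    ← FormCl.jmat_mul, ← Units.val_mul k, mul_inv_cancel, Units.val_one, FormCl.jmat_one, Matrix.mul_one]

omit [Finite F] in
theorem lift_one (X : GL (Fin n) F) : FormCl.Lift S X X (1 : Matrix (Fin n) (Fin n) F₀) (1 : Matrix (Fin n) (Fin n) F) :=
  ⟨1, one_ne_zero, by rw [FormCl.jmat_one, Matrix.mul_one, Matrix.one_mul, one_smul]⟩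

omit [Finite F] in
theorem lift_scalar [NeZero n] {X : GL (Fin n) F} {k : Matrix (Fin n) (Fin n) F₀} {g : Matrix (Fin n) (Fin n) F} {s : F}
    (h : FormCl.Lift S X X k g) (hs : g = s • 1) : ∃ c : F₀, k = c • 1 := by
  obtain ⟨r, hr, h1⟩ := h
  have hXX : (X⁻¹).1 * X.1 = 1 := by rw [← Units.val_mul, inv_mul_cancel, Units.val_one]
  rw [hs, Matrix.smul_mul, Matrix.one_mul] at h1
  have h2 := congrArg ((X⁻¹).1 * ·) h1
  simp only [Matrix.mul_smul] at h2
  rw [hXX, ← Matrix.mul_assoc, hXX, Matrix.one_mul] at h2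
  have h3 : FormCl.jmat S k = (r⁻¹ * s) • 1 := by
    rw [← smul_smul, h2, smul_smul, inv_mul_cancel₀ hr, one_smul]
  refine ⟨k 0 0, FormCl.jmat_inj S ?_⟩
  have h4 := congrFun (congrFun h3 0) 0
  simp [FormCl.jmat] at h4
  rw [FormCl.jmat_smul, FormCl.jmat_one, h3, h4]

omit [Finite F] in
theorem scalar_of_lift {X : GL (Fin n) F} {k : Matrix (Fin n) (Fin n) F₀} {g : Matrix (Fin n) (Fin n) F} {c : F₀}
    (h : FormCl.Lift S X X k g) (hc : k = c • 1) : ∃ s : F, g = s • 1 := by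
  obtain ⟨r, hr, h1⟩ := h
  rw [hc, FormCl.jmat_smul, FormCl.jmat_one, Matrix.mul_smul, Matrix.mul_one, smul_smul] at h1
  refine ⟨r * S.j c, ?_⟩
  have h2 := congrArg (· * (X⁻¹).1) h1
  simp only [Matrix.mul_assoc, Matrix.smul_mul, ← Units.val_mul, mul_inv_cancel, Units.val_one, Matrix.mul_one] at h2
  exact h2

/-- the norm of the scalar of a lift -/
theorem lift_norm {A : ↥(Cfsg.GU n F q)} {X : GL (Fin n) F} {M : Matrix (Fin n) (Fin n) F₀}
    (h : FormCl.Desc S A X M) (g : ↥(Cfsg.GU n F q)) (k : Matrix (Fin n) (Fin n) F₀) (r : F) (c : F₀)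
    (hgX : g.1.1 * X.1 = r • (X.1 * FormCl.jmat S k)) (hk : kᵀ * M * k = c • M) [NeZero n] :
    r * C.bar r * S.j c = 1 := by
  obtain ⟨-, hd, -, ζ, hζ0, hζ⟩ := h
  obtain ⟨H, hH⟩ : ∃ H, H = X.1ᵀ * FormCl.cmat C X.1 := ⟨_, rfl⟩
  rw [← hH] at hζ
  have h1 : (g.1.1 * X.1)ᵀ * FormCl.cmat C (g.1.1 * X.1) = H := by
    rw [FormCl.cmat_mul, Matrix.transpose_mul, Matrix.mul_assoc, ← Matrix.mul_assoc g.1.1ᵀ, FormCl.gu_mat C g,
      Matrix.one_mul, hH]
  have h2 : (FormCl.jmat S k)ᵀ * H * FormCl.jmat S k = S.j c • H := by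
    have h3 := congrArg (FormCl.jmat S) hk
    rw [FormCl.jmat_mul, FormCl.jmat_mul, FormCl.jmat_transpose, FormCl.jmat_smul, hζ, Matrix.mul_smul, Matrix.smul_mul,
      smul_comm (S.j c)] at h3
    exact smul_right_injective _ hζ0 h3
  rw [hgX, FormCl.cmat_smul, FormCl.cmat_mul, FormCl.cmat_jmat, Matrix.transpose_smul, Matrix.smul_mul, Matrix.mul_smul,
    smul_smul, Matrix.transpose_mul,
    show (FormCl.jmat S k)ᵀ * X.1ᵀ * (FormCl.cmat C X.1 * FormCl.jmat S k) =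
      (FormCl.jmat S k)ᵀ * H * FormCl.jmat S k by simp only [hH, Matrix.mul_assoc], h2, smul_smul] at h1
  have hH0 : H ≠ 0 := fun hh => hd (S.j.injective (by
    rw [← FormCl.jmat_det, hζ, hh, smul_zero, Matrix.det_zero, map_zero]))
  exact smul_left_injective F hH0 (show (r * C.bar r * S.j c) • H = (1 : F) • H by rw [one_smul, h1])

variable [Fintype F₀]

/-- the points coming from Siegel transvections -/
def siegU (X : GL (Fin n) F) (M : Matrix (Fin n) (Fin n) F₀) (s : F₀) : Set (Cfsg.PSU n F q) :=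
  {k | ∃ (V : ↥(Cfsg.SU n F q)) (U : GL (Fin n) F₀), FormCl.Sieg M s U ∧
    V.1.1 * X.1 = X.1 * FormCl.jmat S U.1 ∧ k = pr V}

theorem exists_siegU (hn : 3 ≤ n) {A : ↥(Cfsg.GU n F q)} {X : GL (Fin n) F} {M : Matrix (Fin n) (Fin n) F₀} {s : F₀}
    (hD : FormCl.Desc S A X M) (hF : FormCl.OddForm M s) {U : GL (Fin n) F₀} (hU : FormCl.Sieg M s U) :
    ∃ V : ↥(Cfsg.SU n F q), V.1.1 * X.1 = X.1 * FormCl.jmat S U.1 ∧
      FormCl.gamU C A (pr V) = pr V := by
  haveI : NeZero n := ⟨by omega⟩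
  have hm : U.1ᵀ * M * U.1 = (1 : F₀) • M := by
    have := hF.sieg_mult hU
    simpa [FormCl.Mult] using this
  obtain ⟨g, t, r, hr, hgX, ht⟩ := FormCl.twist_of_lift S hD hD U one_ne_zero hm
  have hr1 := lift_norm S hD g U.1 r 1 hgX hm
  rw [map_one, mul_one] at hr1
  have hri : r⁻¹ * C.bar r⁻¹ = 1 := by rw [map_inv₀, ← mul_inv, hr1, inv_one]
  obtain ⟨g', hg', hgi⟩ : ∃ g' : ↥(Cfsg.GU n F q), g'.1.1 = r⁻¹ • g.1.1 ∧ C.indHom g' = C.indHom g := by
    refine ⟨C.gscal ⟨Units.mk0 r⁻¹ (inv_ne_zero hr), C.mem_unitOne.2 hri⟩ * g, ?_, ?_⟩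
    · show (C.gscal _).1.1 * g.1.1 = _
      rw [C.gscal_val, Matrix.smul_mul, Matrix.one_mul]; rfl
    · rw [C.indHom_apply, C.ind_gscal_mul, ← C.indHom_apply]
  have hgX' : g'.1.1 * X.1 = X.1 * FormCl.jmat S U.1 := by
    rw [hg', Matrix.smul_mul, hgX, smul_smul, inv_mul_cancel₀ hr, one_smul]
  have hd : g'.1.1.det = 1 := by
    have := congrArg Matrix.det hgX'
    rw [Matrix.det_mul, Matrix.det_mul, FormCl.jmat_det, hF.sieg_det hU, map_one, mul_one] at this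
    exact mul_right_cancel₀ ((Matrix.isUnit_iff_isUnit_det _).1 X.isUnit).ne_zero (this.trans (one_mul _).symm)
  obtain ⟨V, hV⟩ := exists_su C _ hd (C.mem_gu_iff_mat.1 g'.2)
  refine ⟨V, by rw [hV]; exact hgX', ?_⟩
  apply conj_injective C hn
  rw [← BalanceSet.conj_smul, conj_pr C, show toGU V = g' from Subtype.ext (Units.ext hV), hgi]
  rw [mul_inv_eq_iff_eq_mul]
  have := (FormCl.mem_centralizer_gamU hn A g).2 ⟨t, ht⟩
  rw [Subgroup.mem_centralizer_iff] at this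
  exact this _ rfl

theorem eq_one_or_bar {τ : RingAut F} (h : ∀ t : F₀, τ (S.j t) = S.j t) : τ = 1 ∨ τ = C.bar := by
  obtain ⟨k, hk⟩ := Subgroup.mem_zpowers_iff.1 (AutPSL.zpowers_of_fixed C.bar τ fun x hx => by
    obtain ⟨t, rfl⟩ := S.surj x hx
    exact h t)
  rw [← hk, ← zpow_mod_orderOf, C.order_two]
  rcases Int.emod_two_eq_zero_or_one k with e | e
  · exact Or.inl (by rw [show k % ((2 : ℕ) : ℤ) = 0 from e, zpow_zero])
  · exact Or.inr (by rw [show k % ((2 : ℕ) : ℤ) = 1 from e, zpow_one])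

/-- the fixed-point core for a graph involution -/
theorem graph_core (hn : 3 ≤ n) {A : ↥(Cfsg.GU n F q)} {X : GL (Fin n) F} {M : Matrix (Fin n) (Fin n) F₀}
    (hD : FormCl.Desc S A X M) (h2 : (2 : F₀) ≠ 0) (hord : orderOf (FormCl.gamU C A) = 2)
    (hC : ∀ β : MulAut (Cfsg.PSU n F q), ∃ g τ, β = C.ind g τ)
    (𝒢 : Subgroup (MulAut (Cfsg.PSU n F q))) (hinn : ∀ k, MulAut.conj k ∈ 𝒢) :
    Cfsg.pPrimeCore 2 ↥(𝒢 ⊓ Subgroup.centralizer {FormCl.gamU C A}) = ⊥ ∧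
      ¬ Nat.Coprime 2 (Nat.card ↥(MonoidHom.eqLocus (FormCl.gamU C A).toMonoidHom
        (MonoidHom.id (Cfsg.PSU n F q)))) := by
  classical
  haveI : NeZero n := ⟨by omega⟩
  haveI : Fact (Nat.Prime 2) := ⟨Nat.prime_two⟩
  haveI : Finite (Cfsg.PSU n F q) := Quotient.finite _
  obtain ⟨s, hF⟩ : ∃ s, FormCl.OddForm M s := by
    obtain ⟨-, hd, hM, -⟩ := hD
    rcases hM with h | h
    · exact ⟨1, h2, by rw [h, one_smul], Or.inl rfl, hd⟩
    · exact ⟨-1, h2, by rw [h, neg_one_smul], Or.inr rfl, hd⟩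
  have hfix : ∀ k ∈ siegU S X M s, FormCl.gamU C A k = k := by
    rintro _ ⟨V, U, hU, hVX, rfl⟩
    obtain ⟨V', hV', hV'f⟩ := exists_siegU S hn hD hF hU
    have e : V = V' := Subtype.ext (Subtype.ext
      (((Matrix.isUnit_iff_isUnit_det _).2 ((Matrix.isUnit_iff_isUnit_det _).1 X.isUnit)).mul_right_cancel
        (hVX.trans hV'.symm)))
    rw [e]; exact hV'f
  have hXX : X.1 * (X⁻¹).1 = 1 := by rw [← Units.val_mul, mul_inv_cancel, Units.val_one]
  have hXX' : (X⁻¹).1 * X.1 = 1 := by rw [← Units.val_mul, inv_mul_cancel, Units.val_one]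
  refine BalanceSet.core_bot_and_dvd (conj_injective C hn) 𝒢 hinn _ hord ?_ (siegU S X M s) hfix ?_ ?_ ?_
  · intro k hk
    obtain ⟨v, rfl⟩ := QuotientGroup.mk'_surjective _ k
    have h1 : C.ind (toGU v) 1 = C.ind A C.bar := (conj_pr C v).symm.trans hk
    have h3 : C.ind (toGU v)⁻¹ 1 * C.ind A C.bar = 1 := by
      rw [← h1, ← C.indHom_apply, ← C.indHom_apply, ← map_mul, inv_mul_cancel, map_one]
    rw [C.ind_mul, one_mul] at h3
    have h4 := (C.eq_one_of_ind_eq_one hn h3).1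
    have := C.order_two
    rw [h4, orderOf_one] at this
    exact absurd this (by decide)
  · obtain ⟨e, he0, he⟩ := hF.exists_singular hn
    obtain ⟨u, c, hu, hc, -, hne⟩ := hF.exists_u hn he0 he
    obtain ⟨U, hU, hUv⟩ := hF.exists_sieg he0 he hu hc
    obtain ⟨V, hVX, hVf⟩ := exists_siegU S hn hD hF hU
    refine ⟨pr V, hVf, fun h1 => ?_⟩
    obtain ⟨l, hl⟩ := scalar_of_indHom C hn (g := toGU V) (by rw [← conj_pr, h1, map_one])
    obtain ⟨a, ha⟩ := lift_scalar S (k := U.1) ⟨1, one_ne_zero, by rw [one_smul]; exact hVX⟩ hl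
    obtain ⟨x, hx⟩ := hF.exists_one he0
    have h5 := congrArg (· *ᵥ x) (hUv.symm.trans ha)
    simp only [Matrix.add_mulVec, Matrix.one_mulVec, FormCl.siegN_mulVec, hx, one_smul, Matrix.smul_mulVec] at h5
    have h6 : a = 1 := by
      have h7 := congrArg (fun v => FormCl.bl M v e) h5
      simp only [FormCl.bl_add_left, FormCl.bl_smul_left, hx, he, hF.perp_symm hu, add_zero, mul_zero, mul_one] at h7
      exact h7.symm
    rw [h6, one_smul, add_eq_left, add_eq_zero_iff_eq_neg, ← neg_smul] at h5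
    exact hne _ h5
  · intro a hax ha
    suffices hlin : ∀ (g : ↥(Cfsg.GU n F q)) τ, (∀ k ∈ siegU S X M s, C.ind g τ k = k) →
        (∀ t : F₀, τ (S.j t) = S.j t) ∧ (τ = 1 → C.ind g τ = 1) by
      obtain ⟨g, τ, rfl⟩ : ∃ g τ, a = C.ind g τ := hC a
      rcases eq_one_or_bar S (hlin g τ ha).1 with rfl | rfl
      · rw [(hlin g 1 ha).2 rfl]; exact one_mem _
      · apply BalanceSet.zpowers_of_mul
        have hb : C.bar * C.bar = 1 := by rw [← sq, ← C.order_two, pow_orderOf_eq_one]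
        have e : C.ind g C.bar * FormCl.gamU C A = C.ind (g * C.guField C.bar A) 1 := by
          rw [FormCl.gamU, C.ind_mul, hb]
        rw [e, (hlin _ 1 fun k hk => ?_).2 rfl]
        · exact one_mem _
        · rw [← e, MulAut.mul_apply, hfix k hk, ha k hk]
    intro g τ hfx
    obtain ⟨g', hg'⟩ : ∃ g' : GL (Fin n) F, g'.1 = (X⁻¹).1 * g.1.1 * X.1.map τ :=
      ⟨X⁻¹ * g.1 * Units.map τ.toRingHom.mapMatrix.toMonoidHom X, rfl⟩
    have key : ∀ U : GL (Fin n) F₀, FormCl.Sieg M s U →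
        g'.1 * (U.1.map S.j).map τ * (g'⁻¹).1 = U.1.map S.j := by
      intro U hU
      obtain ⟨V, hVX, hVf⟩ := exists_siegU S hn hD hF hU
      obtain ⟨c, hc⟩ := pr_eq_imp C hn (show pr (suConj g (C.suField τ V)) = pr V from hfx _ ⟨V, U, hU, hVX, rfl⟩)
      rw [suConj_val, C.suField_val] at hc
      have hc' : g.1.1 * V.1.1.map τ = c • (V.1.1 * g.1.1) := by
        have := congrArg (· * g.1.1) hc
        simp only [Matrix.mul_assoc, ← Units.val_mul, inv_mul_cancel, Units.val_one, Matrix.mul_one, Matrix.smul_mul] at this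
        exact this
      have h1 : g'.1 * (FormCl.jmat S U.1).map τ = c • (FormCl.jmat S U.1 * g'.1) := by
        rw [hg', Matrix.mul_assoc _ (X.1.map τ), ← Matrix.map_mul, ← hVX, Matrix.map_mul, ← Matrix.mul_assoc,
          Matrix.mul_assoc (X⁻¹).1, hc', Matrix.mul_smul, Matrix.smul_mul, ← Matrix.mul_assoc (X⁻¹).1,
          show (X⁻¹).1 * V.1.1 = FormCl.jmat S U.1 * (X⁻¹).1 from by
            calc (X⁻¹).1 * V.1.1 = (X⁻¹).1 * V.1.1 * (X.1 * (X⁻¹).1) := by rw [hXX, Matrix.mul_one]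
              _ = (X⁻¹).1 * (V.1.1 * X.1) * (X⁻¹).1 := by simp only [Matrix.mul_assoc]
              _ = FormCl.jmat S U.1 * (X⁻¹).1 := by rw [hVX, ← Matrix.mul_assoc, hXX', Matrix.one_mul]]
        simp only [Matrix.mul_assoc]
      have hc1 : g'.1 * (FormCl.jmat S U.1).map τ * (g'⁻¹).1 = c • FormCl.jmat S U.1 := by
        rw [h1, Matrix.smul_mul, Matrix.mul_assoc, ← Units.val_mul, mul_inv_cancel, Units.val_one, Matrix.mul_one]
      obtain ⟨e, u, b, he0, he, hu, hb, hUv⟩ := hU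
      obtain ⟨N, hN⟩ : ∃ N, N = FormCl.jmat S (FormCl.siegN M s e u b) := ⟨_, rfl⟩
      have hUN : FormCl.jmat S U.1 = 1 + N := by
        rw [hN, hUv]
        exact (Matrix.map_add _ (map_add S.j) _ _).trans (by rw [Matrix.map_one _ (map_zero S.j) (map_one S.j)]; rfl)
      have hN3 : N ^ 3 = 0 := by
        rw [hN, show FormCl.jmat S (FormCl.siegN M s e u b) = S.j.mapMatrix (FormCl.siegN M s e u b) from rfl,
          ← map_pow, hF.siegN_pow_three he hu, map_zero]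
      have hL : g'.1 * (N.map τ) * (g'⁻¹).1 = (c - 1) • 1 + c • N := by
        rw [hUN, Matrix.map_add _ (map_add τ), Matrix.map_one _ (map_zero τ) (map_one τ), Matrix.mul_add,
          Matrix.add_mul, Matrix.mul_one, ← Units.val_mul, mul_inv_cancel, Units.val_one, smul_add] at hc1
        rw [sub_smul, one_smul, sub_add_eq_add_sub, ← hc1, add_sub_cancel_left]
      have hcube : ((c - 1) • (1 : Matrix (Fin n) (Fin n) F) + c • N) ^ 3 = 0 := by
        rw [← hL, Units.conj_pow, ← RingEquiv.mapMatrix_apply, ← map_pow, hN3, map_zero, Matrix.mul_zero,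
          Matrix.zero_mul]
      have hje0 : (S.j ∘ e : Fin n → F) ≠ 0 := fun h => he0 (funext fun i => S.j.injective (by
        rw [Pi.zero_apply, map_zero]; exact congrFun h i))
      have hNe : N *ᵥ (S.j ∘ e) = 0 := by
        funext i
        rw [hN, FormCl.jmat, ← RingHom.map_mulVec, FormCl.siegN_mulVec, he, hu]
        simp
      have hev : ((c - 1) • (1 : Matrix (Fin n) (Fin n) F) + c • N) *ᵥ (S.j ∘ e) = (c - 1) • (S.j ∘ e) := by
        rw [Matrix.add_mulVec, Matrix.smul_mulVec, Matrix.smul_mulVec, hNe, smul_zero, add_zero, Matrix.one_mulVec]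
      have h3 : ((c - 1) * ((c - 1) * (c - 1))) • (S.j ∘ e) = 0 := by
        have := congrArg (fun Z => Z *ᵥ (S.j ∘ e)) hcube
        simp only [pow_succ, pow_zero, Matrix.one_mul, ← Matrix.mulVec_mulVec, hev, Matrix.mulVec_smul, smul_smul,
          Matrix.zero_mulVec] at this
        rw [← this]
      have hc2 : c = 1 := by
        rcases smul_eq_zero.1 h3 with e1 | e1
        · simp only [mul_eq_zero, or_self] at e1; exact sub_eq_zero.1 e1
        · exact absurd e1 hje0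
      rw [← FormCl.jmat, hc1, hc2, one_smul]
    refine ⟨hF.field_fix S.j hn g' τ key, ?_⟩
    rintro rfl
    obtain ⟨l, hl⟩ := hF.scalar_of_comm S.j hn g'.1 fun U hU => by
      have h1 := key U hU
      have hm : (U.1.map S.j).map (⇑(1 : RingAut F)) = U.1.map S.j := by ext i k; rfl
      rw [hm] at h1
      conv_rhs => rw [← h1]
      rw [Matrix.mul_assoc (g'.1 * U.1.map S.j), ← Units.val_mul, inv_mul_cancel, Units.val_one, Matrix.mul_one]
    rw [hg', show X.1.map (⇑(1 : RingAut F)) = X.1 from by ext i k; rfl] at hl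
    have hgl : g.1.1 = l • 1 := by
      calc g.1.1 = X.1 * ((X⁻¹).1 * g.1.1 * X.1) * (X⁻¹).1 := by
            simp only [Matrix.mul_assoc, hXX, Matrix.mul_one]
            rw [← Matrix.mul_assoc, hXX, Matrix.one_mul]
        _ = l • 1 := by rw [hl, Matrix.mul_smul, Matrix.mul_one, Matrix.smul_mul, hXX]
    exact indHom_scalar C hn hgl
  · intro Y hYf hYn hY2 y hy k hk
    let W : Subgroup (GL (Fin n) F₀) :=
      { carrier := {w | w ∈ FormCl.simGrp M ∧ ∃ z ∈ Y, ∃ g : ↥(Cfsg.GU n F q),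
          FormCl.Lift S X X w.1 g.1.1 ∧ C.indHom g = MulAut.conj z}
        one_mem' := ⟨one_mem _, 1, one_mem _, 1, lift_one S X, by rw [map_one, map_one]⟩
        mul_mem' := fun {a b} ⟨ha, z, hz, g, hg, hgz⟩ ⟨hb, z', hz', g', hg', hgz'⟩ =>
          ⟨mul_mem ha hb, z * z', mul_mem hz hz', g * g', lift_mul S hg hg', by rw [map_mul, map_mul, hgz, hgz']⟩
        inv_mem' := fun {a} ⟨ha, z, hz, g, hg, hgz⟩ =>
          ⟨inv_mem ha, z⁻¹, inv_mem hz, g⁻¹, lift_inv S (g := g.1) hg, by rw [map_inv, map_inv, hgz]⟩ }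
    have hmem : ∀ {w}, w ∈ W ↔ (w ∈ FormCl.simGrp M ∧ ∃ z ∈ Y, ∃ g : ↥(Cfsg.GU n F q),
        FormCl.Lift S X X w.1 g.1.1 ∧ C.indHom g = MulAut.conj z) := Iff.rfl
    have hnorm : ∀ U, FormCl.Sieg M s U → ∀ w ∈ W, U * w * U⁻¹ ∈ W := fun U hU w hw => by
      obtain ⟨hws, z, hz, g, hg, hgz⟩ := hmem.1 hw
      obtain ⟨V, hVX, hVf⟩ := exists_siegU S hn hD hF hU
      have hLV : FormCl.Lift S X X U.1 (toGU V).1.1 := ⟨1, one_ne_zero, by rw [one_smul]; exact hVX⟩
      refine hmem.2 ⟨mul_mem (mul_mem ⟨1, hF.sieg_mult hU⟩ hws) (inv_mem ⟨1, hF.sieg_mult hU⟩),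
        pr V * z * (pr V)⁻¹, hYn _ hVf z hz, toGU V * g * (toGU V)⁻¹,
        lift_mul S (lift_mul S hLV hg) (lift_inv S (g := (toGU V).1) hLV), ?_⟩
      rw [map_mul, map_mul, map_inv, hgz, ← conj_pr, map_mul, map_mul, map_inv]
    have hodd : ∀ w ∈ W, ∃ m, Odd m ∧ ∃ c : F₀, (w ^ m).1 = c • 1 := fun w hw => by
      obtain ⟨hws, z, hz, g, hg, hgz⟩ := hmem.1 hw
      refine ⟨Nat.card Y, Nat.not_even_iff_odd.1 (fun he => hY2 (even_iff_two_dvd.1 he)), ?_⟩
      have h1 : z ^ Nat.card Y = 1 := congrArg Subtype.val (pow_card_eq_one' (x := (⟨z, hz⟩ : Y)))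
      obtain ⟨l, hl⟩ := scalar_of_indHom C hn (g := g ^ Nat.card Y) (by rw [map_pow, hgz, ← map_pow, h1, map_one])
      have hL : ∀ m : ℕ, FormCl.Lift S X X (w ^ m).1 (g ^ m).1.1 := fun m => by
        induction m with
        | zero => exact lift_one S X
        | succ m ih => rw [pow_succ, pow_succ]; exact lift_mul S ih hg
      exact lift_scalar S (hL _) hl
    obtain ⟨V, rfl⟩ := QuotientGroup.mk'_surjective _ y
    obtain ⟨t, ht⟩ := (FormCl.mem_centralizer_gamU hn A (toGU V)).1 (by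
      rw [Subgroup.mem_centralizer_iff]
      rintro _ rfl
      rw [← conj_pr C]
      conv_rhs => rw [← hYf _ hy]
      rw [← BalanceSet.conj_smul]
      group)
    obtain ⟨w, r, c, hr, hc0, hgX, hw⟩ := FormCl.lift_of_twist S hD hD (toGU V) ht
    have hwW : w ∈ W := hmem.2 ⟨⟨Units.mk0 c hc0, hw⟩, _, hy, toGU V, ⟨r, hr, hgX⟩, (conj_pr C V).symm⟩
    obtain ⟨l, hl⟩ := hF.odd_normal_scalar hn W (fun a ha => (hmem.1 ha).1) hnorm hodd hwW
    obtain ⟨l', hl'⟩ := scalar_of_lift S (g := (toGU V).1.1) ⟨r, hr, hgX⟩ hl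
    rw [show QuotientGroup.mk' _ V = pr V from rfl, pr_eq_one_of_scalar hn (s := V) hl', one_mul, mul_one]

end CfsgLib.SU
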