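import Cfsg.Agent.Lib.Fusion.PSUThree.Two

/-!
# `PSU_3(2)` is not simple
-/

set_option autoImplicit false
set_option linter.all false

namespace CfsgLib.SU

theorem not_simple_72 {G : Type*} [Group G] (h : Nat.card G = 72) : ¬ IsSimpleGroup G := by
  intro hs
  haveI : Finite G := Nat.finite_of_card_ne_zero (by omega)
  haveI : Fact (Nat.Prime 3) := ⟨Nat.prime_three⟩
  obtain ⟨P⟩ : Nonempty (Sylow 3 G) := inferInstance
  have h3 : (72 : ℕ).factorization 3 = 2 := by
    rw [show (72 : ℕ) = 3 ^ 2 * 8 from rfl, Nat.factorization_mul (by norm_num) (by norm_num)]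
    rw [Finsupp.add_apply, Nat.Prime.factorization_pow Nat.prime_three, Finsupp.single_eq_same,
      Nat.factorization_eq_zero_of_not_dvd (show ¬ 3 ∣ 8 by norm_num)]
  have hP : Nat.card P = 9 := by rw [P.card_eq_multiplicity, h, h3]; rfl
  have hidx : (P : Subgroup G).index = 8 := by
    have := Subgroup.card_mul_index (P : Subgroup G)
    rw [h] at this
    have e : Nat.card (P : Subgroup G) = 9 := hP
    rw [e] at this
    omega
  have hd : Nat.card (Sylow 3 G) ∣ 8 := hidx ▸ P.card_dvd_index
  have hnn : ¬ (P : Subgroup G).Normal := fun hn => by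
    rcases hs.eq_bot_or_eq_top_of_normal _ hn with e | e
    · have : Nat.card (P : Subgroup G) = 9 := hP
      rw [e, Subgroup.card_bot] at this
      omega
    · rw [e, Subgroup.index_top] at hidx
      omega
  have h1 := card_sylow_modEq_one 3 G
  have hle : Nat.card (Sylow 3 G) ≤ 4 := by
    rcases (Nat.dvd_prime_pow Nat.prime_two (m := 3)).1 hd with ⟨k, hk, e⟩
    rw [e] at h1 ⊢
    interval_cases k <;> first | omega | norm_num [Nat.ModEq] at h1
  rcases hs.eq_bot_or_eq_top_of_normal _ (MulAction.toPermHom G (Sylow 3 G)).normal_ker with e | e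
  · have hinj := (MonoidHom.ker_eq_bot_iff _).1 e
    have h5 := Nat.card_le_card_of_injective _ hinj
    rw [h, Nat.card_perm] at h5
    have := Nat.factorial_le hle
    norm_num [Nat.factorial] at this
    omega
  · refine hnn ⟨fun x hx g => ?_⟩
    have h5 : g • P = P := by
      have : MulAction.toPermHom G (Sylow 3 G) g = 1 := MonoidHom.mem_ker.1 (e ▸ Subgroup.mem_top g)
      exact congrArg (fun π : Equiv.Perm (Sylow 3 G) => π P) this
    have h6 := Sylow.smul_eq_iff_mem_normalizer.1 h5
    exact (Subgroup.mem_normalizer_iff.1 h6 x).1 hx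

end CfsgLib.SU
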