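import Cfsg.Agent.Lib.SU.ReflThree
import Cfsg.Agent.Lib.Classical.CountBase

/-!
# The commuting graph on the involutions of `SU₃(q)`, `q` odd
-/

set_option autoImplicit false
set_option linter.all false

namespace CfsgLib.SU.ReflThree

open Matrix CfsgLib.Classical

section basic

theorem card_and_add {α : Type*} [Finite α] (P Q : α → Prop) :
    Nat.card {a // P a ∧ Q a} + Nat.card {a // P a ∧ ¬ Q a} = Nat.card {a // P a} := by
  classical
  rw [← Nat.card_congr (Equiv.subtypeSubtypeEquivSubtypeInter P Q),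
    ← Nat.card_congr (Equiv.subtypeSubtypeEquivSubtypeInter P fun a => ¬ Q a), ← Nat.card_sum]
  exact Nat.card_congr (Equiv.sumCompl _)

theorem two_ne {F : Type*} [Field F] [Fintype F] {q : ℕ} (hq : Odd q) (hF : Fintype.card F = q ^ 2) : (2 : F) ≠ 0 :=
  Ring.two_ne_zero fun h => by
    rw [FiniteField.even_card_iff_char_two, hF] at h
    exact Nat.not_even_iff_odd.2 (hq.pow) (Nat.even_iff.2 h)

theorem conj_count {G : Type*} [Group G] (P : G → G → Prop) (hP : ∀ g a b : G, P a b ↔ P (g * a * g⁻¹) (g * b * g⁻¹))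
    (g a : G) : Nat.card {x // P (g * a * g⁻¹) x} = Nat.card {x // P a x} :=
  (Nat.card_congr ((MulAut.conj g).toEquiv.subtypeEquiv fun x => hP g a x)).symm

theorem commute_conj {G : Type*} [Group G] (g a b : G) : Commute (g * a * g⁻¹) (g * b * g⁻¹) ↔ Commute a b := by
  rw [commute_iff_eq, commute_iff_eq, conj_mul, conj_mul, mul_right_cancel_iff, mul_right_inj]

theorem conj_ne {G : Type*} [Group G] {g a b : G} : g * a * g⁻¹ ≠ g * b * g⁻¹ ↔ a ≠ b := by simp

theorem conj_inv_iff {G : Type*} [Group G] (g a : G) :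
    (g * a * g⁻¹ ≠ 1 ∧ (g * a * g⁻¹) * (g * a * g⁻¹) = 1) ↔ (a ≠ 1 ∧ a * a = 1) := by
  rw [conj_mul, ne_eq, conj_eq_one_iff, conj_eq_one_iff]

end basic

variable {F : Type*} [Field F] [Fintype F] {q : ℕ} (C : UCtx F q)

/-- the line orthogonal to `w` in the plane -/
def wp (w : Fin 2 → F) : Fin 2 → F := ![C.bar (w 1), -C.bar (w 0)]

variable {C}

theorem form_two (u v : Fin 2 → F) : C.form u v = u 0 * C.bar (v 0) + u 1 * C.bar (v 1) := by
  simp [UCtx.form, Fin.sum_univ_two]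

theorem form_wp (w : Fin 2 → F) : C.form (wp C w) w = 0 := by
  rw [form_two]; simp [wp]; ring

theorem form_wp_self (w : Fin 2 → F) : C.form (wp C w) (wp C w) = C.form w w := by
  rw [form_two, form_two]; simp [wp, C.bar_bar]; ring

theorem wp_ne {w : Fin 2 → F} (h : w ≠ 0) : wp C w ≠ 0 := fun e => h <| by
  have h0 := congrFun e 0
  have h1 := congrFun e 1
  simp [wp] at h0 h1
  funext i; fin_cases i <;> simp [h0, h1]

theorem perp_two {z w : Fin 2 → F} (hw : w ≠ 0) (h : C.form z w = 0) : ∃ l : F, z = l • wp C w := by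
  rw [form_two] at h
  by_cases h1 : w 1 = 0
  · have h0 : w 0 ≠ 0 := fun e => hw (by funext i; fin_cases i <;> simp [e, h1])
    have hb : C.bar (w 0) ≠ 0 := (map_ne_zero _).2 h0
    rw [h1, map_zero, mul_zero, add_zero] at h
    have hz : z 0 = 0 := (mul_eq_zero.1 h).resolve_right hb
    refine ⟨-(z 1 / C.bar (w 0)), funext fun i => ?_⟩
    fin_cases i <;> simp [wp, h1, hz]
    field_simp
  · have hb : C.bar (w 1) ≠ 0 := (map_ne_zero _).2 h1
    refine ⟨z 0 / C.bar (w 1), funext fun i => ?_⟩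
    fin_cases i <;> simp [wp]
    · field_simp
    · field_simp
      linear_combination h

theorem iso_perp {z w : Fin 2 → F} (hw : w ≠ 0) (h0 : C.form w w = 0) (h : C.form z w = 0) : C.form z z = 0 := by
  obtain ⟨l, rfl⟩ := perp_two hw h
  rw [C.form_smul_left, C.form_smul_right, form_wp_self, h0, mul_zero, mul_zero]

theorem cons_decomp (v : Fin 3 → F) : ∃ x : F, ∃ u : Fin 2 → F, v = Fin.cons x u :=
  ⟨v 0, Fin.tail v, (Fin.cons_self_tail v).symm⟩

theorem base_ne : C.form (base (F := F)) base ≠ 0 := by rw [form_base]; exact one_ne_zero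

theorem eq_base_iff (h2 : (2 : F) ≠ 0) {x : F} {u : Fin 2 → F} (hv : C.form (Fin.cons x u : Fin 3 → F) (Fin.cons x u) ≠ 0) :
    rf C (Fin.cons x u) = rf C base ↔ u = 0 := by
  rw [eq_comm, rf_eq_iff h2 base_ne hv]
  constructor
  · rintro ⟨l, -, e⟩
    funext i
    have := congrFun e i.succ
    simpa [base] using this
  · rintro rfl
    refine ⟨x, fun e => hv ?_, ?_⟩
    · rw [e, form_cons, C.form_zero_left]; simp
    · funext i; refine Fin.cases ?_ (fun j => ?_) i <;> simp [base]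

theorem commute_base_iff (h2 : (2 : F) ≠ 0) {x : F} {u : Fin 2 → F} (hv : C.form (Fin.cons x u : Fin 3 → F) (Fin.cons x u) ≠ 0) :
    Commute (rf C base) (rf C (Fin.cons x u)) ↔ x = 0 ∨ u = 0 := by
  rw [commute_iff h2 base_ne hv, form_base_right, eq_comm (a := rf C base), eq_base_iff h2 hv]

theorem commute_two (h2 : (2 : F) ≠ 0) {x y : F} {u w : Fin 2 → F}
    (hv : C.form (Fin.cons x u : Fin 3 → F) (Fin.cons x u) ≠ 0) (hw : C.form (Fin.cons y w : Fin 3 → F) (Fin.cons y w) ≠ 0)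
    (h : x * C.bar y + C.form u w = 0) : Commute (rf C (Fin.cons x u)) (rf C (Fin.cons y w)) := by
  have := (commute_iff h2 hw hv).2 (Or.inl (by rw [form_cons]; exact h))
  exact this.symm

theorem aniso_plane {w : Fin 2 → F} (h : C.form w w ≠ 0) : C.form (Fin.cons 0 w : Fin 3 → F) (Fin.cons 0 w) ≠ 0 := by
  rwa [form_cons, zero_mul, zero_add]

/-- there is a common neighbour exactly when the second coordinate is anisotropic -/
theorem exists_common_iff (h2 : (2 : F) ≠ 0) {x : F} {u : Fin 2 → F}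
    (hv : C.form (Fin.cons x u : Fin 3 → F) (Fin.cons x u) ≠ 0) (hx : x ≠ 0) (hu : u ≠ 0) :
    (∃ y : ↥(Cfsg.SU 3 F q), y ≠ 1 ∧ y * y = 1 ∧ Commute (rf C base) y ∧ Commute y (rf C (Fin.cons x u))) ↔
      C.form u u ≠ 0 := by
  constructor
  · rintro ⟨y, hy, hyy, hty, hyx⟩
    obtain ⟨c, hc, rfl⟩ := exists_rf (C := C) h2 hy hyy
    obtain ⟨y, w, rfl⟩ := cons_decomp c
    rcases (commute_base_iff h2 hc).1 hty with rfl | rfl
    · have hw : C.form w w ≠ 0 := by rwa [form_cons, zero_mul, zero_add] at hc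
      intro h0
      rcases (commute_iff h2 hv hc).1 hyx.symm with h | h
      · rw [form_cons, zero_mul, zero_add] at h
        exact hw (iso_perp hu h0 h)
      · obtain ⟨l, hl, e⟩ := (rf_eq_iff h2 hv hc).1 h
        have := congrFun e 0
        simp [hl, hx] at this
    · rw [(eq_base_iff h2 hc).2 rfl, commute_base_iff h2 hv] at hyx
      rcases hyx with e | e
      · exact absurd e hx
      · exact absurd e hu
  · intro h
    have hw : C.form (wp C u) (wp C u) ≠ 0 := by rwa [form_wp_self]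
    refine ⟨rf C (Fin.cons 0 (wp C u)), rf_ne_one h2 (aniso_plane hw), rf_sq _,
      (commute_base_iff h2 (aniso_plane hw)).2 (Or.inl rfl), commute_two h2 (aniso_plane hw) hv ?_⟩
    rw [zero_mul, zero_add, form_wp]

theorem one_common (h2 : (2 : F) ≠ 0) {x : ↥(Cfsg.SU 3 F q)} (hx : x ≠ 1) (hxx : x * x = 1) (hxb : x ≠ rf C base)
    (hc : Commute (rf C base) x) :
    Nat.card {y : ↥(Cfsg.SU 3 F q) // y ≠ 1 ∧ y * y = 1 ∧ y ≠ rf C base ∧ y ≠ x ∧ Commute (rf C base) y ∧ Commute x y} = 1 := by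
  obtain ⟨v, hv, rfl⟩ := exists_rf (C := C) h2 hx hxx
  obtain ⟨a, u, rfl⟩ := cons_decomp v
  rcases (commute_base_iff h2 hv).1 hc with rfl | rfl
  swap
  · exact absurd ((eq_base_iff h2 hv).2 rfl) hxb
  have hu : C.form u u ≠ 0 := by rwa [form_cons, zero_mul, zero_add] at hv
  have hu0 : u ≠ 0 := fun e => hu (by rw [e, C.form_zero_left])
  have hw : C.form (wp C u) (wp C u) ≠ 0 := by rwa [form_wp_self]
  have hwv := aniso_plane hw
  refine Nat.card_eq_one_iff_unique.2 ⟨⟨?_⟩, ⟨⟨rf C (Fin.cons 0 (wp C u)), rf_ne_one h2 hwv, rf_sq _, ?_, ?_,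
    (commute_base_iff h2 hwv).2 (Or.inl rfl), ?_⟩⟩⟩
  · have key : ∀ y : {y : ↥(Cfsg.SU 3 F q) // y ≠ 1 ∧ y * y = 1 ∧ y ≠ rf C base ∧ y ≠ rf C (Fin.cons 0 u) ∧
        Commute (rf C base) y ∧ Commute (rf C (Fin.cons 0 u)) y}, y.1 = rf C (Fin.cons 0 (wp C u)) := by
      rintro ⟨y, hy, hyy, hyb, hyx, h1, h2'⟩
      obtain ⟨c, hc', rfl⟩ := exists_rf (C := C) h2 hy hyy
      obtain ⟨z, w, rfl⟩ := cons_decomp c
      rcases (commute_base_iff h2 hc').1 h1 with rfl | rfl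
      swap
      · exact absurd ((eq_base_iff h2 hc').2 rfl) hyb
      rcases (commute_iff h2 hv hc').1 h2' with h | h
      · rw [form_cons, zero_mul, zero_add] at h
        obtain ⟨l, rfl⟩ := perp_two hu0 h
        have hl : l ≠ 0 := fun e => hc' (by simp [form_cons, e, C.form_zero_left])
        show rf C (Fin.cons 0 (l • wp C u)) = _
        rw [← rf_smul hwv hl]
        congr 1
        funext i; refine Fin.cases ?_ (fun j => ?_) i <;> simp
      · exact absurd h.symm hyx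
    exact fun y y' => Subtype.ext ((key y).trans (key y').symm)
  · rw [ne_eq, eq_base_iff h2 hwv]; exact wp_ne hu0
  · intro h
    obtain ⟨l, -, e⟩ := (rf_eq_iff h2 hv hwv).1 h.symm
    have e' : wp C u = l • u := funext fun i => by simpa using congrFun e i.succ
    have := form_wp (C := C) u
    rw [e', C.form_smul_left] at this
    rcases mul_eq_zero.1 this with e'' | e''
    · exact wp_ne hu0 (by rw [e', e'', zero_smul])
    · exact hu e''
  · exact (commute_two h2 hwv hv (by rw [zero_mul, zero_add, form_wp])).symm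

theorem dist_three (h2 : (2 : F) ≠ 0) {x : ↥(Cfsg.SU 3 F q)} (hx : x ≠ 1) (hxx : x * x = 1) :
    ∃ y z : ↥(Cfsg.SU 3 F q), y ≠ 1 ∧ y * y = 1 ∧ z ≠ 1 ∧ z * z = 1 ∧
      Commute (rf C base) y ∧ Commute y z ∧ Commute z x := by
  by_cases hc : Commute (rf C base) x
  · exact ⟨_, _, rf_ne_one h2 base_ne, rf_sq _, rf_ne_one h2 base_ne, rf_sq _, Commute.refl _, Commute.refl _, hc⟩
  obtain ⟨v, hv, rfl⟩ := exists_rf (C := C) h2 hx hxx
  obtain ⟨a, u, rfl⟩ := cons_decomp v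
  rw [commute_base_iff h2 hv, not_or] at hc
  by_cases hu : C.form u u = 0
  swap
  · obtain ⟨y, hy, hyy, h1, h3⟩ := (exists_common_iff h2 hv hc.1 hc.2).2 hu
    exact ⟨y, y, hy, hyy, hy, hyy, h1, Commute.refl _, h3⟩
  have hNa : a * C.bar a ≠ 0 := by rwa [form_cons, hu, add_zero] at hv
  have hba : C.bar a ≠ 0 := right_ne_zero_of_mul hNa
  obtain ⟨w, hw, hh⟩ : ∃ w : Fin 2 → F, C.form w w = 1 ∧
      C.form (wp C w) u * C.bar (C.form (wp C w) u) + a * C.bar a ≠ 0 := by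
    by_contra hall
    push Not at hall
    have h0 := hall ![1, 0] (by simp [form_two])
    have h1 := hall ![0, 1] (by simp [form_two])
    simp [form_two, wp, C.bar_bar] at h0 h1
    rw [form_two] at hu
    exact hNa ((mul_eq_zero.1 (show (2 : F) * (a * C.bar a) = 0 by linear_combination h0 + h1 - hu)).resolve_left h2)
  obtain ⟨s, hs⟩ : ∃ s, s = C.form (wp C w) u := ⟨_, rfl⟩
  rw [← hs] at hh
  obtain ⟨c0, hc0⟩ : ∃ c0, c0 = -(s / C.bar a) := ⟨_, rfl⟩
  have hw' : C.form (Fin.cons 0 w : Fin 3 → F) (Fin.cons 0 w) ≠ 0 := aniso_plane (hw ▸ one_ne_zero)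
  have hc' : C.form (Fin.cons c0 (wp C w) : Fin 3 → F) (Fin.cons c0 (wp C w)) ≠ 0 := by
    rw [form_cons, form_wp_self, hw, hc0, map_neg, map_div₀, C.bar_bar]
    have ha0 : a ≠ 0 := hc.1
    intro e
    have e2 : (-(s / C.bar a) * -(C.bar s / a) + 1) * (a * C.bar a) = s * C.bar s + a * C.bar a := by field_simp
    exact hh (by rw [← e2, e, zero_mul])
  refine ⟨rf C (Fin.cons 0 w), rf C (Fin.cons c0 (wp C w)), rf_ne_one h2 hw', rf_sq _, rf_ne_one h2 hc', rf_sq _,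
    (commute_base_iff h2 hw').2 (Or.inl rfl), commute_two h2 hw' hc' ?_, commute_two h2 hc' hv ?_⟩
  · rw [zero_mul, zero_add, C.form_swap_zero (form_wp w)]
  · rw [← hs, hc0, neg_mul, div_mul_cancel₀ _ hba, neg_add_cancel]

variable (C)

/-- the equivalence splitting off the first coordinate -/
def split3 (Q : (Fin 3 → F) → Prop) : {v : Fin 3 → F // Q v} ≃ {p : F × (Fin 2 → F) // Q (Fin.cons p.1 p.2)} :=
  ((Fin.consEquiv fun _ : Fin 3 => F).subtypeEquiv fun _ => Iff.rfl).symm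

section counts

theorem card_pow (n : ℕ) (hF : Fintype.card F = q ^ 2) : Nat.card (Fin n → F) = q ^ (2 * n) := by
  rw [Nat.card_fun, Nat.card_eq_fintype_card, hF, Nat.card_eq_fintype_card, Fintype.card_fin, ← pow_mul]

theorem two_dim_iso (hF : Fintype.card F = q ^ 2) : hcount C 2 0 + q = q ^ 3 + q ^ 2 := by
  have h := (hcount_closed C hF 1).1
  zify
  rw [h]; ring

theorem three_dim_iso (hF : Fintype.card F = q ^ 2) : hcount C 3 0 + q ^ 3 = q ^ 5 + q ^ 2 := by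
  have h := (hcount_closed C hF 2).1
  zify
  rw [h]; ring

theorem card_aniso (n : ℕ) (hF : Fintype.card F = q ^ 2) :
    hcount C n 0 + Nat.card {u : Fin n → F // C.form u u ≠ 0} = q ^ (2 * n) := by
  classical
  rw [← card_pow n hF, hcount, ← Nat.card_sum]
  exact Nat.card_congr (Equiv.sumCompl _)

include C in
theorem count_all (hF : Fintype.card F = q ^ 2) (h2 : (2 : F) ≠ 0) :
    Nat.card {x : ↥(Cfsg.SU 3 F q) // x ≠ 1 ∧ x * x = 1} = q ^ 2 * (q ^ 2 - q + 1) := by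
  classical
  have hq := two_le_q hF
  have h := card_by_vectors C hF h2 (fun _ => True)
  simp only [and_true] at h
  have h1 := card_aniso C 3 hF
  have h3 := three_dim_iso C hF
  rw [h] at h1
  have hq2 : 1 ≤ q ^ 2 := Nat.one_le_pow _ _ (by omega)
  refine Nat.eq_of_mul_eq_mul_left (show 0 < q ^ 2 - 1 by have := Nat.pow_le_pow_left hq 2; omega) ?_
  zify [hq2, show q ≤ q ^ 2 from Nat.le_self_pow two_ne_zero q] at h1 h3 ⊢
  linear_combination h1 - h3

theorem count_perp (hF : Fintype.card F = q ^ 2) (h2 : (2 : F) ≠ 0) :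
    Nat.card {x : ↥(Cfsg.SU 3 F q) // x ≠ 1 ∧ x * x = 1 ∧ x ≠ rf C base ∧ Commute (rf C base) x} = q * (q - 1) := by
  classical
  have hq := two_le_q hF
  have h := card_by_vectors C hF h2 (fun x => x ≠ rf C base ∧ Commute (rf C base) x)
  have e : Nat.card {v : Fin 3 → F // C.form v v ≠ 0 ∧ rf C v ≠ rf C base ∧ Commute (rf C base) (rf C v)} =
      Nat.card {u : Fin 2 → F // C.form u u ≠ 0} := by
    refine Nat.card_congr
      { toFun := fun v => ⟨Fin.tail v.1, ?_⟩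
        invFun := fun u => ⟨Fin.cons 0 u.1, aniso_plane u.2, fun e => u.2 ?_, (commute_base_iff h2 (aniso_plane u.2)).2 (Or.inl rfl)⟩
        left_inv := fun v => ?_
        right_inv := fun u => Subtype.ext (by simp) }
    · obtain ⟨v, hv, hb, hc⟩ := v
      obtain ⟨a, u, rfl⟩ := cons_decomp v
      rcases (commute_base_iff h2 hv).1 hc with rfl | rfl
      · rw [Fin.tail_cons]; rwa [form_cons, zero_mul, zero_add] at hv
      · exact absurd ((eq_base_iff h2 hv).2 rfl) hb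
    · rw [(eq_base_iff h2 (aniso_plane u.2)).1 e, C.form_zero_left]
    · obtain ⟨v, hv, hb, hc⟩ := v
      obtain ⟨a, u, rfl⟩ := cons_decomp v
      refine Subtype.ext ?_
      rcases (commute_base_iff h2 hv).1 hc with rfl | rfl
      · simp
      · exact absurd ((eq_base_iff h2 hv).2 rfl) hb
  rw [e] at h
  have h1 := card_aniso C 2 hF
  have h3 := two_dim_iso C hF
  rw [h] at h1
  have hq2 : 1 ≤ q ^ 2 := Nat.one_le_pow _ _ (by omega)
  refine Nat.eq_of_mul_eq_mul_left (show 0 < q ^ 2 - 1 by have := Nat.pow_le_pow_left hq 2; omega) ?_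
  zify [hq2, show 1 ≤ q by omega] at h1 h3 ⊢
  linear_combination h1 - h3

theorem count_tangent (hF : Fintype.card F = q ^ 2) (h2 : (2 : F) ≠ 0) :
    Nat.card {x : ↥(Cfsg.SU 3 F q) // x ≠ 1 ∧ x * x = 1 ∧ ¬ Commute (rf C base) x ∧
      ∀ y : ↥(Cfsg.SU 3 F q), y ≠ 1 → y * y = 1 → ¬ (Commute (rf C base) y ∧ Commute y x)} = (q + 1) * (q ^ 2 - 1) := by
  classical
  have hq := two_le_q hF
  have h := card_by_vectors C hF h2 (fun x => ¬ Commute (rf C base) x ∧
      ∀ y : ↥(Cfsg.SU 3 F q), y ≠ 1 → y * y = 1 → ¬ (Commute (rf C base) y ∧ Commute y x))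
  have e : Nat.card {v : Fin 3 → F // C.form v v ≠ 0 ∧ ¬ Commute (rf C base) (rf C v) ∧
      ∀ y : ↥(Cfsg.SU 3 F q), y ≠ 1 → y * y = 1 → ¬ (Commute (rf C base) y ∧ Commute y (rf C v))} =
      Nat.card {x : F // x ≠ 0} * Nat.card {u : Fin 2 → F // C.form u u = 0 ∧ u ≠ 0} := by
    rw [← Nat.card_prod, Nat.card_congr (split3 _)]
    refine Nat.card_congr ((Equiv.subtypeEquivRight fun p => ?_).trans
      (Equiv.subtypeProdEquivProd (p := fun x : F => x ≠ 0) (q := fun u : Fin 2 → F => C.form u u = 0 ∧ u ≠ 0)))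
    obtain ⟨a, u⟩ := p
    constructor
    · rintro ⟨hv, hc, hall⟩
      rw [commute_base_iff h2 hv, not_or] at hc
      refine ⟨hc.1, by_contra fun hu => ?_, hc.2⟩
      obtain ⟨y, hy, hyy, h1, h3⟩ := (exists_common_iff h2 hv hc.1 hc.2).2 hu
      exact hall y hy hyy ⟨h1, h3⟩
    · rintro ⟨ha, hu, hu0⟩
      have hv : C.form (Fin.cons a u : Fin 3 → F) (Fin.cons a u) ≠ 0 := by
        rw [form_cons, hu, add_zero]; exact mul_ne_zero ha ((map_ne_zero _).2 ha)
      refine ⟨hv, ?_, fun y hy hyy hh => (exists_common_iff h2 hv ha hu0).1 ⟨y, hy, hyy, hh⟩ hu⟩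
      rw [commute_base_iff h2 hv, not_or]; exact ⟨ha, hu0⟩
  have hx : Nat.card {x : F // x ≠ 0} = q ^ 2 - 1 := by
    rw [← Nat.card_congr unitsEquivNeZero, card_units_q hF]
  rw [e, hx] at h
  have hu : Nat.card {u : Fin 2 → F // C.form u u = 0 ∧ u ≠ 0} + 1 = hcount C 2 0 := by
    rw [hcount, ← card_and_add (fun u : Fin 2 → F => C.form u u = 0) (fun u => u ≠ 0)]
    congr 1
    haveI : Unique {u : Fin 2 → F // C.form u u = 0 ∧ ¬ u ≠ 0} :=
      ⟨⟨⟨0, C.form_zero_left _, fun h => h rfl⟩⟩, fun u => Subtype.ext (not_not.1 u.2.2)⟩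
    exact Nat.card_unique.symm
  have h3 := two_dim_iso C hF
  have hh := Nat.eq_of_mul_eq_mul_left (show 0 < q ^ 2 - 1 by have := Nat.pow_le_pow_left hq 2; omega) h
  rw [← hh]
  rw [← hu] at h3
  have hq2 : 1 ≤ q ^ 2 := Nat.one_le_pow _ _ (by omega)
  zify [hq2] at h3 ⊢
  linear_combination h3

theorem count_secant (hF : Fintype.card F = q ^ 2) (h2 : (2 : F) ≠ 0) :
    Nat.card {x : ↥(Cfsg.SU 3 F q) // x ≠ 1 ∧ x * x = 1 ∧ ¬ Commute (rf C base) x ∧
      ∃ y : ↥(Cfsg.SU 3 F q), y ≠ 1 ∧ y * y = 1 ∧ Commute (rf C base) y ∧ Commute y x} =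
      q * (q - 2) * (q ^ 2 - 1) := by
  classical
  have hq := two_le_q hF
  have hA := count_all C hF h2
  have hP := count_perp C hF h2
  have hT := count_tangent C hF h2
  obtain ⟨t, ht⟩ : ∃ t, t = rf C base := ⟨_, rfl⟩
  rw [← ht] at hP hT ⊢
  have h1 : Nat.card {x : ↥(Cfsg.SU 3 F q) // (x ≠ 1 ∧ x * x = 1) ∧ x = t} = 1 := by
    haveI : Unique {x : ↥(Cfsg.SU 3 F q) // (x ≠ 1 ∧ x * x = 1) ∧ x = t} :=
      ⟨⟨⟨t, ⟨ht ▸ rf_ne_one h2 base_ne, ht ▸ rf_sq _⟩, rfl⟩⟩, fun u => Subtype.ext u.2.2⟩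
    exact Nat.card_unique
  have s1 := card_and_add (fun x : ↥(Cfsg.SU 3 F q) => x ≠ 1 ∧ x * x = 1) (fun x => x = t)
  have s2 := card_and_add (fun x : ↥(Cfsg.SU 3 F q) => (x ≠ 1 ∧ x * x = 1) ∧ ¬ x = t) (fun x => Commute t x)
  have s3 := card_and_add (fun x : ↥(Cfsg.SU 3 F q) => ((x ≠ 1 ∧ x * x = 1) ∧ ¬ x = t) ∧ ¬ Commute t x)
    (fun x => ∀ y : ↥(Cfsg.SU 3 F q), y ≠ 1 → y * y = 1 → ¬ (Commute t y ∧ Commute y x))
  have eP : Nat.card {x : ↥(Cfsg.SU 3 F q) // ((x ≠ 1 ∧ x * x = 1) ∧ ¬ x = t) ∧ Commute t x} = q * (q - 1) :=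
    Eq.trans (Nat.card_congr (Equiv.subtypeEquivRight fun x => by simp [and_assoc])) hP
  have eT : Nat.card {x : ↥(Cfsg.SU 3 F q) // (((x ≠ 1 ∧ x * x = 1) ∧ ¬ x = t) ∧ ¬ Commute t x) ∧
      ∀ y : ↥(Cfsg.SU 3 F q), y ≠ 1 → y * y = 1 → ¬ (Commute t y ∧ Commute y x)} = (q + 1) * (q ^ 2 - 1) :=
    Eq.trans (Nat.card_congr (Equiv.subtypeEquivRight fun x =>
      ⟨fun ⟨⟨⟨⟨a, b⟩, _⟩, c⟩, d⟩ => ⟨a, b, c, d⟩,
        fun ⟨a, b, c, d⟩ => ⟨⟨⟨⟨a, b⟩, fun e => c (e ▸ Commute.refl _)⟩, c⟩, d⟩⟩)) hT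
  refine Eq.trans (Nat.card_congr (Equiv.subtypeEquivRight (q := fun x => (((x ≠ 1 ∧ x * x = 1) ∧ ¬ x = t) ∧ ¬ Commute t x) ∧
      ¬ ∀ y : ↥(Cfsg.SU 3 F q), y ≠ 1 → y * y = 1 → ¬ (Commute t y ∧ Commute y x)) fun x =>
      ⟨fun ⟨a, b, c, y, hy, hyy, d, e⟩ => ⟨⟨⟨⟨a, b⟩, fun e' => c (e' ▸ Commute.refl _)⟩, c⟩, fun h => h y hy hyy ⟨d, e⟩⟩,
        fun ⟨⟨⟨⟨a, b⟩, _⟩, c⟩, d⟩ => ⟨a, b, c, by push Not at d; exact d⟩⟩)) ?_
  rw [hA, h1] at s1
  rw [eP] at s2
  rw [eT] at s3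
  have hq2 : 1 ≤ q ^ 2 := Nat.one_le_pow _ _ (by omega)
  zify [hq2, show 1 ≤ q by omega, hq, show q ≤ q ^ 2 from Nat.le_self_pow two_ne_zero q] at s1 s2 s3 ⊢
  linear_combination s1 + s2 + s3

include C in
theorem card_three (hF : Fintype.card F = q ^ 2) :
    Nat.card ↥(Cfsg.SU 3 F q) = q ^ 3 * ((q ^ 2 - 1) * (q ^ 3 + 1)) := by
  have h := card_su_mul C hF (n := 3) (by norm_num)
  rw [card_gu_formula C hF 3] at h
  simp only [Finset.prod_range_succ, Finset.prod_range_zero, one_mul, Nat.zero_add, pow_one,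
    show (3 * (3 - 1) / 2 : ℕ) = 3 from rfl, if_pos (Even.zero (α := ℕ)), if_neg Nat.not_even_one,
    if_pos even_two] at h
  refine Nat.eq_of_mul_eq_mul_left (show 0 < q + 1 by omega) (h.trans ?_)
  rw [show (q : ℕ) ^ (1 + 1) = q ^ 2 from rfl, show (q : ℕ) ^ (2 + 1) = q ^ 3 from rfl]
  ring

theorem card_centralizer_base (hF : Fintype.card F = q ^ 2) (h2 : (2 : F) ≠ 0) :
    Nat.card ↥(Subgroup.centralizer ({rf C base} : Set ↥(Cfsg.SU 3 F q))) = q * (q + 1) * (q ^ 2 - 1) := by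
  classical
  have hq := two_le_q hF
  have hb := rf_ne_one (C := C) h2 base_ne
  let π : ↥(Cfsg.SU 3 F q) → {x : ↥(Cfsg.SU 3 F q) // x ≠ 1 ∧ x * x = 1} := fun g =>
    ⟨g * rf C base * g⁻¹, (conj_inv_iff g _).2 ⟨hb, rf_sq _⟩⟩
  have hπ : Function.Surjective π := fun x => by
    obtain ⟨g, hg⟩ := exists_conj_base C hF h2 x.2.1 x.2.2
    exact ⟨g, Subtype.ext hg⟩
  have h := card_eq_card_orbit_mul π (Subgroup.centralizer ({rf C base} : Set ↥(Cfsg.SU 3 F q))) hπ fun a b => by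
    rw [Subgroup.mem_centralizer_singleton_iff, Subtype.ext_iff]
    show a * rf C base * a⁻¹ = b * rf C base * b⁻¹ ↔ _
    constructor
    · intro e
      calc a⁻¹ * b * rf C base = a⁻¹ * (b * rf C base * b⁻¹) * b := by group
        _ = rf C base * (a⁻¹ * b) := by rw [← e]; group
    · intro e
      calc a * rf C base * a⁻¹ = a * (rf C base * (a⁻¹ * b)) * b⁻¹ := by group
        _ = b * rf C base * b⁻¹ := by rw [← e]; group
  rw [card_three C hF, count_all C hF h2] at h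
  refine Nat.eq_of_mul_eq_mul_left (show 0 < q ^ 2 * (q ^ 2 - q + 1) by positivity) (h.symm.trans ?_)
  zify [Nat.one_le_pow 2 q (by omega), show q ≤ q ^ 2 from Nat.le_self_pow two_ne_zero q]
  ring

end counts

end CfsgLib.SU.ReflThree
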