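import Cfsg.Agent.Lib.SU.UnitalModel
import Cfsg.Agent.Lib.SU.Basic
import Cfsg.Agent.Lib.Orth.DetInvol

/-!
# The involutions of `SU₃(q)`, `q` odd, as anisotropic points
-/

set_option autoImplicit false
set_option linter.all false

namespace CfsgLib.SU.ReflThree

open Matrix CfsgLib.Classical

variable {F : Type*} [Field F] [Fintype F] {q : ℕ} (C : UCtx F q)

local notation "V" => (Fin 3 → F)

/-- the matrix of `x ↦ 2 h(x,a)/h(a,a) a - x` -/
def rMat (a : V) : Matrix (Fin 3) (Fin 3) F := -(C.rmap a a (-(2 / C.form a a)))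

theorem rMat_mulVec (a x : V) : rMat C a *ᵥ x = (2 * C.form x a / C.form a a) • a - x := by
  rw [rMat, Matrix.neg_mulVec, C.rmap_mulVec]
  funext i
  simp
  ring

/-- the involution with fixed point `a` -/
noncomputable def rf (a : V) : ↥(Cfsg.SU 3 F q) :=
  haveI := _root_.Classical.propDecidable (C.form a a ≠ 0)
  if h : C.form a a ≠ 0 then
    C.mkSU (rMat C a) (by
      rw [rMat, Matrix.det_neg, C.det_rmap, neg_mul, div_mul_cancel₀ _ h]
      norm_num) (fun u v => by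
      simp only [rMat_mulVec, C.form_sub_left, C.form_sub_right, C.form_smul_left, C.form_smul_right, map_div₀, map_mul,
        C.bar_form, map_ofNat]
      field_simp
      ring)
  else 1

variable {C}

theorem rf_apply {a : V} (ha : C.form a a ≠ 0) (x : V) :
    (rf C a).1.1 *ᵥ x = (2 * C.form x a / C.form a a) • a - x := by
  rw [rf, dif_pos ha, C.mkSU_val, rMat_mulVec]

theorem rf_self {a : V} (ha : C.form a a ≠ 0) : (rf C a).1.1 *ᵥ a = a := by
  rw [rf_apply ha, mul_div_assoc, div_self ha, mul_one, two_smul, add_sub_cancel_right]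

theorem rf_sq (a : V) : rf C a * rf C a = 1 := by
  by_cases ha : C.form a a ≠ 0
  · refine su_ext fun x => ?_
    rw [suMat_mulVec_mul, su_one_mulVec, rf_apply ha, rf_apply ha, C.form_sub_left, C.form_smul_left,
      div_mul_cancel₀ _ ha]
    funext i
    simp only [Pi.sub_apply, Pi.smul_apply, smul_eq_mul]
    ring
  · rw [rf, dif_neg ha, one_mul]

theorem rf_ne_one (h2 : (2 : F) ≠ 0) {a : V} (ha : C.form a a ≠ 0) : rf C a ≠ 1 := fun h => by
  obtain ⟨x, hx0, hxa, -⟩ := C.exists_orth_two (n := 3) le_rfl a a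
  have h1 := rf_apply ha x
  rw [h, su_one_mulVec, hxa, mul_zero, zero_div, zero_smul, zero_sub] at h1
  exact hx0 ((smul_eq_zero.1 (show (2 : F) • x = 0 by rw [two_smul]; exact add_eq_zero_iff_eq_neg.2 h1)).resolve_left h2)

theorem rf_smul {a : V} (ha : C.form a a ≠ 0) {l : F} (hl : l ≠ 0) : rf C (l • a) = rf C a := by
  have hl' : C.bar l ≠ 0 := (map_ne_zero _).2 hl
  have hla : C.form (l • a) (l • a) ≠ 0 := by
    rw [C.form_smul_left, C.form_smul_right]
    exact mul_ne_zero hl (mul_ne_zero hl' ha)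
  refine su_ext fun x => ?_
  rw [rf_apply hla, rf_apply ha, C.form_smul_left, C.form_smul_right, C.form_smul_right, smul_smul]
  congr 2
  field_simp

theorem rf_eq_iff (h2 : (2 : F) ≠ 0) {a b : V} (ha : C.form a a ≠ 0) (hb : C.form b b ≠ 0) :
    rf C a = rf C b ↔ ∃ l : F, l ≠ 0 ∧ b = l • a := by
  refine ⟨fun h => ?_, fun ⟨l, hl, e⟩ => by rw [e, rf_smul ha hl]⟩
  have h1 := rf_apply ha b
  rw [h, rf_self hb, eq_sub_iff_add_eq, ← two_smul F b] at h1
  have e : b = (C.form b a / C.form a a) • a := by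
    refine smul_right_injective _ h2 (h1.trans ?_)
    simp only [smul_smul, mul_div_assoc]
  refine ⟨_, fun h0 => ?_, e⟩
  rw [h0, zero_smul] at e
  exact hb (by rw [e, C.form_zero_left])

theorem rf_conj {a : V} (ha : C.form a a ≠ 0) (A : ↥(Cfsg.SU 3 F q)) : A * rf C a * A⁻¹ = rf C (A.1.1 *ᵥ a) := by
  have ha' : C.form (A.1.1 *ᵥ a) (A.1.1 *ᵥ a) ≠ 0 := by rwa [C.form_su]
  refine su_ext fun x => ?_
  rw [suMat_mulVec_mul, suMat_mulVec_mul, rf_apply ha', rf_apply ha, Matrix.mulVec_sub, Matrix.mulVec_smul, su_mulVec_inv,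
    C.form_su]
  congr 3
  conv_rhs => rw [← su_mulVec_inv A x, C.form_su]

theorem commute_iff (h2 : (2 : F) ≠ 0) {a b : V} (ha : C.form a a ≠ 0) (hb : C.form b b ≠ 0) :
    Commute (rf C a) (rf C b) ↔ C.form b a = 0 ∨ rf C a = rf C b := by
  constructor
  · intro h
    have hinv : (rf C a)⁻¹ = rf C a := inv_eq_of_mul_eq_one_right (rf_sq a)
    have h1 := rf_conj hb (rf C a)
    rw [hinv, h.eq, mul_assoc, rf_sq, mul_one] at h1
    obtain ⟨l, -, hl⟩ := (rf_eq_iff h2 hb (by rwa [C.form_su])).1 h1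
    rw [rf_apply ha, sub_eq_iff_eq_add, show l • b + b = (l + 1) • b by rw [add_smul, one_smul]] at hl
    by_cases hc : C.form b a = 0
    · exact Or.inl hc
    · right
      have h3 : l + 1 ≠ 0 := fun e => by
        rw [e, zero_smul] at hl
        rcases smul_eq_zero.1 hl with e' | e'
        · exact div_ne_zero (mul_ne_zero h2 hc) ha e'
        · exact ha (by rw [e', C.form_zero_left])
      refine (rf_eq_iff h2 ha hb).2 ⟨(l + 1)⁻¹ * (2 * C.form b a / C.form a a),
        mul_ne_zero (inv_ne_zero h3) (div_ne_zero (mul_ne_zero h2 hc) ha), ?_⟩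
      rw [← smul_smul, hl, inv_smul_smul₀ h3]
  · rintro (h | h)
    · have h' := C.form_swap_zero h
      refine su_ext fun x => ?_
      rw [suMat_mulVec_mul, suMat_mulVec_mul, rf_apply hb, rf_apply ha, rf_apply ha, rf_apply hb]
      simp only [C.form_sub_left, C.form_smul_left, h, h', mul_zero]
      funext i
      simp
      ring
    · rw [h]

/-- every involution is one of them -/
theorem exists_rf (h2 : (2 : F) ≠ 0) {t : ↥(Cfsg.SU 3 F q)} (ht : t ≠ 1) (htt : t * t = 1) :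
    ∃ a : V, C.form a a ≠ 0 ∧ t = rf C a := by
  have hM : t.1.1 * t.1.1 = 1 := by
    have := congrArg (fun g : ↥(Cfsg.SU 3 F q) => g.1.1) htt
    simpa using this
  obtain ⟨hdet, hc⟩ := CfsgLib.Orth.det_invol h2 hM
  obtain ⟨P, hP⟩ : ∃ P, P = LinearMap.ker (Matrix.mulVecLin t.1.1 - 1) := ⟨_, rfl⟩
  obtain ⟨N, hN⟩ : ∃ N, N = LinearMap.ker (Matrix.mulVecLin t.1.1 + 1) := ⟨_, rfl⟩
  rw [← hP, ← hN] at hc
  rw [← hN, t.1.2] at hdet
  have hPm : ∀ x, x ∈ P ↔ t.1.1 *ᵥ x = x := fun x => by rw [hP, LinearMap.mem_ker]; simp [sub_eq_zero]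
  have hNm : ∀ x, x ∈ N ↔ t.1.1 *ᵥ x = -x := fun x => by rw [hN, LinearMap.mem_ker]; simp [add_eq_zero_iff_eq_neg]
  have hsum : Module.finrank F P + Module.finrank F N = 3 := by
    rw [Submodule.finrank_add_eq_of_isCompl hc, Module.finrank_fin_fun]
  have hN0 : Module.finrank F N ≠ 0 := fun h0 => by
    rw [Submodule.finrank_eq_zero] at h0
    refine ht (su_ext fun x => ?_)
    have hx : x ∈ P := by
      have := hc.sup_eq_top
      rw [h0, sup_bot_eq] at this
      rw [this]; exact Submodule.mem_top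
    rw [(hPm x).1 hx, su_one_mulVec]
  have hN2 : Module.finrank F N = 2 := by
    have he : Even (Module.finrank F N) := by
      by_contra ho
      rw [(Nat.not_even_iff_odd.1 ho).neg_one_pow] at hdet
      exact h2 (by linear_combination hdet)
    obtain ⟨k, hk⟩ := he
    omega
  obtain ⟨⟨a, haP⟩, ha0, -⟩ := finrank_eq_one_iff'.1 (show Module.finrank F P = 1 by omega)
  have hperp : ∀ n ∈ N, C.form n a = 0 := fun n hn => by
    have h1 := C.form_su t n a
    rw [(hNm n).1 hn, (hPm a).1 haP, C.form_neg_left] at h1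
    exact (mul_eq_zero.1 (show (2 : F) * C.form n a = 0 by linear_combination -h1)).resolve_left h2
  have hdec : ∀ x, ∃ l : F, ∃ n ∈ N, x = l • a + n := fun x => by
    obtain ⟨p, hp, n, hn, e⟩ := Submodule.mem_sup.1 (hc.sup_eq_top.symm ▸ Submodule.mem_top (x := x))
    obtain ⟨⟨c, hc'⟩, -⟩ : (∃ l : F, l • a = p) ∧ True := ⟨by
      obtain ⟨⟨w, hw⟩, hw0, hsp⟩ := finrank_eq_one_iff'.1 (show Module.finrank F P = 1 by omega)
      obtain ⟨c1, e1⟩ := hsp ⟨a, haP⟩
      obtain ⟨c2, e2⟩ := hsp ⟨p, hp⟩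
      have e1' : c1 • w = a := congrArg Subtype.val e1
      have e2' : c2 • w = p := congrArg Subtype.val e2
      have hc1 : c1 ≠ 0 := fun h => ha0 (Subtype.ext (show a = 0 by rw [← e1', h, zero_smul]))
      exact ⟨c2 / c1, by rw [← e1', smul_smul, div_mul_cancel₀ _ hc1, e2']⟩, trivial⟩
    exact ⟨c, n, hn, by rw [hc', e]⟩
  have haa : C.form a a ≠ 0 := fun h0 => by
    refine ha0 (Subtype.ext (C.eq_zero_of_form' fun v => ?_))
    obtain ⟨l, n, hn, rfl⟩ := hdec v
    rw [C.form_add_left, C.form_smul_left, h0, hperp n hn, mul_zero, add_zero]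
  refine ⟨a, haa, su_ext fun x => ?_⟩
  obtain ⟨l, n, hn, rfl⟩ := hdec x
  rw [rf_apply haa, C.form_add_left, C.form_smul_left, hperp n hn, add_zero, Matrix.mulVec_add, Matrix.mulVec_smul,
    (hPm a).1 haP, (hNm n).1 hn]
  funext i
  simp only [Pi.add_apply, Pi.sub_apply, Pi.smul_apply, Pi.neg_apply, smul_eq_mul]
  field_simp
  ring

variable (C)

/-- the base point -/
def base : V := Fin.cons 1 0

theorem form_base : C.form (base (F := F)) base = 1 := by
  rw [base, form_cons, C.form_zero_left]; simp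

theorem form_base_right (x : F) (u : Fin 2 → F) : C.form (Fin.cons x u) base = x := by
  rw [base, form_cons, C.form_zero_right]; simp

theorem exists_su_move (hF : Fintype.card F = q ^ 2) {a : V} (ha : C.form a a ≠ 0) :
    ∃ (g : ↥(Cfsg.SU 3 F q)) (l : F), l ≠ 0 ∧ g.1.1 *ᵥ base = l • a := by
  obtain ⟨l, hl⟩ := C.exists_norm (c := (C.form a a)⁻¹) (by rw [map_inv₀, C.form_self_fixed])
  have hl0 : l ≠ 0 := fun e => inv_ne_zero ha (by rw [← hl, e, zero_mul])
  have h1 : C.form (l • a) (l • a) = 1 := by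
    rw [C.form_smul_left, C.form_smul_right, ← mul_assoc, hl, inv_mul_cancel₀ ha]
  obtain ⟨g, hg, hga⟩ := exists_gu_move C (form_base C) h1 hF
  rw [gu_mem_iff C] at hg
  obtain ⟨d, hd⟩ : ∃ d, d = g.1.det := ⟨_, rfl⟩
  have hd0 : d ≠ 0 := hd ▸ ((Matrix.isUnit_iff_isUnit_det _).1 g.isUnit).ne_zero
  have hdd : d * C.bar d = 1 := by
    have hgr : g.1ᵀ * (g.1.map C.bar) = 1 := by
      ext i j
      have h := hg (Pi.single i 1) (Pi.single j 1)
      simp only [UCtx.form, Matrix.mulVec_single_one, Matrix.col_apply] at h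
      rw [Matrix.mul_apply, Matrix.one_apply]
      simp only [Matrix.transpose_apply, Matrix.map_apply]
      rw [h]
      simp [Pi.single_apply, apply_ite C.bar, eq_comm]
    have := congrArg Matrix.det hgr
    rwa [Matrix.det_mul, Matrix.det_transpose, ← RingEquiv.mapMatrix_apply, ← RingEquiv.map_det, Matrix.det_one, ← hd] at this
  obtain ⟨D, hD⟩ : ∃ D : Fin 3 → F, D = ![1, 1, d⁻¹] := ⟨_, rfl⟩
  have hDD : ∀ i, D i * C.bar (D i) = 1 := fun i => by
    rw [hD]
    fin_cases i <;> simp [← mul_inv, hdd]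
  refine ⟨C.mkSU (g.1 * Matrix.diagonal D) ?_ (fun u v => ?_), l, hl0, ?_⟩
  · rw [Matrix.det_mul, Matrix.det_diagonal, Fin.prod_univ_three, ← hd, hD]
    simp [mul_inv_cancel₀ hd0]
  · rw [← Matrix.mulVec_mulVec, ← Matrix.mulVec_mulVec, hg]
    simp only [UCtx.form, Matrix.mulVec_diagonal, map_mul]
    refine Finset.sum_congr rfl fun i _ => ?_
    linear_combination (u i * C.bar (v i)) * hDD i
  · rw [C.mkSU_val, ← Matrix.mulVec_mulVec, ← hga]
    congr 1
    funext i
    rw [Matrix.mulVec_diagonal, hD, base]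
    refine Fin.cases ?_ (fun j => ?_) i <;> simp

theorem exists_conj_base (hF : Fintype.card F = q ^ 2) (h2 : (2 : F) ≠ 0) {t : ↥(Cfsg.SU 3 F q)} (ht : t ≠ 1) (htt : t * t = 1) :
    ∃ g : ↥(Cfsg.SU 3 F q), g * rf C base * g⁻¹ = t := by
  obtain ⟨a, ha, rfl⟩ := exists_rf (C := C) h2 ht htt
  obtain ⟨g, l, hl, hg⟩ := exists_su_move C hF ha
  exact ⟨g, by rw [rf_conj (by rw [form_base]; exact one_ne_zero), hg, rf_smul ha hl]⟩

theorem card_units_q (hF : Fintype.card F = q ^ 2) : Nat.card Fˣ = q ^ 2 - 1 := by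
  rw [Nat.card_units, Nat.card_eq_fintype_card, hF]

/-- counting involutions by vectors -/
theorem card_by_vectors (hF : Fintype.card F = q ^ 2) (h2 : (2 : F) ≠ 0) (P : ↥(Cfsg.SU 3 F q) → Prop) :
    Nat.card {v : V // C.form v v ≠ 0 ∧ P (rf C v)} =
      (q ^ 2 - 1) * Nat.card {x : ↥(Cfsg.SU 3 F q) // x ≠ 1 ∧ x * x = 1 ∧ P x} := by
  rw [← card_units_q hF, ← Nat.card_prod]
  have hsec : ∀ x : {x : ↥(Cfsg.SU 3 F q) // x ≠ 1 ∧ x * x = 1 ∧ P x}, ∃ a : V, C.form a a ≠ 0 ∧ x.1 = rf C a := fun x =>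
    exists_rf h2 x.2.1 x.2.2.1
  choose a ha hax using hsec
  have hf : ∀ p : Fˣ × {x : ↥(Cfsg.SU 3 F q) // x ≠ 1 ∧ x * x = 1 ∧ P x},
      C.form ((p.1 : F) • a p.2) ((p.1 : F) • a p.2) ≠ 0 ∧ P (rf C ((p.1 : F) • a p.2)) := fun p => by
    refine ⟨?_, ?_⟩
    · rw [C.form_smul_left, C.form_smul_right]
      exact mul_ne_zero p.1.ne_zero (mul_ne_zero ((map_ne_zero _).2 p.1.ne_zero) (ha _))
    · rw [rf_smul (ha _) p.1.ne_zero, ← hax]; exact p.2.2.2.2
  refine (Nat.card_congr (Equiv.ofBijective (fun p => ⟨(p.1 : F) • a p.2, hf p⟩) ⟨?_, ?_⟩)).symm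
  · rintro ⟨u, x⟩ ⟨u', x'⟩ h
    have h1 : (u : F) • a x = (u' : F) • a x' := congrArg Subtype.val h
    have hxx : x = x' := Subtype.ext (by rw [hax x, hax x', ← rf_smul (ha x) u.ne_zero, h1, rf_smul (ha x') u'.ne_zero])
    subst hxx
    have hane : a x ≠ 0 := fun e => ha x (by rw [e, C.form_zero_left])
    exact Prod.ext (Units.ext (smul_left_injective F hane h1)) rfl
  · rintro ⟨v, hv, hP⟩
    obtain ⟨l, hl, e⟩ := (rf_eq_iff h2 (ha ⟨rf C v, rf_ne_one h2 hv, rf_sq v, hP⟩) hv).1 (hax _).symm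
    exact ⟨(Units.mk0 l hl, ⟨rf C v, rf_ne_one h2 hv, rf_sq v, hP⟩), Subtype.ext e.symm⟩

end CfsgLib.SU.ReflThree
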